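import Cfsg.Agent.Mrg.Omega.IId.Cv.MixSide
import Cfsg.Agent.Mrg.Omega.NSix.TkPair
import Cfsg.Agent.Mrg.Omega.IId.Cv.MixAny
import Cfsg.Agent.Mrg.Omega.F4Leaf.Pos
import Cfsg.Agent.Mrg.Omega.F4Leaf.NoWrFree
import Cfsg.Agent.Mrg.Omega.NSix.CaseJ.Exact
import Cfsg.Agent.Mrg.Omega.F4Leaf.Cen.Main
import Cfsg.Agent.Mrg.Omega.NSix.TLg
import Cfsg.Agent.Mrg.Omega.NO3S.Fit.PlaneAct
import Cfsg.Agent.Mrg.Omega.HT.Main
import Cfsg.Agent.Mrg.Omega.HTwo.AlphaP
import Cfsg.Agent.Mrg.Omega.NOne.LemmaT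
import Cfsg.Agent.Mrg.Omega.NO3b.UMethod
import Cfsg.Agent.Mrg.Omega.VP
import Cfsg.Agent.Mrg.Omega.BTwo.Split
import Cfsg.Agent.Mrg.Omega.HOneTwo.Basic
import Cfsg.Agent.Mrg.Omega.HTwo.Entry
import Cfsg.Agent.Mrg.Omega.IId.Match
import Cfsg.Agent.Mrg.Omega.F4Leaf.Exit.Tr
import Cfsg.Agent.Mrg.Omega.HOne.NSSide

-- merged: Cfsg.Agent.Mrg.Omega.IId.Cv.MixS
section

/-!
# THEOREM MIX-S (helper994): a mixed pair with a member of type `S_{2^m+1}` is impossible

`hs : Sit S P m A ε`, `V = V_P = V₀ × A`, `n = r_ij`, some element of `S` induces `(i j)`, `C = NN ε i j = C_G(n)`,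
`Q = O₂(C)`.  `V₁ ≤ Q` a four-group, `n ∈ V₁`, `N_G(V₁)` transitive on `V₁#`, `[V₁, V] ≠ 1`.  Then `⟨V₁^C⟩` and `⟨V^C⟩` are
not both abelian (`V₀ ≠ 1` or `m = 2`): `mix_sym`.
-/

set_option autoImplicit false
set_option linter.unusedSectionVars false

namespace Cfsg.Agent.Omega.IId.MixS

open Subgroup Cfsg Cfsg.Agent.ZN.ChoiceBase
open Cfsg.Agent.ZN (o2 zc zl)
open Cfsg.Agent.Omega.MinPar
open Cfsg.Agent.Omega.FrameFF (cv)
open Cfsg.Agent.Omega.S5.Def
open Cfsg.Agent.Omega.NSix.Base Cfsg.Agent.Omega.NSix.Basic Cfsg.Agent.Omega.NSix.FixApp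
open Cfsg.Agent.Omega.F4Leaf.Pos
open Cfsg.Agent.Omega.IId.NV (clC le_clC clC_conj clC_le clC_comm clC_sq conj_mem_clC)
open Cfsg.Agent.Omega.IId.Cv (E3 mem_E3 card_E3 norm_E3 le_of_E3)
open Cfsg.Agent.Omega.BTwo (mem_normalizer_of_conj)
open Cfsg.Agent.MinSimple.VModule (o2_isPGroup o2_le le_normalizer_o2)

universe u

variable {G : Type u} [Group G] [Finite G] {S : Sylow 2 G} {P : Subgroup G} {m : ℕ} {A : Subgroup G}
  {ε : (Fin (2 ^ m + 1) → ZMod 2) → G} (hs : Sit S P m A ε) {i j : Fin (2 ^ m + 1)} (hij : i ≠ j)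
include hs hij

/-- `2^m ∤ |C_G(n) : C_S(n)|` -/
theorem not_pow_dvd (hsw : ∃ a ∈ (S : Subgroup G), Acts ε a (Equiv.swap i j)) :
    ¬ 2 ^ m ∣ ((S : Subgroup G) ⊓ NN ε i j).relIndex (NN ε i j) := by
  have hf : Fact (Nat.Prime 2) := ⟨Nat.prime_two⟩
  have hyp : NSix.CosetAct.Hyp A P (S : Subgroup G) (o2 (NN ε i j)) ε i j :=
    { even := hs.split.even
      VP := hs.A_le_P
      two_le := hs.m2
      le := hs.par.le
      isP := S.isPGroup'
      max := fun T hT => by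
        obtain ⟨R, hR⟩ := hT.exists_le_sylow
        have h1 : Nat.card (R : Subgroup G) = Nat.card (S : Subgroup G) := by
          rw [R.card_eq_multiplicity, S.card_eq_multiplicity]
        rw [← h1]
        exact Subgroup.card_le_of_le hR
      fix0 := hs.split.fix0
      ne := hij
      swap := hsw
      isPW := o2_isPGroup _
      leW := o2_le _
      norm := le_normalizer_o2 _ }
  have h1 := hyp.relIndex_S_le
  set T := (S : Subgroup G) ⊓ NN ε i j with hT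
  have h1' : T.relIndex (S : Subgroup G) ≤ 2 ^ (m - 1) := h1
  have hTN : T ≤ NN ε i j := inf_le_right
  have hT2 : IsPGroup 2 T := S.isPGroup'.to_le inf_le_left
  obtain ⟨X, h2, h3, h4, h5⟩ := Half.exists_sylow_le hT2 hTN
  have h6 : T.relIndex X ≤ 2 ^ (m - 1) := by
    have h7 := Half.card_mul_relIndex h2
    have h8 : Nat.card T * T.relIndex (S : Subgroup G) = Nat.card (S : Subgroup G) :=
      Half.card_mul_relIndex inf_le_left
    have h9 : Nat.card X ≤ Nat.card (S : Subgroup G) := Half.card_le_sylow S h4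
    rw [← h7, ← h8] at h9
    exact (Nat.le_of_mul_le_mul_left h9 Nat.card_pos).trans h1'
  intro hd
  rw [← relIndex_mul_relIndex _ _ _ h2 h3] at hd
  have hc : Nat.Coprime (2 ^ m) (X.relIndex (NN ε i j)) :=
    Nat.Coprime.pow_left _ ((Nat.Prime.coprime_iff_not_dvd Nat.prime_two).2 h5)
  have hd' : 2 ^ m ∣ T.relIndex X := hc.dvd_of_dvd_mul_right hd
  have h7 : T.relIndex X ≠ 0 := Subgroup.index_ne_zero_of_finite
  have h8 := Nat.le_of_dvd (Nat.pos_of_ne_zero h7) hd'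
  have h9 : 2 ^ (m - 1) < 2 ^ m := Nat.pow_lt_pow_right (by norm_num) (by have := hs.m2; omega)
  omega

omit hij in
theorem five_le : 5 ≤ 2 ^ m + 1 := S5.Syl.five_le hs.m2

/-- a fifth point -/
theorem exists_fifth {k l : Fin (2 ^ m + 1)} : ∃ p, p ≠ i ∧ p ≠ j ∧ p ≠ k ∧ p ≠ l := by
  classical
  have hn := five_le hs
  by_contra hc
  push Not at hc
  have h1 : (Finset.univ : Finset (Fin (2 ^ m + 1))).card ≤ ({i, j, k, l} : Finset (Fin (2 ^ m + 1))).card := by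
    refine Finset.card_le_card fun x _ => ?_
    simp only [Finset.mem_insert, Finset.mem_singleton]
    by_cases hx : x = i
    · exact Or.inl hx
    by_cases hx' : x = j
    · exact Or.inr (Or.inl hx')
    by_cases hx'' : x = k
    · exact Or.inr (Or.inr (Or.inl hx''))
    · exact Or.inr (Or.inr (Or.inr (hc x hx hx' hx'')))
  have h2 : ({i, j, k, l} : Finset (Fin (2 ^ m + 1))).card ≤ 4 := Finset.card_le_four
  rw [Finset.card_univ, Fintype.card_fin] at h1
  omega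

/-- **THEOREM MIX-S** -/
theorem mix_sym (hsw : ∃ a ∈ (S : Subgroup G), Acts ε a (Equiv.swap i j))
    (hD : cv (S : Subgroup G) P ≠ ⊥ ∨ m = 2) {V₁ : Subgroup G} (hV4 : Nat.card V₁ = 4)
    (hVsq : ∀ v ∈ V₁, v * v = 1) (hnV : rr ε i j ∈ V₁)
    (hVt : ∀ v ∈ V₁, v ≠ 1 → ∃ g ∈ normalizer (V₁ : Set G), g * rr ε i j * g⁻¹ = v)
    (hVQ : V₁ ≤ o2 (NN ε i j)) (hmove : ∃ v ∈ V₁, Acts ε v (Equiv.swap i j))
    (hW₁ : ∀ g ∈ NN ε i j, ∀ v ∈ V₁, ∀ w ∈ V₁, v * (g * w * g⁻¹) = g * w * g⁻¹ * v)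
    (hW : ∀ g ∈ NN ε i j, ∀ v ∈ zl (S : Subgroup G) P, ∀ w ∈ zl (S : Subgroup G) P,
      v * (g * w * g⁻¹) = g * w * g⁻¹ * v) : False := by
  have hf : Fact (Nat.Prime 2) := ⟨Nat.prime_two⟩
  have hev := hs.split.even
  have hn5 := five_le hs
  set n := rr ε i j with hn
  set C := NN ε i j with hC
  set V := zl (S : Subgroup G) P with hVdef
  have hnn : n * n = 1 := rr_sq hev i j
  have hn1 : n ≠ 1 := rr_ne_one hev (by omega) hij
  have hAV : A ≤ V := hs.split.A_le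
  have hVle : V ≤ o2 C := hs.V_le hij
  have hCn : ∀ g : G, g * n = n * g → g ∈ C := fun g hg => mem_NN.2 hg
  -- `W` (of `V₁`), `W'` (of `V`)
  set W₁ := clC C V₁ with hW₁def
  set W' := clC C V with hW'def
  have hCQ : C ≤ normalizer (o2 C : Set G) := le_normalizer_o2 _
  have hW₁Q : W₁ ≤ o2 C := clC_le hCQ hVQ
  have hW'Q : W' ≤ o2 C := clC_le hCQ hVle
  have hW'WW : ∀ w ∈ W', ∀ q ∈ o2 C, w * q * w⁻¹ = q ∨ w * q * w⁻¹ = q * n := by
    intro w hw q hq
    exact hs.ww_conj hij hw hq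
  have W₁_comm : ∀ x ∈ W₁, ∀ y ∈ W₁, x * y = y * x := clC_comm hW₁
  have W₁_sq : ∀ x ∈ W₁, x * x = 1 := clC_sq hW₁ hVsq
  have Vsq : ∀ v ∈ V, v * v = 1 := fun v hv => by rw [← pow_two]; exact hs.V_sq hv
  have W'_comm : ∀ x ∈ W', ∀ y ∈ W', x * y = y * x := clC_comm hW
  have W'_sq : ∀ x ∈ W', x * x = 1 := clC_sq hW Vsq
  have hV₁W : V₁ ≤ W₁ := le_clC
  have hVW : V ≤ W' := le_clC
  have hnW' : n ∈ W' := hVW (hAV (rr_mem hev i j))
  have hQn : ∀ q ∈ o2 C, q * n = n * q := fun q hq => mem_NN.1 (o2_le C hq)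
  have comm1 : ∀ c ∈ o2 C, ∀ a ∈ W', c * a * c⁻¹ * a⁻¹ = 1 ∨ c * a * c⁻¹ * a⁻¹ = n := by
    intro c hc a ha
    rcases hW'WW a ha c hc with h | h
    · left
      calc c * a * c⁻¹ * a⁻¹ = c * (a * c * a⁻¹)⁻¹ := by group
        _ = 1 := by rw [h]; group
    · right
      calc c * a * c⁻¹ * a⁻¹ = c * (a * c * a⁻¹)⁻¹ := by group
        _ = c * n⁻¹ * c⁻¹ := by rw [h]; group
        _ = n := by
          rw [inv_eq_of_mul_eq_one_left hnn, hQn c hc, mul_inv_cancel_right]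
  have comm2 : ∀ c ∈ o2 C, ∀ a ∈ W', a * c * a⁻¹ * c⁻¹ = 1 ∨ a * c * a⁻¹ * c⁻¹ = n := by
    intro c hc a ha
    rcases hW'WW a ha c hc with h | h
    · left
      rw [h, mul_inv_cancel]
    · right
      rw [h, hQn c hc, mul_inv_cancel_right]
  obtain ⟨v₀, hv₀, hvs⟩ := hmove
  -- elements of `V` moving `V₁`
  have move : ∀ p, p ≠ i → p ≠ j → ¬ ∀ v ∈ V₁, rr ε i p * v = v * rr ε i p := by
    intro p hpi hpj hall
    have h1 := hall v₀ hv₀
    have h2 := rr_conj hvs i p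
    rw [← h1, mul_inv_cancel_right, Equiv.swap_apply_left, Equiv.swap_apply_of_ne_of_ne hpi hpj] at h2
    exact NSix.TkPair.rr_ne hev hn5 hpi.symm hij.symm hpi h2
  have hrW' : ∀ p, rr ε i p ∈ W' := fun p => hVW (hAV (rr_mem hev i p))
  obtain ⟨p₁, hp1, hp2, -, -⟩ := exists_fifth hs hij (k := i) (l := i)
  -- the node at `V₁`
  have N1 : MixAny.Node V₁ W' W₁ n :=
    { card := hV4
      sq := hVsq
      n_mem := hnV
      n_ne := hn1
      trans := hVt
      nA := fun g hg y hy => clC_conj (hCn g hg) hy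
      nC := fun g hg y hy => clC_conj (hCn g hg) hy
      A_comm := W'_comm
      A_sq := W'_sq
      C_comm := W₁_comm
      C_sq := W₁_sq
      n_A := hnW'
      V_C := hV₁W
      CA := fun c hc y hy => comm1 c (hW₁Q hc) y hy
      move := by
        by_contra hcon
        push Not at hcon
        exact move p₁ hp1 hp2 fun v hv => hcon _ (hrW' p₁) v hv }
  have s := N1.side
  let i₀ : MixAny.Pt V₁ := ⟨n, hnV, hn1⟩
  have hB : MixAny.tr W' n n = W' := N1.tr_n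
  have hC₁ : MixAny.tr W₁ n n = W₁ := N1.tr_n'
  have hzn : normalizer (zpowers n : Set G) = C := N1.norm_zp
  -- `T`, `b`
  set T := (S : Subgroup G) ⊓ NN ε i j with hT
  have hTn : ∀ t ∈ T, t * n = n * t := fun t ht => mem_NN.1 (mem_inf.1 ht).2
  have h0i : (0 : Fin (2 ^ m + 1)) ≠ i := by
    rintro rfl
    obtain ⟨a, ha, hσ⟩ := hsw
    have h1 := hs.split.fix0 a ha _ hσ
    rw [Equiv.swap_apply_left] at h1
    exact hij h1.symm
  have h0j : (0 : Fin (2 ^ m + 1)) ≠ j := by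
    rintro rfl
    obtain ⟨a, ha, hσ⟩ := hsw
    have h1 := hs.split.fix0 a ha _ hσ
    rw [Equiv.swap_apply_right] at h1
    exact hij h1
  have hbT : ∀ t ∈ T, rr ε i 0 * t * (rr ε i 0)⁻¹ * t⁻¹ ∈ zpowers n := by
    intro t ht
    obtain ⟨ht1, ht2⟩ := mem_inf.1 ht
    obtain ⟨σ, hσ⟩ := hev.perm t (hs.par.le ht1)
    have h0 := hs.split.fix0 t ht1 σ hσ
    have h1 := rr_conj hσ i j
    rw [mem_NN'.1 ht2] at h1
    have h2 : σ i = i ∨ σ i = j := by
      by_contra hcon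
      push Not at hcon
      exact NSix.TkPair.rr_ne hev hn5 (fun e => hij (σ.injective e)) (Ne.symm hcon.1) (Ne.symm hcon.2) h1.symm
    have h3 : t * rr ε i 0 * t⁻¹ = rr ε (σ i) 0 := by
      rw [rr_conj hσ, h0]
    have h4 : rr ε i 0 * t * (rr ε i 0)⁻¹ * t⁻¹ = rr ε i 0 * rr ε (σ i) 0 := by
      rw [← h3, rr_inv hev]; group
    rw [h4, MixAny.mem_zp hnn]
    rcases h2 with h2 | h2
    · left; rw [h2]; exact rr_sq hev _ _
    · right
      rw [h2, rr_symm hev j 0]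
      exact rr_add hev i 0 j
  have hTR : T ≤ normalizer (zpowers n : Set G) := by
    rw [hzn]; exact inf_le_right
  have h2m : ¬ 2 ^ m ∣ T.relIndex (normalizer (zpowers n : Set G)) := by
    rw [hzn]; exact not_pow_dvd hs hij hsw
  have hbV := move 0 h0i h0j
  -- elements of `I`
  have hI : ∀ u ∈ W', (∀ q ∈ o2 C, u * q = q * u) →
      u ∈ MixAny.tr W' n n ⊓ Mix.YY (MixAny.tr W' n n) (MixAny.tr W₁ n n) := by
    intro u hu hc
    rw [hB, hC₁]
    refine mem_inf.2 ⟨hu, ?_⟩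
    rw [Mix.mem_YY]
    exact ⟨fun y hy => hc y (hW'Q hy), fun y hy => hc y (hW₁Q hy)⟩
  have hz : ∀ k, k ≠ i → k ≠ j → zz ε k ∈ W' ∧ ∀ q ∈ o2 C, zz ε k * q = q * zz ε k := by
    intro k hki hkj
    refine ⟨hVW (hAV (zz_mem hev k)), ?_⟩
    have h1 : zz ε k ∈ centralizer (o2 C : Set G) := by
      refine NSix.CosetAct.zz_mem_of_rr hev (NSix.CosetAct.odd_n (by have := hs.m2; omega)) hij ⟨hki, hkj⟩
        (mem_centralizer_iff.2 fun q hq => hQn q hq) fun b hbi hbj _ => ?_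
      exact mem_centralizer_iff.2 fun q hq => ((hs.vn_cen hij (rr_mem_Vn ⟨hki, hkj⟩ ⟨hbi, hbj⟩)).2 q hq).symm
    exact fun q hq => (mem_centralizer_iff.1 h1 q hq).symm
  -- the good elements
  set B₀ := ⨅ x : MixAny.Pt V₁, MixAny.tr W' n x.1 with hB₀
  have hmemR : ∀ g, g ∈ zpowers n ↔ g = 1 ∨ g = n := fun g => MixAny.mem_zp hnn
  have good_kl : ∀ k l, k ≠ i → k ≠ j → l ≠ i → l ≠ j → k ≠ l → rr ε k l ∉ B₀ := by
    intro k l hki hkj hli hlj hkl hz
    obtain ⟨p, q1, q2, q3, q4⟩ := exists_fifth hs hij (k := k) (l := l)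
    have h1 := hs.vn_cen hkl (rr_mem_Vn ⟨hki.symm, hli.symm⟩ ⟨hkj.symm, hlj.symm⟩)
    have h2 := hs.vn_cen hkl (rr_mem_Vn ⟨hki.symm, hli.symm⟩ ⟨q3, q4⟩)
    exact MixAny.false_of_goodPt s (i := i₀) hmemR (b := rr ε i p) (z := rr ε k l) (hB.symm ▸ hrW' p) (move p q1 q2) hz
      h1.1 h2.2
  have good_V : ∀ z, V ≤ o2 (centralizer ({z} : Set G)) → o2 (centralizer ({z} : Set G)) ≤ centralizer (V : Set G) →
      z ∉ B₀ := by
    intro z h1 h2 hz
    refine MixAny.false_of_goodPt s (i := i₀) hmemR (b := rr ε i p₁) (z := z) (hB.symm ▸ hrW' p₁) (move p₁ hp1 hp2) hz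
      (h1 (hAV (rr_mem hev i j))) fun q hq => ?_
    exact mem_centralizer_iff.1 (h2 hq) _ (hAV (rr_mem hev i p₁))
  by_cases hm : m = 2
  · -- `m = 2`
    have hr0 : rr ε i j ∈ E3 hev i j 0 := mem_E3.2 (Or.inr (Or.inl rfl))
    have m2 : rr ε i 0 ∈ E3 hev i j 0 := mem_E3.2 (Or.inr (Or.inr (Or.inl rfl)))
    have m3 : rr ε j 0 ∈ E3 hev i j 0 := mem_E3.2 (Or.inr (Or.inr (Or.inr rfl)))
    have hEA : E3 hev i j 0 ≤ A := by
      intro x hx
      rcases mem_E3.1 hx with rfl | rfl | rfl | rfl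
      · exact one_mem _
      · exact rr_mem hev _ _
      · exact rr_mem hev _ _
      · exact rr_mem hev _ _
    have N2 : MixAny.Node (E3 hev i j 0) W₁ W' n :=
      { card := card_E3 hev hn5 hij h0i.symm h0j.symm
        sq := fun v hv => hev.sq_mem (hEA hv)
        n_mem := hr0
        n_ne := hn1
        trans := by
          intro v hv hv1
          rcases mem_E3.1 hv with rfl | rfl | rfl | rfl
          · exact absurd rfl hv1
          · exact ⟨1, one_mem _, by rw [hn]; group⟩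
          · obtain ⟨g, hg, hσ⟩ := hev.full (Equiv.swap j 0)
            have e1 : Equiv.swap j 0 i = i := Equiv.swap_apply_of_ne_of_ne hij h0i.symm
            have e2 : Equiv.swap j 0 j = 0 := Equiv.swap_apply_left _ _
            have e3 : Equiv.swap j 0 0 = j := Equiv.swap_apply_right _ _
            refine ⟨g, norm_E3 hev hσ ?_ ?_ ?_, ?_⟩
            · rw [e1, e2]; exact m2
            · rw [e1, e3]; exact hr0
            · rw [e2, e3, rr_symm hev]; exact m3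
            · rw [hn, rr_conj hσ, e1, e2]
          · obtain ⟨g, hg, hσ⟩ := hev.full (Equiv.swap i 0)
            have e1 : Equiv.swap i 0 j = j := Equiv.swap_apply_of_ne_of_ne hij.symm h0j.symm
            have e2 : Equiv.swap i 0 i = 0 := Equiv.swap_apply_left _ _
            have e3 : Equiv.swap i 0 0 = i := Equiv.swap_apply_right _ _
            refine ⟨g, norm_E3 hev hσ ?_ ?_ ?_, ?_⟩
            · rw [e1, e2, rr_symm hev]; exact m3
            · rw [e2, e3, rr_symm hev]; exact m2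
            · rw [e1, e3, rr_symm hev]; exact hr0
            · rw [hn, rr_conj hσ, e1, e2, rr_symm hev]
        nA := fun g hg y hy => clC_conj (hCn g hg) hy
        nC := fun g hg y hy => clC_conj (hCn g hg) hy
        A_comm := W₁_comm
        A_sq := W₁_sq
        C_comm := W'_comm
        C_sq := W'_sq
        n_A := hV₁W hnV
        V_C := (hEA.trans hAV).trans hVW
        CA := fun c hc y hy => comm2 y (hW₁Q hy) c hc
        move := by
          refine ⟨v₀, hV₁W hv₀, rr ε i 0, m2, fun h1 => ?_⟩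
          have h2 := rr_conj hvs i 0
          rw [h1, mul_inv_cancel_right, Equiv.swap_apply_left, Equiv.swap_apply_of_ne_of_ne h0i h0j] at h2
          exact NSix.TkPair.rr_ne hev hn5 h0i.symm hij.symm h0i h2 }
    let j₀ : MixAny.Pt (E3 hev i j 0) := ⟨n, hr0, hn1⟩
    have t : MixAny.TwoS V₁ (E3 hev i j 0) (fun x : MixAny.Pt V₁ => zpowers x.1)
        (fun x => MixAny.tr W' n x.1) (fun x => MixAny.tr W₁ n x.1) (fun x : MixAny.Pt (E3 hev i j 0) => zpowers x.1)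
        (fun x => MixAny.tr W₁ n x.1) (fun x => MixAny.tr W' n x.1) i₀ j₀ :=
      { s₁ := N1.side
        s₂ := N2.side
        hR := rfl
        hB := rfl
        hC := rfl
        ch := by
          intro y hy hyc
          change y ∈ o2 (normalizer (zpowers n : Set G))
          have hy' : y ∈ normalizer (zpowers n : Set G) := hy
          have hyc' : ∀ q ∈ o2 (normalizer (zpowers n : Set G)), y * q = q * y := hyc
          rw [hzn] at hy' hyc' ⊢
          exact Sit.char2 hij hs ⟨hy', mem_centralizer_iff.2 fun q hq => (hyc' q hq).symm⟩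
        NL := by
          intro K hK h1 h2 h3
          by_contra hK1
          rw [N1.ST_eq] at h1
          rw [N2.ST_eq] at h2
          have h3' : C ≤ normalizer (K : Set G) := hzn ▸ h3
          have hP : P ≤ normalizer (K : Set G) :=
            le_of_E3 hev hij h0i.symm h0j.symm (inf_le_right.trans h3') (inf_le_right.trans h2)
          have hloc := isLoc_normalizer S hK hK1 (hs.par.le.trans hP)
          have h4 := NV.zl_le_of_loc hs.c2 S hloc hP
          have h5 : n ∈ o2 (normalizer (K : Set G)) :=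
            MinSimple.VModule.zc_le _ (h4 (hAV (rr_mem hev i j)))
          have hv1 : v₀ ≠ 1 := by
            rintro rfl
            have h6 := hev.acts_unique (by omega : 3 ≤ 2 ^ m + 1) hvs Acts.one
            have h7 := congrArg (fun τ : Equiv.Perm (Fin (2 ^ m + 1)) => τ i) h6
            simp only [Equiv.swap_apply_left, Equiv.Perm.coe_one, id_eq] at h7
            exact hij h7.symm
          obtain ⟨g, hg, hgv⟩ := hVt v₀ hv₀ hv1
          have h6 : v₀ ∈ o2 (normalizer (K : Set G)) := by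
            rw [← hgv]
            exact (mem_normalizer_iff.1 (le_normalizer_o2 _ (h1 hg)) n).1 h5
          have h7 := (MinSimple.VModule.mem_zc.1 (h4 (hAV (rr_mem hev i p₁)))).2.1 v₀ h6
          have h2 := rr_conj hvs i p₁
          rw [h7, mul_inv_cancel_right, Equiv.swap_apply_left, Equiv.swap_apply_of_ne_of_ne hp1 hp2] at h2
          exact NSix.TkPair.rr_ne hev hn5 hp1.symm hij.symm hp1 h2 }
    have h4 : ¬ 4 ∣ T.relIndex (normalizer (zpowers n : Set G)) := by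
      have e : 2 ^ m = 4 := by rw [hm]; norm_num
      rw [e] at h2m
      exact h2m
    have hII := MixAny.II_le s (i := i₀) (T := T) (b := rr ε i 0) (fun y hy => t.Y_sq hy) (by
      intro q hq w hw
      have hq' : q ∈ o2 (normalizer (zpowers n : Set G)) := hq
      rw [hzn] at hq'
      have hw' : w ∈ W' := hB ▸ hw
      exact (MixAny.mem_zp hnn).2 (comm2 q hq' w hw')) hTR h4 (hB.symm ▸ hrW' 0) hbV hbT
    obtain ⟨l, hl1, hl2, hl3, -⟩ := exists_fifth hs hij (k := p₁) (l := p₁)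
    obtain ⟨q, hq1, hq2, hq3, hq4⟩ := exists_fifth hs hij (k := p₁) (l := l)
    have hx : ∀ k l, k ≠ i → k ≠ j → l ≠ i → l ≠ j →
        rr ε k l ∈ MixAny.tr W' n n ⊓ Mix.YY (MixAny.tr W' n n) (MixAny.tr W₁ n n) := by
      intro k l hki hkj hli hlj
      refine hI _ (mul_mem (hz k hki hkj).1 (hz l hli hlj).1) fun q hq => ?_
      exact (hs.vn_cen hij (rr_mem_Vn ⟨hki, hkj⟩ ⟨hli, hlj⟩)).2 q hq
    obtain ⟨r, hr, x', hx', ex⟩ := hII _ (hx p₁ l hp1 hp2 hl1 hl2)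
    obtain ⟨r', hr', y', hy', ey⟩ := hII _ (hx p₁ q hp1 hp2 hq1 hq2)
    rcases (hmemR r).1 hr with rfl | rfl
    · rw [one_mul] at ex
      exact good_kl p₁ l hp1 hp2 hl1 hl2 hl3.symm (ex ▸ hx')
    rcases (hmemR r').1 hr' with rfl | rfl
    · rw [one_mul] at ey
      exact good_kl p₁ q hp1 hp2 hq1 hq2 hq3.symm (ey ▸ hy')
    refine good_kl l q hl1 hl2 hq1 hq2 hq4.symm ?_
    have h1 : n * x' = x' * n := s.B0_comm hx' i₀ n (s.R_B i₀ hr')
    have e : rr ε l q = x' * y' := by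
      rw [← rr_add hev l p₁ q, rr_symm hev l p₁, ex, ey]
      calc n * x' * (n * y') = (n * x') * n * y' := by group
        _ = x' * (n * n) * y' := by rw [h1]; group
        _ = x' * y' := by rw [hnn, mul_one]
    rw [e]
    exact mul_mem hx' hy'
  · -- `m ≥ 3`
    have hm3 : 3 ≤ m := by have := hs.m2; omega
    obtain ⟨d, hd, hd1⟩ := (Subgroup.bot_or_exists_ne_one (cv (S : Subgroup G) P)).resolve_left
      (hD.resolve_right hm)
    have hdV : d ∈ V := hs.V0_le hd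
    have hdd : d⁻¹ = d := inv_eq_of_mul_eq_one_left (Vsq d hdV)
    have nd : d ∉ B₀ := good_V d (hs.cen_V hd hd1).1 (hs.cen_V hd hd1).2
    have ndz : ∀ v ∈ cv (S : Subgroup G) P, ∀ k, v * zz ε k ∉ B₀ := fun v hv k =>
      good_V _ (hs.cen_pt hm3 hv k).1 (hs.cen_pt hm3 hv k).2
    have nz : ∀ k, zz ε k ∉ B₀ := fun k => by
      have := ndz 1 (one_mem _) k
      rwa [one_mul] at this
    classical
    let f : Fin (2 ^ m + 1) → G := fun k => if k = i then 1 else if k = j then d else zz ε k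
    obtain ⟨j₁, hj₁, -⟩ := s.third i₀ i₀
    have hidx : B₀.relIndex (MixAny.tr W' n n ⊓ Mix.YY (MixAny.tr W' n n) (MixAny.tr W₁ n n)) ≤ 2 ^ (m - 1 + 1) := by
      refine MixAny.relIndex_B0_le s (i := i₀) (j := j₁) hj₁.symm ?_ hTR ?_ (hB.symm ▸ hrW' 0) hbV hbT
      · change Nat.card (zpowers j₁.1) = 2
        rw [Nat.card_zpowers]
        exact orderOf_eq_prime (by rw [pow_two]; exact hVsq _ j₁.2.1) j₁.2.2
      · rw [show m - 1 + 1 = m by omega]
        exact h2m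
    obtain ⟨a, b, hab, hmem⟩ := MixAny.exists_pigeon (B₀ := B₀)
        (I := MixAny.tr W' n n ⊓ Mix.YY (MixAny.tr W' n n) (MixAny.tr W₁ n n)) f (fun k => by
      by_cases h1 : k = i
      · simp only [f, if_pos h1]; exact one_mem _
      by_cases h2 : k = j
      · simp only [f, if_neg h1, if_pos h2]
        exact hI d (hVW hdV) fun q hq => (hs.comm_V0 hij hq hd).symm
      · simp only [f, if_neg h1, if_neg h2]
        exact hI _ (hz k h1 h2).1 (hz k h1 h2).2) (by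
      rw [Nat.card_fin]
      rw [show m - 1 + 1 = m by omega] at hidx
      omega)
    by_cases ha1 : a = i
    · by_cases hb1 : b = i
      · exact hab (ha1.trans hb1.symm)
      by_cases hb2 : b = j
      · simp only [f, if_pos ha1, if_neg hb1, if_pos hb2, inv_one, one_mul] at hmem
        exact nd hmem
      · simp only [f, if_pos ha1, if_neg hb1, if_neg hb2, inv_one, one_mul] at hmem
        exact nz b hmem
    by_cases ha2 : a = j
    · by_cases hb1 : b = i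
      · simp only [f, if_neg ha1, if_pos ha2, if_pos hb1, mul_one] at hmem
        exact nd (inv_mem_iff.1 hmem)
      by_cases hb2 : b = j
      · exact hab (ha2.trans hb2.symm)
      · simp only [f, if_neg ha1, if_pos ha2, if_neg hb1, if_neg hb2] at hmem
        rw [hdd] at hmem
        exact ndz d hd b hmem
    · by_cases hb1 : b = i
      · simp only [f, if_neg ha1, if_neg ha2, if_pos hb1, mul_one] at hmem
        exact nz a (inv_mem_iff.1 hmem)
      by_cases hb2 : b = j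
      · simp only [f, if_neg ha1, if_neg ha2, if_neg hb1, if_pos hb2] at hmem
        have h1 := inv_mem hmem
        rw [mul_inv_rev, inv_inv, hdd] at h1
        exact ndz d hd a h1
      · simp only [f, if_neg ha1, if_neg ha2, if_neg hb1, if_neg hb2] at hmem
        rw [zz_inv hev] at hmem
        exact good_kl a b ha1 ha2 hb1 hb2 hab hmem

end Cfsg.Agent.Omega.IId.MixS

end

-- merged: Cfsg.Agent.Mrg.Omega.F4Leaf.Syl.Mix
section

section


/-!
# LeafF4: mixed pairs (piece F of #21478), from 994's `MixS.mix_sym` (helper300)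

* `NonAb ε i j o` : two `C_G(r_ij)`-conjugates of `x₀ = r_io` do not commute; `nonAb_of` : it is enough that two
  `C_G(r_ij)`-conjugates of elements of `A` do not commute;
* `nonab` : for two members of types `S_{2^m+1}`, `S_{2^m'+1}` of a mutual pair, `r_ij = r'_kl` (`V₀ ≠ 1` or `m = 2`), one
  of `⟨V^{C_G(n)}⟩`, `⟨V'^{C_G(n)}⟩` is nonabelian.
-/

set_option autoImplicit false

namespace Cfsg.Agent.Omega.F4Leaf.Syl.Mix

open Subgroup Pointwise Cfsg Cfsg.Agent Cfsg.Agent.Omega.MinPar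
open Cfsg.Agent.ZN (o2 zc zl)
open Cfsg.Agent.ZN.ChoiceBase
open Cfsg.Agent.Omega.FrameFF (cv Single Free)
open Cfsg.Agent.Omega.S5.Def Cfsg.Agent.Omega.S5.Pair
open Cfsg.Agent.Omega.NSix.Base Cfsg.Agent.Omega.NSix.Basic
open Cfsg.Agent.Omega.F4Leaf.Def Cfsg.Agent.Omega.F4Leaf.Main Cfsg.Agent.Omega.F4Leaf.Facts
open Cfsg.Agent.Omega.IId.Cv (E3 mem_E3 card_E3 norm_E3)
open Cfsg.Agent.MinSimple.VModule (o2_isPGroup o2_le le_normalizer_o2)

universe u

variable {G : Type u} [Group G]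

/-- two `C_G(r_ij)`-conjugates of `r_io` do not commute -/
def NonAb {n : ℕ} (ε : (Fin n → ZMod 2) → G) (i j o : Fin n) : Prop :=
  ∃ h ∈ NN ε i j, rr ε i o * (h * rr ε i o * h⁻¹) ≠ h * rr ε i o * h⁻¹ * rr ε i o

/-- the pairs `{i, p}` generate `A` -/
theorem le_of_rr_i {m : ℕ} {A P : Subgroup G} {ε : (Fin (2 ^ m + 1) → ZMod 2) → G}
    (h : EvenSet (2 ^ m + 1) A P ε) (hm : 1 ≤ m) (i : Fin (2 ^ m + 1)) {W : Subgroup G}
    (hW : ∀ p, p ≠ i → rr ε i p ∈ W) : A ≤ W := by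
  have key : ∀ p, rr ε i p ∈ W := by
    intro p
    by_cases hp : p = i
    · subst hp
      have h1 : rr ε p p = 1 := h.sq _
      rw [h1]
      exact one_mem _
    · exact hW p hp
  refine NSix.CaseJ.LemQ.V_le_of_rr h hm fun p => ?_
  rw [← rr_add h p i 0, rr_symm h p i]
  exact mul_mem (key p) (key 0)

/-- it is enough to look at `A` -/
theorem nonAb_of {m : ℕ} {A P : Subgroup G} {ε : (Fin (2 ^ m + 1) → ZMod 2) → G}
    (h : EvenSet (2 ^ m + 1) A P ε) (hm : 1 ≤ m) {i j o : Fin (2 ^ m + 1)} (hij : i ≠ j) (oi : o ≠ i) (oj : o ≠ j)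
    (hx : ∃ g ∈ NN ε i j, ∃ a ∈ A, ∃ b ∈ A, a * (g * b * g⁻¹) ≠ g * b * g⁻¹ * a) : NonAb ε i j o := by
  by_contra hcon
  have hc : ∀ g ∈ NN ε i j, rr ε i o * (g * rr ε i o * g⁻¹) = g * rr ε i o * g⁻¹ * rr ε i o := by
    intro g hg
    by_contra h1
    exact hcon ⟨g, hg, h1⟩
  -- representatives
  have rep : ∀ p, p ≠ i → p ≠ j → ∃ c ∈ NN ε i j, c * rr ε i o * c⁻¹ = rr ε i p := by
    intro p pi pj
    obtain ⟨c, hcP, hcσ⟩ := h.full (Equiv.swap o p)
    refine ⟨c, ?_, ?_⟩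
    · rw [mem_NN']
      rw [rr_conj hcσ, Equiv.swap_apply_of_ne_of_ne oi.symm pi.symm, Equiv.swap_apply_of_ne_of_ne oj.symm pj.symm]
    · rw [rr_conj hcσ, Equiv.swap_apply_of_ne_of_ne oi.symm pi.symm, Equiv.swap_apply_left]
  have key : ∀ g ∈ NN ε i j, ∀ p, p ≠ i → ∀ q, q ≠ i →
      rr ε i p * (g * rr ε i q * g⁻¹) = g * rr ε i q * g⁻¹ * rr ε i p := by
    intro g hg p pi q qi
    have hgn := mem_NN.mp hg
    by_cases pj : p = j
    · subst pj
      -- `r_ij` is central in `C_G(r_ij)`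
      by_cases qj : q = p
      · subst qj
        rw [hgn, mul_inv_cancel_right]
      · obtain ⟨c, hc1, hc2⟩ := rep q qi qj
        have h1 : rr ε i p * rr ε i q = rr ε i q * rr ε i p := h.comm_mem (rr_mem h i p) (rr_mem h i q)
        calc rr ε i p * (g * rr ε i q * g⁻¹) = (rr ε i p * g) * rr ε i q * g⁻¹ := by group
          _ = (g * rr ε i p) * rr ε i q * g⁻¹ := by rw [hgn]
          _ = g * (rr ε i p * rr ε i q) * g⁻¹ := by group
          _ = g * (rr ε i q * rr ε i p) * g⁻¹ := by rw [h1]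
          _ = g * rr ε i q * g⁻¹ * (g * rr ε i p * g⁻¹) := by group
          _ = _ := by rw [hgn, mul_inv_cancel_right]
    · by_cases qj : q = j
      · subst qj
        rw [hgn, mul_inv_cancel_right]
        exact h.comm_mem (rr_mem h i p) (rr_mem h i q)
      · obtain ⟨c, hc1, hc2⟩ := rep p pi pj
        obtain ⟨d, hd1, hd2⟩ := rep q qi qj
        have h1 := hc (c⁻¹ * g * d) (mul_mem (mul_mem (inv_mem hc1) hg) hd1)
        rw [← hc2, ← hd2]
        calc c * rr ε i o * c⁻¹ * (g * (d * rr ε i o * d⁻¹) * g⁻¹)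
            = c * (rr ε i o * (c⁻¹ * g * d * rr ε i o * (c⁻¹ * g * d)⁻¹)) * c⁻¹ := by group
          _ = _ := by rw [h1]; group
  obtain ⟨g, hg, a, ha, b, hb, hne⟩ := hx
  refine hne ?_
  -- `A ≤ C(g r_iq g⁻¹)`
  have h1 : ∀ q, q ≠ i → ∀ a ∈ A, a * (g * rr ε i q * g⁻¹) = g * rr ε i q * g⁻¹ * a := by
    intro q qi a ha
    have h2 : A ≤ centralizer ({g * rr ε i q * g⁻¹} : Set G) :=
      le_of_rr_i h hm i fun p pi => mem_centralizer_singleton_iff.mpr (key g hg p pi q qi)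
    exact mem_centralizer_singleton_iff.mp (h2 ha)
  have h2 : A ≤ centralizer ({g⁻¹ * a * g} : Set G) := by
    refine le_of_rr_i h hm i fun q qi => mem_centralizer_singleton_iff.mpr ?_
    have h3 := h1 q qi a ha
    calc rr ε i q * (g⁻¹ * a * g) = g⁻¹ * (g * rr ε i q * g⁻¹ * a) * g := by group
      _ = _ := by rw [← h3]; group
  have h3 := mem_centralizer_singleton_iff.mp (h2 hb)
  calc a * (g * b * g⁻¹) = g * (g⁻¹ * a * g * b) * g⁻¹ := by group
    _ = _ := by rw [← h3]; group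

section pair

variable [Finite G] {S : Sylow 2 G} {P₁ P₂ : Subgroup G} {y : G} {m m' : ℕ} {A : Subgroup G}
  {ε : (Fin (2 ^ m + 1) → ZMod 2) → G} {A₂ : Subgroup G} {ε₂ : (Fin (2 ^ m' + 1) → ZMod 2) → G}

/-- **MIXED pairs.** -/
theorem nonab (hG : IsCharacteristicTwoType G) (hl : LabTwoZ S P₁ P₂ y m m' A ε A₂ ε₂) (hm : 2 ≤ m) (hm' : 2 ≤ m')
    (hc : cv (S : Subgroup G) P₁ ≠ ⊥ ∨ m = 2) {i j : Fin (2 ^ m + 1)} {k l : Fin (2 ^ m' + 1)} (hij : i ≠ j)
    (hkl : k ≠ l) (hr : rr ε i j = rr (fun x => y * ε₂ x * y⁻¹) k l)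
    (hb : ∃ b ∈ cj y A₂, Acts ε b (Equiv.swap i j)) :
    (∀ o, o ≠ i → o ≠ j → NonAb ε i j o) ∨
      ∀ o, o ≠ k → o ≠ l → NonAb (fun x => y * ε₂ x * y⁻¹) k l o := by
  by_contra hcon
  push Not at hcon
  obtain ⟨⟨o, oi, oj, hn1⟩, o', ok, ol, hn2⟩ := hcon
  have s₁ : Pos.Sit S P₁ m A ε := ⟨hG, hl.pair.star₁, hm, hl.split⟩
  have s₂ : Pos.Sit S P₂ m' A₂ ε₂ := ⟨hG, hl.pair.star₂, hm', hl.split₂⟩
  have f₂ := s₂.fac.conj y
  set ε' : (Fin (2 ^ m' + 1) → ZMod 2) → G := fun x => y * ε₂ x * y⁻¹ with hε'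
  have ev := hl.split.even
  have ev' : EvenSet (2 ^ m' + 1) (cj y A₂) (cj y P₂) ε' := f₂.ev
  have hn5 : 5 ≤ 2 ^ m + 1 := S5.Syl.five_le hm
  have hn5' : 5 ≤ 2 ^ m' + 1 := S5.Syl.five_le hm'
  have hNN : NN ε i j = NN ε' k l := by
    unfold NN
    rw [hr]
  -- everything commutes
  have c1 : ∀ g ∈ NN ε i j, ∀ a ∈ A, ∀ b ∈ A, a * (g * b * g⁻¹) = g * b * g⁻¹ * a := by
    intro g hg a ha b hb
    by_contra h1
    exact hn1 (nonAb_of ev (by omega) hij oi oj ⟨g, hg, a, ha, b, hb, h1⟩)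
  have c2 : ∀ g ∈ NN ε i j, ∀ a ∈ cj y A₂, ∀ b ∈ cj y A₂, a * (g * b * g⁻¹) = g * b * g⁻¹ * a := by
    intro g hg a ha b hb
    by_contra h1
    exact hn2 (nonAb_of ev' (by omega) hkl ok ol ⟨g, hNN ▸ hg, a, ha, b, hb, h1⟩)
  -- `V' ` acts as `⟨(i j)⟩`
  obtain ⟨b, hb, hbs⟩ := hb
  have hact : ∀ c ∈ cj y A₂, Acts ε c 1 ∨ Acts ε c (Equiv.swap i j) := by
    obtain ⟨i0, j0, -, -, hij0, -, -, -, h2, -⟩ := Two.exists_common hG hl hm hm'
    rcases h2 b hb with h3 | h3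
    · exfalso
      exact hij (Equiv.swap_eq_one_iff.mp (ev.acts_unique (by omega) hbs h3))
    · have h4 := ev.acts_unique (by omega) hbs h3
      intro c hc
      rw [h4]
      exact h2 c hc
  obtain ⟨p, pk, pl, hp⟩ : ∃ p, p ≠ k ∧ p ≠ l ∧ Acts ε (rr ε' k p) (Equiv.swap i j) := by
    by_contra hcon
    push Not at hcon
    have h1 : cj y A₂ ≤ centralizer (A : Set G) := by
      refine le_of_rr_i ev' (by omega) k fun p pk => ?_
      by_cases pl : p = l
      · subst pl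
        rw [← hr]
        exact mem_centralizer_iff.mpr fun a ha => ev.comm_mem ha (rr_mem ev i j)
      · rcases hact _ (rr_mem ev' k p) with h2 | h2
        · exact ev.acts_one_iff.mp h2
        · exact absurd h2 (hcon p pk pl)
    exact hij (Equiv.swap_eq_one_iff.mp (ev.acts_unique (by omega) hbs (ev.acts_one_iff.mpr (h1 hb))))
  have hr0 : rr ε' k l ∈ E3 ev' k l p := mem_E3.2 (Or.inr (Or.inl rfl))
  have m2 : rr ε' k p ∈ E3 ev' k l p := mem_E3.2 (Or.inr (Or.inr (Or.inl rfl)))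
  have m3 : rr ε' l p ∈ E3 ev' k l p := mem_E3.2 (Or.inr (Or.inr (Or.inr rfl)))
  have hEA : E3 ev' k l p ≤ cj y A₂ := by
    intro x hx
    rcases mem_E3.1 hx with rfl | rfl | rfl | rfl
    · exact one_mem _
    · exact rr_mem ev' _ _
    · exact rr_mem ev' _ _
    · exact rr_mem ev' _ _
  refine IId.MixS.mix_sym s₁ hij ⟨b, hl.le ?_, hbs⟩ hc (V₁ := E3 ev' k l p)
    (card_E3 ev' hn5' hkl pk.symm pl.symm) (fun v hv => ev'.sq_mem (hEA hv)) (hr ▸ hr0) ?_ ?_
    ⟨_, m2, hp⟩ (fun g hg v hv w hw => c2 g hg v (hEA hv) w (hEA hw)) ?_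
  · have h1 := hl.split₂.A_le
    rw [mem_cj] at hb ⊢
    exact h1 hb
  · intro v hv hv1
    rw [hr]
    rcases mem_E3.1 hv with rfl | rfl | rfl | rfl
    · exact absurd rfl hv1
    · exact ⟨1, one_mem _, by group⟩
    · obtain ⟨g, hg, hσ⟩ := ev'.full (Equiv.swap l p)
      have e1 : Equiv.swap l p k = k := Equiv.swap_apply_of_ne_of_ne hkl pk.symm
      have e2 : Equiv.swap l p l = p := Equiv.swap_apply_left _ _
      have e3 : Equiv.swap l p p = l := Equiv.swap_apply_right _ _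
      refine ⟨g, norm_E3 ev' hσ ?_ ?_ ?_, ?_⟩
      · rw [e1, e2]; exact m2
      · rw [e1, e3]; exact hr0
      · rw [e2, e3, rr_symm ev']; exact m3
      · rw [rr_conj hσ, e1, e2]
    · obtain ⟨g, hg, hσ⟩ := ev'.full (Equiv.swap k p)
      have e1 : Equiv.swap k p l = l := Equiv.swap_apply_of_ne_of_ne hkl.symm pl.symm
      have e2 : Equiv.swap k p k = p := Equiv.swap_apply_left _ _
      have e3 : Equiv.swap k p p = k := Equiv.swap_apply_right _ _
      refine ⟨g, norm_E3 ev' hσ ?_ ?_ ?_, ?_⟩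
      · rw [e1, e2, rr_symm ev']; exact m3
      · rw [e2, e3, rr_symm ev']; exact m2
      · rw [e1, e3, rr_symm ev']; exact hr0
      · rw [rr_conj hσ, e1, e2, rr_symm ev']
  · rw [hNN]
    exact hEA.trans (f₂.le k l hkl)
  · intro g hg v hv w hw
    obtain ⟨v0, hv0, a, ha, rfl⟩ := s₁.mul_eq hv
    obtain ⟨w0, hw0, b, hb, rfl⟩ := s₁.mul_eq hw
    have hgQ := le_normalizer_o2 _ hg
    have hwQ : g * (w0 * b) * g⁻¹ ∈ o2 (NN ε i j) :=
      (mem_normalizer_iff.mp hgQ _).mp (s₁.V_le hij hw)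
    have haQ : g⁻¹ * a * g ∈ o2 (NN ε i j) := by
      have h1 := (mem_normalizer_iff.mp (inv_mem hgQ) _).mp (s₁.fac.le i j hij ha)
      rwa [inv_inv] at h1
    have e1 : v0 * (g * (w0 * b) * g⁻¹) = g * (w0 * b) * g⁻¹ * v0 := (s₁.comm_V0 hij hwQ hv0).symm
    have e2 : g⁻¹ * a * g * w0 = w0 * (g⁻¹ * a * g) := s₁.comm_V0 hij haQ hw0
    have e3 := c1 g hg a ha b hb
    calc v0 * a * (g * (w0 * b) * g⁻¹) = v0 * (g * (g⁻¹ * a * g * w0) * g⁻¹ * (g * b * g⁻¹)) := by group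
      _ = v0 * (g * w0 * g⁻¹ * (a * (g * b * g⁻¹))) := by rw [e2]; group
      _ = v0 * (g * (w0 * b) * g⁻¹) * a := by rw [e3]; group
      _ = _ := by rw [e1]; group

end pair

end Cfsg.Agent.Omega.F4Leaf.Syl.Mix

end

section


/-!
# LeafF4: mixed pairs, natural partner (helper300)

* `natBoth` : `(P₁, P₂)` mutual, `P₁` of type `S_{2^m+1}`, `P₂` natural for `SL_2(2)` (`V₀ ≠ 1` or `m = 2`): either
  `⟨V^{C_G(n)}⟩` is nonabelian, or `(P₂, P₂)` is a mutual pair.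
-/

set_option autoImplicit false

namespace Cfsg.Agent.Omega.F4Leaf.Syl.Mix

open Subgroup Pointwise Cfsg Cfsg.Agent Cfsg.Agent.Omega.MinPar
open Cfsg.Agent.ZN (o2 zc zl)
open Cfsg.Agent.ZN.ChoiceBase
open Cfsg.Agent.Omega.FrameFF (cv Single Free)
open Cfsg.Agent.Omega.FrameMulti (IsNat)
open Cfsg.Agent.Omega.S5.Def Cfsg.Agent.Omega.S5.Pair
open Cfsg.Agent.Omega.NSix.Base Cfsg.Agent.Omega.NSix.Basic
open Cfsg.Agent.Omega.F4Leaf.Def Cfsg.Agent.Omega.F4Leaf.Main Cfsg.Agent.Omega.F4Leaf.Facts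
open Cfsg.Agent.Omega.NTwo (comm_iff mem_cent mem_smul)
open Cfsg.Agent.MinSimple.VModule (o2_isPGroup o2_le le_normalizer_o2 o2_le_of_sylow mem_zc zc_le zl_sq zc_le_zl
  le_normalizer_zl)

universe u

variable {G : Type u} [Group G] [Finite G] {S : Sylow 2 G} {P₁ P₂ : Subgroup G} {y : G} {m : ℕ} {A : Subgroup G}
  {ε : (Fin (2 ^ m + 1) → ZMod 2) → G}

/-- **MIXED pairs, natural partner.** -/
theorem natBoth (hG : IsCharacteristicTwoType G) (hl : LabZ S P₁ P₂ y m A ε) (hm : 2 ≤ m)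
    (hN : IsNat (S : Subgroup G) P₂ 1) (hc : cv (S : Subgroup G) P₁ ≠ ⊥ ∨ m = 2) {i j : Fin (2 ^ m + 1)} (hij : i ≠ j)
    (hb : ∃ b ∈ cj y (zl (S : Subgroup G) P₂), Acts ε b (Equiv.swap i j)) :
    (∀ o, o ≠ i → o ≠ j → NonAb ε i j o) ∨ ∃ g, Mutual (S : Subgroup G) P₂ P₂ g := by
  by_contra hcon
  push Not at hcon
  obtain ⟨⟨o, oi, oj, hn1⟩, hn2⟩ := hcon
  obtain ⟨F, i1, i2, i3, ⟨M⟩⟩ := hN
  have hF := F4Leaf.NatStep.card_F hG hm hl M
  have ev := hl.split.even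
  have hP₂ := hl.pair.star₂
  have s₁ : Pos.Sit S P₁ m A ε := ⟨hG, hl.pair.star₁, hm, hl.split⟩
  obtain ⟨r, hr, hrw⟩ := Cen.Entry.nat_two hG hP₂ M hF
  obtain ⟨K, N, s⟩ := MixOne.exists_spl hG hP₂ M.natOver (HOne.splitPar_of_two hG S hP₂ M.natOver hF)
  have hcard : Nat.card (HOne.Main.vx (S : Subgroup G) P₂) = 4 := by
    rw [N.card_V, hF]
    norm_num
  obtain ⟨b, hb, hbs⟩ := hb
  have e0 := hbs.single i
  rw [Equiv.swap_apply_left] at e0
  have hne1 : rr ε i j ≠ 1 := rr_ne_one ev s₁.three hij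
  have hrr : rr ε i j * rr ε i j = 1 := rr_sq ev i j
  -- `S^y` acts on `V'`
  have hact : ∀ q ∈ cj y (S : Subgroup G), ∀ w ∈ cj y (zl (S : Subgroup G) P₂),
      q * w * q⁻¹ = w ∨ q * w * q⁻¹ = (y * r * y⁻¹) * w := by
    intro q hq w hw
    rcases hrw _ (mem_cj.1 hq) _ (mem_cj.1 hw) with h1 | h1
    · left
      calc q * w * q⁻¹ = y * (y⁻¹ * q * y * (y⁻¹ * w * y) * (y⁻¹ * q * y)⁻¹) * y⁻¹ := by group
        _ = w := by rw [h1]; group
    · right
      calc q * w * q⁻¹ = y * (y⁻¹ * q * y * (y⁻¹ * w * y) * (y⁻¹ * q * y)⁻¹) * y⁻¹ := by group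
        _ = (y * r * y⁻¹) * w := by rw [h1]; group
  have h0 : zz ε i ∈ zl (S : Subgroup G) P₁ := hl.split.A_le (zz_mem ev i)
  have hcomm : zz ε i * b * (zz ε i)⁻¹ * b⁻¹ = rr ε i j := by
    rw [show (zz ε i)⁻¹ = zz ε i from ev.inv _, rr]
    calc zz ε i * b * zz ε i * b⁻¹ = zz ε i * (b * zz ε i * b⁻¹) := by group
      _ = zz ε i * zz ε j := by rw [show b * zz ε i * b⁻¹ = zz ε j from e0]
  -- `n = r^y`
  have hnr : rr ε i j = y * r * y⁻¹ := by
    rcases hact _ (hl.ge h0) b hb with h1 | h1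
    · rw [h1, mul_inv_cancel] at hcomm
      exact absurd hcomm.symm hne1
    · rw [h1, mul_inv_cancel_right] at hcomm
      exact hcomm.symm
  have hSn : ∀ q ∈ cj y (S : Subgroup G), q * rr ε i j * q⁻¹ = rr ε i j := by
    intro q hq
    have h1 : (y⁻¹ * q * y) * r * (y⁻¹ * q * y)⁻¹ = r := comm_iff.2 ((MinSimple.VModule.mem_zc.1 hr).2.1 _ (mem_cj.1 hq))
    rw [hnr]
    calc q * (y * r * y⁻¹) * q⁻¹ = y * ((y⁻¹ * q * y) * r * (y⁻¹ * q * y)⁻¹) * y⁻¹ := by group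
      _ = y * r * y⁻¹ := by rw [h1]
  have hSn' : ((y • S : Sylow 2 G) : Subgroup G) ≤ centralizer {rr ε i j} := by
    intro x hx
    rw [mem_smul] at hx
    exact mem_cent.2 (hSn x (mem_cj.2 hx))
  have hQS : ∀ q ∈ o2 (centralizer ({rr ε i j} : Set G)), q ∈ cj y (S : Subgroup G) := by
    intro q hq
    have h2 := o2_le_of_sylow (y • S : Sylow 2 G).isPGroup'
      (MinSimple.Basic.not_dvd_relIndex (y • S : Sylow 2 G) hSn') hq
    rw [mem_cj]
    exact mem_smul.1 h2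
  have hQW : ∀ q ∈ o2 (centralizer ({rr ε i j} : Set G)), ∀ w ∈ cj y (zl (S : Subgroup G) P₂),
      q * w * q⁻¹ = w ∨ q * w * q⁻¹ = rr ε i j * w := by
    intro q hq w hw
    rw [hnr]
    exact hact q (hQS q hq) w hw
  have hWQ : cj y (zl (S : Subgroup G) P₂) ≤ o2 (centralizer ({rr ε i j} : Set G)) := by
    intro w hw
    have hwS : w ∈ cj y (S : Subgroup G) := by
      rw [mem_cj] at hw ⊢
      exact ((hP₂.isLoc.zl_le S hG).trans (zc_le _)).trans (hP₂.isLoc.o2_le S) hw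
    refine S5.Mod.le_o2_of_comm hG (by rw [sq]; exact hrr) hne1 (comm_iff.1 (hSn w hwS)) fun q hq => ?_
    rcases hQW q hq w hw with h1 | h1
    · left
      rw [comm_iff] at h1
      calc w * q * w⁻¹ * q⁻¹ = (q * w) * w⁻¹ * q⁻¹ := by rw [h1]
        _ = 1 := by group
    · right
      have h2 : q * w = rr ε i j * w * q := by rw [← h1]; group
      calc w * q * w⁻¹ * q⁻¹ = rr ε i j * rr ε i j * w * q * w⁻¹ * q⁻¹ := by rw [hrr, one_mul]
        _ = rr ε i j * (rr ε i j * w * q) * w⁻¹ * q⁻¹ := by group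
        _ = rr ε i j * (q * w) * w⁻¹ * q⁻¹ := by rw [h2]
        _ = rr ε i j := by group
  -- `Q_n ≤ P₂^y`
  have hQP : o2 (NN ε i j) ≤ cj y P₂ := by
    intro q hq
    have h1 := hQS q hq
    rw [mem_cj] at h1 ⊢
    exact hP₂.le h1
  have hQn : ∀ g ∈ NN ε i j, ∀ x, x ∈ o2 (NN ε i j) → g⁻¹ * x * g ∈ o2 (NN ε i j) := fun g hg x hx => by
    have := (mem_normalizer_iff.mp (le_normalizer_o2 _ (inv_mem hg)) x).mp hx
    rwa [inv_inv] at this
  have hQn' : ∀ g ∈ NN ε i j, ∀ x, x ∈ o2 (NN ε i j) → g * x * g⁻¹ ∈ o2 (NN ε i j) := fun g hg x hx =>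
    (mem_normalizer_iff.mp (le_normalizer_o2 _ hg) x).mp hx
  have hPV : P₂ ≤ normalizer (zl (S : Subgroup G) P₂ : Set G) := le_normalizer_zl _ _
  -- `⟨V'^{C(n)}⟩` is abelian
  have c2 : ∀ g ∈ NN ε i j, ∀ v ∈ cj y (zl (S : Subgroup G) P₂), ∀ w ∈ cj y (zl (S : Subgroup G) P₂),
      v * (g * w * g⁻¹) = g * w * g⁻¹ * v := by
    intro g hg v hv w hw
    by_contra hne
    refine hn2 (y⁻¹ * g * y) ⟨hP₂, hP₂, ?_, ?_, ?_⟩
    · -- `V' ≤ N(V'^g)`
      intro x hx
      have h1 : y * x * y⁻¹ ∈ o2 (NN ε i j) := hWQ (by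
        rw [mem_cj]
        have e : y⁻¹ * (y * x * y⁻¹) * y = x := by group
        rwa [e])
      have h2 := hQP (hQn g hg _ h1)
      rw [mem_cj] at h2
      have h3 := mem_normalizer_iff.mp (hPV h2)
      change x ∈ normalizer ((cj (y⁻¹ * g * y) (zl (S : Subgroup G) P₂) : Subgroup G) : Set G)
      rw [mem_normalizer_iff]
      intro w
      rw [mem_cj, mem_cj, h3]
      have e : y⁻¹ * (g⁻¹ * (y * x * y⁻¹) * g) * y * ((y⁻¹ * g * y)⁻¹ * w * (y⁻¹ * g * y)) *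
          (y⁻¹ * (g⁻¹ * (y * x * y⁻¹) * g) * y)⁻¹ = (y⁻¹ * g * y)⁻¹ * (x * w * x⁻¹) * (y⁻¹ * g * y) := by group
      rw [e]
    · intro x hx
      have hx' : x ∈ cj (y⁻¹ * g * y) (zl (S : Subgroup G) P₂) := hx
      rw [mem_cj] at hx'
      have h1 : g⁻¹ * (y * x * y⁻¹) * g ∈ o2 (NN ε i j) := hWQ (by
        rw [mem_cj]
        have e : y⁻¹ * (g⁻¹ * (y * x * y⁻¹) * g) * y = (y⁻¹ * g * y)⁻¹ * x * (y⁻¹ * g * y) := by group
        rwa [e])
      have h2 := hQP (hQn' g hg _ h1)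
      have e : g * (g⁻¹ * (y * x * y⁻¹) * g) * g⁻¹ = y * x * y⁻¹ := by group
      rw [e, mem_cj] at h2
      have e' : y⁻¹ * (y * x * y⁻¹) * y = x := by group
      rw [e'] at h2
      exact hPV h2
    · intro h0
      apply hne
      rw [commutator_eq_bot_iff_le_centralizer] at h0
      rw [mem_cj] at hv hw
      have h2 : y⁻¹ * (g * w * g⁻¹) * y ∈ cj (y⁻¹ * g * y) (zl (S : Subgroup G) P₂) := by
        rw [mem_cj]
        have e : (y⁻¹ * g * y)⁻¹ * (y⁻¹ * (g * w * g⁻¹) * y) * (y⁻¹ * g * y) = y⁻¹ * w * y := by group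
        rwa [e]
      have h3 := (mem_centralizer_iff.mp (h0 hv)) _ h2
      calc v * (g * w * g⁻¹) = y * (y⁻¹ * v * y * (y⁻¹ * (g * w * g⁻¹) * y)) * y⁻¹ := by group
        _ = y * (y⁻¹ * (g * w * g⁻¹) * y * (y⁻¹ * v * y)) * y⁻¹ := by rw [h3]
        _ = _ := by group
  have c1 : ∀ g ∈ NN ε i j, ∀ a ∈ A, ∀ b ∈ A, a * (g * b * g⁻¹) = g * b * g⁻¹ * a := by
    intro g hg a ha b hb
    by_contra h1
    exact hn1 (nonAb_of ev (by omega) hij oi oj ⟨g, hg, a, ha, b, hb, h1⟩)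
  -- the four-group
  set V₁ : Subgroup G := cj y (HOne.Main.vx (S : Subgroup G) P₂) with hV₁
  have hVV : V₁ ≤ cj y (zl (S : Subgroup G) P₂) := cj_mono y s.NV
  have hnorm : P₂ ≤ normalizer (HOne.Main.vx (S : Subgroup G) P₂ : Set G) := s.PK.trans N.le
  have hnorm' : cj y P₂ ≤ normalizer (V₁ : Set G) := by
    intro x hx
    rw [mem_cj] at hx
    have h3 := mem_normalizer_iff.mp (hnorm hx)
    rw [mem_normalizer_iff]
    intro w
    rw [hV₁, mem_cj, mem_cj, h3]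
    have e : y⁻¹ * x * y * (y⁻¹ * w * y) * (y⁻¹ * x * y)⁻¹ = y⁻¹ * (x * w * x⁻¹) * y := by group
    rw [e]
  -- `b = b₀ d`
  rw [mem_cj] at hb
  obtain ⟨b₀, hb₀, d, hd, hbd⟩ := s.dec _ hb
  have hb' : b = y * b₀ * y⁻¹ * (y * d * y⁻¹) := by
    calc b = y * (y⁻¹ * b * y) * y⁻¹ := by group
      _ = _ := by rw [hbd]; group
  have hdc : ∀ x ∈ cj y P₂, x * (y * d * y⁻¹) = y * d * y⁻¹ * x := by
    intro x hx
    rw [mem_cj] at hx
    have h1 := mem_centralizer_iff.mp (s.cen hx) d hd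
    calc x * (y * d * y⁻¹) = y * (y⁻¹ * x * y * d) * y⁻¹ := by group
      _ = y * (d * (y⁻¹ * x * y)) * y⁻¹ := by rw [h1]
      _ = _ := by group
  have hSP : cj y (S : Subgroup G) ≤ cj y P₂ := cj_mono y hP₂.le
  have hAy : ∀ a ∈ zl (S : Subgroup G) P₁, a ∈ cj y P₂ := fun a ha => hSP (hl.ge ha)
  have hb₀V : y * b₀ * y⁻¹ ∈ V₁ := by
    rw [hV₁, mem_cj]
    have e : y⁻¹ * (y * b₀ * y⁻¹) * y = b₀ := by group
    rwa [e]
  have hdA : Acts ε (y * d * y⁻¹) 1 := by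
    rw [ev.acts_one_iff, mem_centralizer_iff]
    intro a ha
    exact hdc a (hAy a (hl.split.A_le ha))
  have hb₀s : Acts ε (y * b₀ * y⁻¹) (Equiv.swap i j) := by
    have e : y * b₀ * y⁻¹ = b * (y * d * y⁻¹)⁻¹ := by rw [hb', mul_inv_cancel_right]
    rw [e]
    have := hbs.mul hdA.inv
    rwa [inv_one, mul_one] at this
  have hnV : rr ε i j ∈ V₁ := by
    have e1 : zz ε i * (y * d * y⁻¹) = y * d * y⁻¹ * zz ε i := hdc _ (hAy _ h0)
    rw [← hcomm, hb']
    have e2 : zz ε i * (y * b₀ * y⁻¹ * (y * d * y⁻¹)) * (zz ε i)⁻¹ * (y * b₀ * y⁻¹ * (y * d * y⁻¹))⁻¹ =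
        zz ε i * (y * b₀ * y⁻¹) * (zz ε i)⁻¹ * (y * b₀ * y⁻¹)⁻¹ := by
      calc _ = zz ε i * (y * b₀ * y⁻¹) * ((y * d * y⁻¹) * (zz ε i)⁻¹ * (y * d * y⁻¹)⁻¹) * (y * b₀ * y⁻¹)⁻¹ := by
            group
        _ = _ := by
            have e3 : (y * d * y⁻¹) * (zz ε i)⁻¹ * (y * d * y⁻¹)⁻¹ = (zz ε i)⁻¹ := by
              rw [show (zz ε i)⁻¹ = zz ε i from ev.inv _, ← e1, mul_inv_cancel_right]
            rw [e3]
    rw [e2]
    exact mul_mem ((mem_normalizer_iff.mp (hnorm' (hAy _ h0)) _).mp hb₀V) (inv_mem hb₀V)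
  have hsq : ∀ v ∈ cj y (zl (S : Subgroup G) P₂), v * v = 1 := by
    intro v hv
    rw [mem_cj] at hv
    have h1 := zl_sq hP₂.le S.isPGroup' (MinSimple.Basic.not_dvd_relIndex S hP₂.le) (hP₂.isLoc.char2 S hG) _ hv
    rw [pow_two] at h1
    calc v * v = y * (y⁻¹ * v * y * (y⁻¹ * v * y)) * y⁻¹ := by group
      _ = 1 := by rw [h1]; group
  refine IId.MixS.mix_sym s₁ hij ⟨b, ?_, hbs⟩ hc (V₁ := V₁) ?_ (fun v hv => hsq v (hVV hv)) hnV ?_ ?_
    ⟨_, hb₀V, hb₀s⟩ (fun g hg v hv w hw => c2 g hg v (hVV hv) w (hVV hw)) ?_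
  · exact hl.le (mem_cj.2 hb)
  · rw [hV₁, ← hcard]
    exact card_cj y _
  · intro v hv hv1
    have hn0 : y⁻¹ * rr ε i j * y ∈ HOne.Main.vx (S : Subgroup G) P₂ := mem_cj.1 hnV
    have hv0 : y⁻¹ * v * y ∈ HOne.Main.vx (S : Subgroup G) P₂ := mem_cj.1 hv
    obtain ⟨g, hg, hgv⟩ := s.trans _ hn0 (fun e => hne1 (by
      calc rr ε i j = y * (y⁻¹ * rr ε i j * y) * y⁻¹ := by group
        _ = 1 := by rw [e]; group)) _ hv0 (fun e => hv1 (by
      calc v = y * (y⁻¹ * v * y) * y⁻¹ := by group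
        _ = 1 := by rw [e]; group))
    refine ⟨y * g * y⁻¹, hnorm' ?_, ?_⟩
    · rw [mem_cj]
      have e : y⁻¹ * (y * g * y⁻¹) * y = g := by group
      rwa [e]
    · calc y * g * y⁻¹ * rr ε i j * (y * g * y⁻¹)⁻¹ = y * (g * (y⁻¹ * rr ε i j * y) * g⁻¹) * y⁻¹ := by group
        _ = v := by rw [hgv]; group
  · exact hVV.trans hWQ
  · intro g hg v hv w hw
    obtain ⟨v0, hv0, a, ha, rfl⟩ := s₁.mul_eq hv
    obtain ⟨w0, hw0, b, hb, rfl⟩ := s₁.mul_eq hw
    have hgQ := le_normalizer_o2 _ hg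
    have hwQ : g * (w0 * b) * g⁻¹ ∈ o2 (NN ε i j) :=
      (mem_normalizer_iff.mp hgQ _).mp (s₁.V_le hij hw)
    have haQ : g⁻¹ * a * g ∈ o2 (NN ε i j) := by
      have h1 := (mem_normalizer_iff.mp (inv_mem hgQ) _).mp (s₁.fac.le i j hij ha)
      rwa [inv_inv] at h1
    have e1 : v0 * (g * (w0 * b) * g⁻¹) = g * (w0 * b) * g⁻¹ * v0 := (s₁.comm_V0 hij hwQ hv0).symm
    have e2 : g⁻¹ * a * g * w0 = w0 * (g⁻¹ * a * g) := s₁.comm_V0 hij haQ hw0
    have e3 := c1 g hg a ha b hb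
    calc v0 * a * (g * (w0 * b) * g⁻¹) = v0 * (g * (g⁻¹ * a * g * w0) * g⁻¹ * (g * b * g⁻¹)) := by group
      _ = v0 * (g * w0 * g⁻¹ * (a * (g * b * g⁻¹))) := by rw [e2]; group
      _ = v0 * (g * (w0 * b) * g⁻¹) * a := by rw [e3]; group
      _ = _ := by rw [e1]; group

end Cfsg.Agent.Omega.F4Leaf.Syl.Mix

end

end

-- merged: Cfsg.Agent.Mrg.Omega.F4Leaf.Big.OneZ
section

/-!
# LeafF4, any `V₀`, `m ≥ 2`: `Ω₁(Z(O₂(P))) = V` (helper223, #20220; `V₀ = 1` : #16105)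

* `mem_o2` (LEMMA T): `W`, `Z` normalised by `N`, `Z` a 2-group, `C_N(W) ≤ L`; an involution `y ∈ N ∩ O₂(L)` with
  `[y, Z] = 1`, `[y, W] ≤ Z` lies in `O₂(N)`.
* `Sit.big` : the structure `App.Big` for `Y = Ω₁(Z(O₂(P)))`;
* `Sit.omega_le` : `Ω₁(Z(O₂(P))) ≤ O₂(C_G(r_ij))` for all pairs;
* `Sit.omega_one` : `Ω₁(Z(O₂(P))) = V` if some `WP ε i j` moves `A` (type `T`);
* `Sit.zc_le` : `Ω₁(Z(T)) ≤ V` for `O₂(P) ≤ T ≤ S`.
-/

set_option autoImplicit false
set_option linter.dupNamespace false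

namespace Cfsg.Agent.Omega.F4Leaf.Big.OneZ

open Subgroup Pointwise Cfsg Cfsg.Agent Cfsg.Agent.Omega.MinPar
open Cfsg.Agent.ZN (o2 zc zl)
open Cfsg.Agent.Omega.FrameFF (cv)
open Cfsg.Agent.Omega.S5.Def Cfsg.Agent.Omega.S5.Syl Cfsg.Agent.Omega.F4Leaf.Def
open Cfsg.Agent.Omega.F4Leaf.Pos Cfsg.Agent.Omega.F4Leaf.Facts
open Cfsg.Agent.Omega.NSix.Base Cfsg.Agent.Omega.NSix.Basic Cfsg.Agent.Omega.NSix.FixApp
open Cfsg.Agent.Omega.NSix.Zero (WP mem_WP WP_norm WP_conj)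
open Cfsg.Agent.Omega.NO3S.Fit (exists_inverted_of_notMem)
open Cfsg.Agent.MinSimple.VModule (o2_isPGroup o2_le le_o2 le_normalizer_o2 o2_le_of_sylow mem_zc zc_le
  le_normalizer_zl zl_comm zl_sq)

universe u

variable {G : Type u} [Group G]

/-! ### LEMMA T -/

section lemT

/-- the elements of `N` which centralise `Z` and act trivially on `W / Z` -/
def RR (N W Z : Subgroup G) (hW : ∀ g ∈ N, ∀ w ∈ W, g * w * g⁻¹ ∈ W) : Subgroup G where
  carrier := {g | g ∈ N ∧ (∀ z ∈ Z, g * z = z * g) ∧ ∀ w ∈ W, g * w * g⁻¹ * w⁻¹ ∈ Z}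
  one_mem' := ⟨one_mem _, fun z _ => by rw [one_mul, mul_one], fun w _ => by
    have e : (1 : G) * w * 1⁻¹ * w⁻¹ = 1 := by group
    rw [e]
    exact one_mem _⟩
  mul_mem' := by
    rintro a b ⟨ha, ha1, ha2⟩ ⟨hb, hb1, hb2⟩
    refine ⟨mul_mem ha hb, fun z hz => ?_, fun w hw => ?_⟩
    · rw [mul_assoc, hb1 z hz, ← mul_assoc, ha1 z hz, mul_assoc]
    · have h1 := ha2 _ (hW b hb w hw)
      have h2 := hb2 w hw
      have e : a * b * w * (a * b)⁻¹ * w⁻¹ =
          a * (b * w * b⁻¹) * a⁻¹ * (b * w * b⁻¹)⁻¹ * (b * w * b⁻¹ * w⁻¹) := by group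
      rw [e]
      exact mul_mem h1 h2
  inv_mem' := by
    rintro a ⟨ha, ha1, ha2⟩
    refine ⟨inv_mem ha, fun z hz => ?_, fun w hw => ?_⟩
    · have h1 := ha1 z hz
      calc a⁻¹ * z = a⁻¹ * (z * a) * a⁻¹ := by group
        _ = a⁻¹ * (a * z) * a⁻¹ := by rw [h1]
        _ = z * a⁻¹ := by group
    · have h1 := ha2 _ (hW a⁻¹ (inv_mem ha) w hw)
      have e : a⁻¹ * w * a⁻¹⁻¹ * w⁻¹ = (a * (a⁻¹ * w * a⁻¹⁻¹) * a⁻¹ * (a⁻¹ * w * a⁻¹⁻¹)⁻¹)⁻¹ := by group
      rw [e]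
      exact inv_mem h1

variable {N W Z : Subgroup G} {hW : ∀ g ∈ N, ∀ w ∈ W, g * w * g⁻¹ ∈ W}

theorem RR_conj (hZ : ∀ g ∈ N, ∀ z ∈ Z, g * z * g⁻¹ ∈ Z) {g a : G} (hg : g ∈ N) (ha : a ∈ RR N W Z hW) :
    g * a * g⁻¹ ∈ RR N W Z hW := by
  obtain ⟨ha0, ha1, ha2⟩ := ha
  refine ⟨mul_mem (mul_mem hg ha0) (inv_mem hg), fun z hz => ?_, fun w hw => ?_⟩
  · have h1 := ha1 _ (hZ g⁻¹ (inv_mem hg) z hz)
    calc g * a * g⁻¹ * z = g * (a * (g⁻¹ * z * g⁻¹⁻¹)) * g⁻¹ := by group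
      _ = g * (g⁻¹ * z * g⁻¹⁻¹ * a) * g⁻¹ := by rw [h1]
      _ = z * (g * a * g⁻¹) := by group
  · have h1 := hZ g hg _ (ha2 _ (hW g⁻¹ (inv_mem hg) w hw))
    have e : g * a * g⁻¹ * w * (g * a * g⁻¹)⁻¹ * w⁻¹ =
        g * (a * (g⁻¹ * w * g⁻¹⁻¹) * a⁻¹ * (g⁻¹ * w * g⁻¹⁻¹)⁻¹) * g⁻¹ := by group
    rw [e]
    exact h1

/-- an element of odd order is a power of the inverse of its square -/
theorem mem_of_sq {t : G} {n : ℕ} (hn : Odd n) (ht : t ^ n = 1) {H : Subgroup G} (h : t⁻¹ * t⁻¹ ∈ H) : t ∈ H := by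
  obtain ⟨k, rfl⟩ := hn
  have e : t = ((t⁻¹ * t⁻¹)⁻¹) ^ (k + 1) := by
    rw [mul_inv_rev, inv_inv, ← pow_two, ← pow_mul]
    have e1 : 2 * (k + 1) = (2 * k + 1) + 1 := by ring
    rw [e1, pow_succ, ht, one_mul]
  rw [e]
  exact pow_mem (inv_mem h) _

/-- an element of 2-power order and of odd order is trivial -/
theorem eq_one_of_odd {x : G} {n k : ℕ} (hn : Odd n) (h1 : x ^ n = 1) (h2 : x ^ 2 ^ k = 1) : x = 1 := by
  have h3 : orderOf x ∣ n := orderOf_dvd_of_pow_eq_one h1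
  have h4 : orderOf x ∣ 2 ^ k := orderOf_dvd_of_pow_eq_one h2
  have h5 : Nat.Coprime n (2 ^ k) := (Nat.coprime_two_right.mpr hn).pow_right k
  exact orderOf_eq_one_iff.mp (Nat.eq_one_of_dvd_coprimes h5 h3 h4)

/-- **LEMMA T** -/
theorem mem_o2 [Finite G] {N L W Z : Subgroup G} (hW : ∀ g ∈ N, ∀ w ∈ W, g * w * g⁻¹ ∈ W)
    (hZ : ∀ g ∈ N, ∀ z ∈ Z, g * z * g⁻¹ ∈ Z) (hZ2 : IsPGroup 2 Z)
    (hK : ∀ g ∈ N, (∀ w ∈ W, g * w = w * g) → g ∈ L) {y : G} (hy2 : y * y = 1) (hyN : y ∈ N) (hyO : y ∈ o2 L)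
    (hyZ : ∀ z ∈ Z, y * z = z * y) (hyW : ∀ w ∈ W, y * w * y⁻¹ * w⁻¹ ∈ Z) : y ∈ o2 N := by
  by_contra hno
  have hno' : (⟨y, hyN⟩ : N) ∉ pCore 2 N := fun h1 => hno (mem_map_of_mem N.subtype h1)
  obtain ⟨⟨t, htN⟩, ht1, ht2, n, hn, htn⟩ := exists_inverted_of_notMem (Subtype.ext hy2) hno'
  replace ht1 : t ≠ 1 := fun h => ht1 (Subtype.ext h)
  replace ht2 : y * t * y⁻¹ = t⁻¹ := congrArg Subtype.val ht2
  replace htn : t ^ n = 1 := congrArg Subtype.val htn
  have hyR : y ∈ RR N W Z hW := ⟨hyN, hyZ, hyW⟩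
  have hsq : t⁻¹ * y * t * y⁻¹ = t⁻¹ * t⁻¹ := by
    rw [← ht2]
    group
  have htR : t ∈ RR N W Z hW := by
    refine mem_of_sq hn htn ?_
    rw [← hsq]
    have h1 := RR_conj hZ (inv_mem htN) hyR
    rw [inv_inv] at h1
    exact mul_mem h1 (inv_mem hyR)
  have htW : ∀ w ∈ W, t * w = w * t := by
    intro w hw
    have hz := htR.2.2 w hw
    set z := t * w * t⁻¹ * w⁻¹ with hzdef
    have hzt := htR.2.1 z hz
    have key : ∀ k : ℕ, t ^ k * w * (t ^ k)⁻¹ = z ^ k * w := by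
      intro k
      induction k with
      | zero => simp
      | succ k ih =>
        have h1 : t * z ^ k = z ^ k * t := by
          have : Commute t z := hzt
          exact this.pow_right k
        calc t ^ (k + 1) * w * (t ^ (k + 1))⁻¹ = t * (t ^ k * w * (t ^ k)⁻¹) * t⁻¹ := by rw [pow_succ']; group
          _ = t * z ^ k * w * t⁻¹ := by rw [ih]; group
          _ = z ^ k * (t * w * t⁻¹ * w⁻¹) * w := by rw [h1]; group
          _ = z ^ (k + 1) * w := by rw [← hzdef, pow_succ]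
    have h1 := key n
    rw [htn, one_mul, inv_one, mul_one] at h1
    have h2 : z ^ n = 1 := (mul_eq_right.mp h1.symm)
    obtain ⟨k, hk⟩ := hZ2 ⟨z, hz⟩
    have h3 : z = 1 := eq_one_of_odd hn h2 (congrArg Subtype.val hk)
    rw [hzdef, mul_inv_eq_one, mul_inv_eq_iff_eq_mul] at h3
    exact h3
  have htL := hK t htN htW
  have htO : t ∈ o2 L := by
    refine mem_of_sq hn htn ?_
    rw [← hsq]
    have h1 := (mem_normalizer_iff.mp (le_normalizer_o2 L (inv_mem htL)) y).mp hyO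
    rw [inv_inv] at h1
    exact mul_mem h1 (inv_mem hyO)
  obtain ⟨k, hk⟩ := o2_isPGroup L ⟨t, htO⟩
  exact ht1 (eq_one_of_odd hn htn (congrArg Subtype.val hk))

end lemT

/-! ### `Ω₁(Z(O₂(P)))` -/

variable [Finite G] {S : Sylow 2 G} {P : Subgroup G} {m : ℕ} {A : Subgroup G}
  {ε : (Fin (2 ^ m + 1) → ZMod 2) → G}

section
variable (h : Sit S P m A ε)
include h

theorem _root_.Cfsg.Agent.Omega.F4Leaf.Pos.Sit.mem_o2_of {s : G} (hs : s ∈ (S : Subgroup G))
    (hsA : s ∈ centralizer (A : Set G)) : s ∈ o2 P := by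
  rw [← h.par.inf_centralizer S h.c2]
  refine ⟨hs, mem_centralizer_iff.mpr fun v hv => ?_⟩
  obtain ⟨c, hc, a, ha, rfl⟩ := h.mul_eq hv
  have h1 := mem_centralizer_iff.mp hsA a ha
  calc c * a * s = c * (a * s) := by group
    _ = c * s * a := by rw [h1, mul_assoc]
    _ = s * (c * a) := by rw [← h.V0_comm hc (h.par.le hs), mul_assoc]

theorem _root_.Cfsg.Agent.Omega.F4Leaf.Pos.Sit.o2_le_S : o2 P ≤ (S : Subgroup G) := by
  rw [← h.par.inf_centralizer S h.c2]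
  exact inf_le_left

/-- `C_G(O₂(P)) ≤ O₂(P)` -/
theorem _root_.Cfsg.Agent.Omega.F4Leaf.Pos.Sit.mem_o2_of_cent {g : G} (hg : ∀ q ∈ o2 P, g * q = q * g) :
    g ∈ o2 P := by
  have h1 := h.par.isLoc.normalizer_o2 S
  have h2 : o2 (normalizer (o2 P : Set G)) ≤ o2 P := o2_le_o2 S h.par.le (le_normalizer_o2 P)
  have h3 : g ∈ centralizer (o2 P : Set G) := mem_centralizer_iff.mpr fun q hq => (hg q hq).symm
  have h4 : g ∈ centralizer (o2 (normalizer (o2 P : Set G)) : Set G) :=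
    mem_centralizer_iff.mpr fun q hq => (hg q (h2 hq)).symm
  exact h2 (h1.char2 S h.c2 ⟨centralizer_le_normalizer _ h3, h4⟩)

theorem _root_.Cfsg.Agent.Omega.F4Leaf.Pos.Sit.V_le_zc : zl (S : Subgroup G) P ≤ zc (o2 P) :=
  h.par.isLoc.zl_le S h.c2

theorem _root_.Cfsg.Agent.Omega.F4Leaf.Pos.Sit.big :
    App.Big (S : Subgroup G) P (cv (S : Subgroup G) P) A (zc (o2 P)) ε where
  ev := h.split.even
  fix0 := h.split.fix0
  le := h.par.le
  comm y hy y' hy' := (mem_zc.mp hy').2.1 y (mem_zc.mp hy).1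
  sq y hy := by rw [← pow_two]; exact (mem_zc.mp hy).2.2
  ge := h.split.A_le.trans h.V_le_zc
  nrm g hg y hy := (mem_normalizer_iff.mp
    (MinSimple.VModule.normalizer_le_normalizer_zc _ (le_normalizer_o2 P hg)) y).mp hy
  syl s hs hsA := by
    rw [mem_centralizer_iff]
    intro y hy
    exact ((mem_zc.mp hy).2.1 s (h.mem_o2_of hs hsA)).symm
  cz _ hv _ hg := h.V0_comm hv hg
  fixed y hy hys := by
    have h1 : y ∈ zc (S : Subgroup G) := mem_zc.mpr ⟨h.o2_le_S (mem_zc.mp hy).1, hys, (mem_zc.mp hy).2.2⟩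
    rcases h.split.zc_mul h.c2 h.par (by have := h.m2; omega) h1 with h2 | h2
    · exact ⟨y, h2, Or.inl rfl⟩
    · refine ⟨_, h2, Or.inr ?_⟩
      rw [mul_assoc, h.split.even.sq, mul_one]

/-- an element of `P` centralising `A` centralises `Ω₁(Z(O₂(P)))` -/
theorem _root_.Cfsg.Agent.Omega.F4Leaf.Pos.Sit.comm_of {g y : G} (hg : g ∈ P) (hA : g ∈ centralizer (A : Set G))
    (hy : y ∈ zc (o2 P)) : g * y = y * g :=
  (mem_centralizer_iff.mp (h.big.cen h.hS2 S.isPGroup' hg hA) y hy).symm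

theorem _root_.Cfsg.Agent.Omega.F4Leaf.Pos.Sit.act_eq {g k y : G} (hg : g ∈ P) (hk : k ∈ P)
    {σ : Equiv.Perm (Fin (2 ^ m + 1))} (hgσ : Acts ε g σ) (hkσ : Acts ε k σ) (hy : y ∈ zc (o2 P)) :
    g * y * g⁻¹ = k * y * k⁻¹ :=
  h.big.act_eq h.hS2 S.isPGroup' hg hk hgσ hkσ hy

/-- `Ω₁(Z(O₂(P))) ≤ O₂(N_G(A))` -/
theorem _root_.Cfsg.Agent.Omega.F4Leaf.Pos.Sit.zc_le_o2 : zc (o2 P) ≤ o2 (normalizer (A : Set G)) := by
  intro y hy
  have hE := h.split.even
  have hA1 : A ≠ ⊥ := by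
    intro h0
    have h1 := rr_mem hE 0 (Fin.last _)
    rw [h0, mem_bot] at h1
    refine rr_ne_one hE h.three (fun h2 => ?_) h1
    have h3 := congrArg Fin.val h2
    have h4 : 0 < 2 ^ m := Nat.two_pow_pos m
    simp only [Fin.val_last] at h3
    change 0 = 2 ^ m at h3
    omega
  have h2 : o2 (normalizer (A : Set G)) ≤ o2 P := o2_le_o2 S h.par.le hE.le_normalizer
  have hyA : y ∈ centralizer (A : Set G) := mem_centralizer_iff.mpr fun a ha =>
    (mem_zc.mp hy).2.1 a (zc_le _ (h.big.ge ha))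
  exact MinSimple.Basic.char2_normalizer h.c2 hE.isPGroup hA1
    ⟨centralizer_le_normalizer _ hyA, mem_centralizer_iff.mpr fun q hq => (mem_zc.mp hy).2.1 q (h2 hq)⟩

/-- **`Ω₁(Z(O₂(P))) ≤ O₂(C_G(r_ij))`** -/
theorem _root_.Cfsg.Agent.Omega.F4Leaf.Pos.Sit.omega_le {i j : Fin (2 ^ m + 1)} (hij : i ≠ j) :
    zc (o2 P) ≤ o2 (NN ε i j) := by
  intro y hy
  have hE := h.split.even
  have hQP := h.o2_le_P hij
  have hWQ : WP ε i j ≤ o2 (NN ε i j) := h.fac.ww h.c2 h.three hij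
  have hA : A ≤ WP ε i j := fun _ ha => h.fac.mem_wp hij ha
  have hyy : y * y = 1 := h.big.sq y hy
  have hyi : y⁻¹ = y := inv_eq_of_mul_eq_one_left hyy
  have hyN : y ∈ NN ε i j := by
    rw [mem_NN]
    exact (h.big.comm y hy _ (h.big.ge (rr_mem hE i j)))
  have hcd : ∀ q ∈ o2 (NN ε i j), Acts ε q 1 → ∀ x ∈ zc (o2 P), q * x = x * q := fun q hq h1 x hx =>
    h.comm_of (hQP hq) (hE.acts_one_iff.mp h1) hx
  refine mem_o2 (L := normalizer (A : Set G)) (W := WP ε i j) (Z := WP ε i j ⊓ centralizer (o2 (NN ε i j) : Set G))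
    (fun g hg w hw => WP_norm hg hw) ?_ ?_ ?_ hyy hyN (h.zc_le_o2 hy) ?_ ?_
  · rintro g hg z ⟨hz, hz'⟩
    have h1 := NSix.End.Six.norm_cen _ (le_normalizer_o2 _ hg)
    exact ⟨WP_norm hg hz, (mem_normalizer_iff.mp h1 _).mp hz'⟩
  · exact (o2_isPGroup (NN ε i j)).to_le (inf_le_left.trans hWQ)
  · intro g _ hgW
    refine centralizer_le_normalizer _ (mem_centralizer_iff.mpr fun a ha => (hgW a (hA ha)).symm)
  · rintro z ⟨hz, hz'⟩
    have h1 : z ∈ centralizer (A : Set G) := mem_centralizer_iff.mpr fun a ha =>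
      mem_centralizer_iff.mp hz' a (hWQ (hA ha))
    exact (h.comm_of (hQP (hWQ hz)) h1 hy).symm
  · intro w hw
    have hwQ := hWQ hw
    have hwP := hQP hwQ
    have hwy : w * y * w⁻¹ ∈ zc (o2 P) := h.big.nrm w hwP y hy
    have e1 : y * w * y⁻¹ * w⁻¹ = y * (w * y * w⁻¹) := by
      rw [hyi]
      group
    refine ⟨(WP ε i j).mul_mem (WP_norm hyN hw) ((WP ε i j).inv_mem hw), mem_centralizer_iff.mpr fun q hq => ?_⟩
    rw [e1]
    have heY : y * (w * y * w⁻¹) ∈ zc (o2 P) := mul_mem hy hwy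
    rcases h.acts hij hq with h1 | h1
    · exact hcd q hq h1 _ heY
    · rcases h.acts hij hwQ with h2 | h2
      · have h3 : w * y * w⁻¹ = y := by rw [hcd w hwQ h2 y hy, mul_inv_cancel_right]
        rw [h3, hyy, one_mul, mul_one]
      · have h3 := h.act_eq (hQP hq) hwP h1 h2 heY
        have h4 : Acts ε (w * w) 1 := by
          have h5 := h2.mul h2
          rwa [Equiv.swap_mul_self] at h5
        have h5 := hcd (w * w) (mul_mem hwQ hwQ) h4 y hy
        have h6 : w * (y * (w * y * w⁻¹)) * w⁻¹ = y * (w * y * w⁻¹) := by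
          calc w * (y * (w * y * w⁻¹)) * w⁻¹ = w * y * w⁻¹ * (w * w * y) * (w * w)⁻¹ := by group
            _ = w * y * w⁻¹ * (y * (w * w)) * (w * w)⁻¹ := by rw [h5]
            _ = w * y * w⁻¹ * y := by group
            _ = y * (w * y * w⁻¹) := h.big.comm _ hwy _ hy
        rw [h6] at h3
        exact mul_inv_eq_iff_eq_mul.mp h3

/-- the transpositions for all pairs -/
theorem _root_.Cfsg.Agent.Omega.F4Leaf.Pos.Sit.mov
    (hN : ∃ i j, i ≠ j ∧ ∃ g ∈ WP ε i j, ¬ g ∈ centralizer (A : Set G)) {i j : Fin (2 ^ m + 1)} (hij : i ≠ j) :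
    ∃ w ∈ WP ε i j, Acts ε w (Equiv.swap i j) := by
  have hE := h.split.even
  obtain ⟨i0, j0, hij0, g, hg, hgV⟩ := hN
  have hgs : Acts ε g (Equiv.swap i0 j0) :=
    (h.acts hij0 (h.fac.ww h.c2 h.three hij0 hg)).resolve_left fun h1 => hgV (hE.acts_one_iff.mp h1)
  obtain ⟨σ, h1, h2, -⟩ := exists_perm hij0 hij
  obtain ⟨p, -, hp⟩ := hE.full σ
  refine ⟨p * g * p⁻¹, ?_, ?_⟩
  · have := WP_conj hp hg
    rwa [h1, h2] at this
  · have h3 := hp.conj hgs
    have h4 : σ * Equiv.swap i0 j0 * σ⁻¹ = Equiv.swap i j := by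
      rw [← Equiv.swap_apply_apply, h1, h2]
    rwa [h4] at h3

/-- an element of `Ω₁(Z(O₂(P)))` centralised by elements inducing the transpositions `(a 0)` is in `V` -/
theorem _root_.Cfsg.Agent.Omega.F4Leaf.Pos.Sit.mem_of_star {y : G} (hy : y ∈ zc (o2 P))
    (hs : ∀ a : Fin (2 ^ m + 1), a ≠ 0 → ∃ w ∈ P, Acts ε w (Equiv.swap a 0) ∧ w * y = y * w) :
    y ∈ zl (S : Subgroup G) P := by
  have hE := h.split.even
  -- the permutations induced by elements of `C_P(y)`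
  let H : Subgroup (Equiv.Perm (Fin (2 ^ m + 1))) :=
    { carrier := {σ | ∃ w ∈ P, Acts ε w σ ∧ w * y = y * w}
      one_mem' := ⟨1, one_mem _, Acts.one, by rw [one_mul, mul_one]⟩
      mul_mem' := by
        rintro a b ⟨w, hw, hw1, hw2⟩ ⟨v, hv, hv1, hv2⟩
        exact ⟨w * v, mul_mem hw hv, hw1.mul hv1, by rw [mul_assoc, hv2, ← mul_assoc, hw2, mul_assoc]⟩
      inv_mem' := by
        rintro a ⟨w, hw, hw1, hw2⟩
        refine ⟨w⁻¹, inv_mem hw, hw1.inv, ?_⟩
        rw [inv_mul_eq_iff_eq_mul, ← mul_assoc, hw2, mul_inv_cancel_right] }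
  have h0 : ∀ a : Fin (2 ^ m + 1), a ≠ 0 → Equiv.swap a 0 ∈ H := hs
  have hsw : ∀ a b : Fin (2 ^ m + 1), a ≠ b → Equiv.swap a b ∈ H := by
    intro a b hab
    by_cases ha : a = 0
    · subst ha
      rw [Equiv.swap_comm]
      exact h0 b hab.symm
    by_cases hb : b = 0
    · subst hb
      exact h0 a ha
    have h1 : Equiv.swap a 0 * Equiv.swap b 0 * (Equiv.swap a 0)⁻¹ = Equiv.swap a b := by
      rw [← Equiv.swap_apply_apply, Equiv.swap_apply_right, Equiv.swap_apply_of_ne_of_ne hab.symm hb,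
        Equiv.swap_comm]
    rw [← h1]
    exact mul_mem (mul_mem (h0 a ha) (h0 b hb)) (inv_mem (h0 a ha))
  have hH : H = ⊤ := by
    rw [eq_top_iff, ← Equiv.Perm.closure_isSwap, closure_le]
    rintro _ ⟨a, b, hab, rfl⟩
    exact hsw a b hab
  have hyS : ∀ s ∈ (S : Subgroup G), s * y = y * s := by
    intro s hs'
    obtain ⟨σ, hσ⟩ := hE.perm s (h.par.le hs')
    obtain ⟨w, hw, hw1, hw2⟩ : σ ∈ H := hH ▸ mem_top σ
    have h1 := h.act_eq (h.par.le hs') hw hσ hw1 hy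
    rw [hw2, mul_inv_cancel_right] at h1
    exact mul_inv_eq_iff_eq_mul.mp h1
  obtain ⟨v, hv, h1 | h1⟩ := h.big.fixed y hy hyS
  · rw [h1]
    exact h.V0_le hv
  · rw [h1]
    exact mul_mem (h.V0_le hv) (h.split.A_le (hE.mem _))

/-- **`Ω₁(Z(O₂(P))) = V`, any `V₀`** -/
theorem _root_.Cfsg.Agent.Omega.F4Leaf.Pos.Sit.omega_one
    (hN : ∃ i j, i ≠ j ∧ ∃ g ∈ WP ε i j, ¬ g ∈ centralizer (A : Set G)) :
    zc (o2 P) = zl (S : Subgroup G) P := by
  classical
  refine le_antisymm (fun y hy => ?_) h.V_le_zc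
  have hE := h.split.even
  have hmov := fun (a : Fin (2 ^ m + 1)) (ha : a ≠ 0) => h.mov hN ha
  choose w hw hws using hmov
  have hwQ : ∀ a ha, w a ha ∈ o2 (NN ε a 0) := fun a ha => h.fac.ww h.c2 h.three ha (hw a ha)
  let x : Fin (2 ^ m + 1) → ZMod 2 := fun a => if ha : a ≠ 0 then (if w a ha * y * (w a ha)⁻¹ = y then 0 else 1) else 0
  have hx0 : x 0 = 0 := dif_neg fun h1 => h1 rfl
  have hxa : ∀ a (ha : a ≠ 0), x a = if w a ha * y * (w a ha)⁻¹ = y then 0 else 1 := fun a ha => dif_pos ha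
  have hxV : ε x ∈ zc (o2 P) := h.big.ge (hE.mem x)
  have key : y * ε x ∈ zl (S : Subgroup G) P := by
    refine h.mem_of_star (mul_mem hy hxV) fun a ha => ⟨w a ha, h.o2_le_P ha (hwQ a ha), hws a ha, ?_⟩
    have h1 := h.fac.wp_conj (h.omega_le ha hy) (hw a ha)
    have h2 : w a ha * ε x * (w a ha)⁻¹ = ε (x ∘ (Equiv.swap a 0).symm) := hws a ha x
    rw [NSix.OmegaOne.comp_swap ha] at h2
    rw [← mul_inv_eq_iff_eq_mul]
    have e : w a ha * (y * ε x) * (w a ha)⁻¹ = w a ha * y * (w a ha)⁻¹ * (w a ha * ε x * (w a ha)⁻¹) := by group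
    rw [e, h2, hx0, add_zero, hxa a ha]
    by_cases h3 : w a ha * y * (w a ha)⁻¹ = y
    · rw [if_pos h3, zero_smul, add_zero, h3]
    · have h4 := h1.resolve_left h3
      rw [if_neg h3, one_smul, h4, hE.add, hE.add]
      have hr : rr ε a 0 ∈ zc (o2 P) := h.big.ge (rr_mem hE a 0)
      change y * rr ε a 0 * (ε x * rr ε a 0) = y * ε x
      rw [mul_assoc, ← mul_assoc (rr ε a 0), h.big.comm _ hr _ hxV, mul_assoc (ε x), rr_sq hE, mul_one]
  have h1 : y = y * ε x * ε x := by rw [mul_assoc, hE.sq, mul_one]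
  rw [h1]
  exact mul_mem key (h.split.A_le (hE.mem x))

/-- `Ω₁(Z(T)) ≤ V` for `O₂(P) ≤ T ≤ S` -/
theorem _root_.Cfsg.Agent.Omega.F4Leaf.Pos.Sit.zc_le_V
    (hN : ∃ i j, i ≠ j ∧ ∃ g ∈ WP ε i j, ¬ g ∈ centralizer (A : Set G)) {T : Subgroup G} (hT : o2 P ≤ T) :
    zc T ≤ zl (S : Subgroup G) P := by
  intro y hy
  rw [← h.omega_one hN]
  obtain ⟨-, h2, h3⟩ := mem_zc.mp hy
  have h4 : ∀ q ∈ o2 P, q * y = y * q := fun q hq => h2 q (hT hq)
  exact mem_zc.mpr ⟨h.mem_o2_of_cent fun q hq => (h4 q hq).symm, h4, h3⟩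

end

end Cfsg.Agent.Omega.F4Leaf.Big.OneZ

end

-- merged: Cfsg.Agent.Mrg.Omega.F4Leaf.TSyl.Frame
section

section


/-!
# LeafF4, `m ≥ 3`, MemH2 over `T₁`, `C_S(n) ≤ T₁ ≤ N(V_l)` (bb OMEGA #20615, #21183): the frame

`n = r_ij`, `V_l = {1, r_ij, r_i0, r_j0}`, `Q_p = O₂(C_G(p))`.

* `line`, `line_le` : the structure `Ln`, `V_l ≤ A`;
* `Part A ε i j` : a partner `A ^ k`, `k ∈ C_G(n)`; `part_pt` : the partner at every point;
* `bt` : the structure `BT`;
* `comm_Q` : `ε x` with `x i = x j` commutes with `O₂(C_G(n))`;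
* `Base T`, `Fr T` : the frames; `Fr` is `Base` with the partner and `T` Sylow in `C_G(n)`.
-/

set_option autoImplicit false
set_option linter.dupNamespace false

namespace Cfsg.Agent.Omega.F4Leaf.TSyl

open Subgroup Pointwise Cfsg Cfsg.Agent Cfsg.Agent.Omega.MinPar
open Cfsg.Agent.ZN (o2 zc zl)
open Cfsg.Agent.Omega.FrameFF (cv)
open Cfsg.Agent.Omega.S5.Def Cfsg.Agent.Omega.S5.Syl Cfsg.Agent.Omega.F4Leaf.Def
open Cfsg.Agent.Omega.F4Leaf.Pos Cfsg.Agent.Omega.F4Leaf.Facts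
open Cfsg.Agent.Omega.NSix.Base Cfsg.Agent.Omega.NSix.Basic Cfsg.Agent.Omega.NSix.FixApp
open Cfsg.Agent.Omega.NSix.RThree (acts_swap')
open Cfsg.Agent.Omega.NSix.Zero (WP mem_WP WP_norm WP_conj)
open Cfsg.Agent.Omega.HT.LineOf (Ln ln pts dd)
open Cfsg.Agent.Omega.BTwo (BT XX)
open Cfsg.Agent.MinSimple.VModule (o2_isPGroup o2_le le_o2 le_normalizer_o2 o2_le_of_sylow mem_zc zc_le
  le_normalizer_zl zl_comm zl_sq)

universe u

variable {G : Type u} [Group G]

/-- a partner `A ^ k` of `A` in `C_G(r_ij)` -/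
def Part {n : ℕ} (A : Subgroup G) (ε : (Fin n → ZMod 2) → G) (i j : Fin n) : Prop :=
  ∃ k ∈ NN ε i j, ∃ v ∈ A, ∃ w ∈ A, v * (k * w * k⁻¹) ≠ k * w * k⁻¹ * v

variable [Finite G] {S : Sylow 2 G} {P : Subgroup G} {m : ℕ} {A : Subgroup G}
  {ε : (Fin (2 ^ m + 1) → ZMod 2) → G}

section sit

variable (h : Sit S P m A ε)
include h

/-- `ε x` with `x i = x j` commutes with `O₂(C_G(r_ij))` -/
theorem comm_Q {i j : Fin (2 ^ m + 1)} (hij : i ≠ j) {x : Fin (2 ^ m + 1) → ZMod 2} (hx : x i = x j) {q : G}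
    (hq : q ∈ o2 (NN ε i j)) : q * ε x = ε x * q := by
  rw [← mul_inv_eq_iff_eq_mul]
  rcases h.acts hij hq with h1 | h1
  · exact h1 x
  · exact (acts_swap' h.split.even h1 x).1 hx

theorem n3 : 3 ≤ 2 ^ m + 1 := h.three

theorem line {i j : Fin (2 ^ m + 1)} (hij : i ≠ j) (hi : i ≠ 0) (hj : j ≠ 0) : Ln (rr ε i j) (rr ε i 0) where
  aa := rr_sq h.split.even i j
  bb := rr_sq h.split.even i 0
  comm := h.split.even.comm_mem (rr_mem h.split.even i j) (rr_mem h.split.even i 0)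
  a1 := rr_ne_one h.split.even h.three hij
  b1 := rr_ne_one h.split.even h.three hi
  ne := fun e => by
    have h1 : rr ε j 0 = 1 := by
      rw [← rr_add h.split.even j i 0, rr_symm h.split.even j i, e, rr_sq h.split.even]
    exact rr_ne_one h.split.even h.three hj h1

theorem dd_two (i j : Fin (2 ^ m + 1)) : rr ε i j * rr ε i 0 = rr ε j 0 := by
  rw [rr_symm h.split.even i j, rr_add h.split.even]

/-- the three points -/
theorem dd_cases {i j : Fin (2 ^ m + 1)} (hij : i ≠ j) (hi : i ≠ 0) (hj : j ≠ 0) (s : Fin 3) :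
    ∃ a b c : Fin (2 ^ m + 1), a ≠ b ∧ a ≠ c ∧ b ≠ c ∧ dd (rr ε i j) (rr ε i 0) s = rr ε a b ∧
      (∃ t, dd (rr ε i j) (rr ε i 0) t = rr ε a c) ∧ (a = i ∨ a = j ∨ a = 0) ∧ (b = i ∨ b = j ∨ b = 0) := by
  fin_cases s
  · exact ⟨i, j, 0, hij, hi, hj, rfl, ⟨1, rfl⟩, Or.inl rfl, Or.inr (Or.inl rfl)⟩
  · exact ⟨i, 0, j, hi, hij, hj.symm, rfl, ⟨0, rfl⟩, Or.inl rfl, Or.inr (Or.inr rfl)⟩
  · exact ⟨j, 0, i, hj, hij.symm, hi.symm, dd_two h i j, ⟨0, rr_symm h.split.even i j⟩, Or.inr (Or.inl rfl),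
      Or.inr (Or.inr rfl)⟩

theorem dd_mem_A {i j : Fin (2 ^ m + 1)} (hij : i ≠ j) (hi : i ≠ 0) (hj : j ≠ 0) (s : Fin 3) :
    dd (rr ε i j) (rr ε i 0) s ∈ A := by
  obtain ⟨a, b, c, -, -, -, e, -⟩ := dd_cases h hij hi hj s
  rw [e]; exact rr_mem h.split.even a b

theorem line_le {i j : Fin (2 ^ m + 1)} (hij : i ≠ j) (hi : i ≠ 0) (hj : j ≠ 0) : ln (line h hij hi hj) ≤ A := by
  rintro x (rfl | ⟨s, rfl⟩)
  · exact one_mem _
  · exact dd_mem_A h hij hi hj s

/-- the partner at a point -/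
theorem part_pt {i j : Fin (2 ^ m + 1)} (hij : i ≠ j) (hP : Part A ε i j) {p q r : Fin (2 ^ m + 1)} (hpq : p ≠ q)
    (hpr : p ≠ r) (hqr : q ≠ r) :
    ∃ k ∈ NN ε p q, Acts ε (k * rr ε p r * k⁻¹) (Equiv.swap p q) := by
  have hE := h.split.even
  obtain ⟨k0, hk0, v0, hv0, w0, hw0, hne0⟩ := hP
  obtain ⟨σ, e1, e2, -⟩ := exists_perm hij hpq
  obtain ⟨g, hgP, hg⟩ := hE.full σ
  have hgA := acts_norm hE hg
  obtain ⟨k, hk⟩ : ∃ k, k = g * k0 * g⁻¹ := ⟨_, rfl⟩
  obtain ⟨w, hw⟩ : ∃ w, w = g * w0 * g⁻¹ := ⟨_, rfl⟩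
  have hkN : k ∈ NN ε p q := by
    have := conj_NN hg hk0
    rwa [e1, e2, ← hk] at this
  have hwA : w ∈ A := by
    rw [hw]; exact (mem_normalizer_iff.1 hgA w0).1 hw0
  obtain ⟨x, rfl⟩ := hE.surj w hwA
  have hvA : g * v0 * g⁻¹ ∈ A := (mem_normalizer_iff.1 hgA v0).1 hv0
  have hne : ¬ k * ε x * k⁻¹ ∈ centralizer (A : Set G) := by
    intro h1
    apply hne0
    have h2 := mem_centralizer_iff.1 h1 _ hvA
    rw [hk, hw] at h2
    have h3 : g * (v0 * (k0 * w0 * k0⁻¹)) * g⁻¹ = g * (k0 * w0 * k0⁻¹ * v0) * g⁻¹ := by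
      calc g * (v0 * (k0 * w0 * k0⁻¹)) * g⁻¹
          = g * v0 * g⁻¹ * (g * k0 * g⁻¹ * (g * w0 * g⁻¹) * (g * k0 * g⁻¹)⁻¹) := by group
        _ = g * k0 * g⁻¹ * (g * w0 * g⁻¹) * (g * k0 * g⁻¹)⁻¹ * (g * v0 * g⁻¹) := h2
        _ = g * (k0 * w0 * k0⁻¹ * v0) * g⁻¹ := by group
    exact mul_left_cancel (mul_right_cancel h3)
  have hQ : ∀ a ∈ A, k * a * k⁻¹ ∈ o2 (NN ε p q) := fun a ha =>
    (mem_normalizer_iff.1 (le_normalizer_o2 _ hkN) a).1 (h.V_le hpq (h.split.A_le ha))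
  have hact := (h.acts hpq (hQ _ hwA)).resolve_left fun h1 => hne (hE.acts_one_iff.1 h1)
  have hcen : ∀ y : Fin (2 ^ m + 1) → ZMod 2, y p = y q → k * ε y * k⁻¹ ∈ centralizer (A : Set G) := by
    intro y hy
    rw [mem_centralizer_iff]
    intro a ha
    have hak : k⁻¹ * a * k ∈ o2 (NN ε p q) := by
      have := (mem_normalizer_iff.1 (le_normalizer_o2 _ (inv_mem hkN)) a).1 (h.V_le hpq (h.split.A_le ha))
      rwa [inv_inv] at this
    have h1 := comm_Q h hpq hy hak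
    calc a * (k * ε y * k⁻¹) = k * (k⁻¹ * a * k * ε y) * k⁻¹ := by group
      _ = k * (ε y * (k⁻¹ * a * k)) * k⁻¹ := by rw [h1]
      _ = k * ε y * k⁻¹ * a := by group
  have hx : x p ≠ x q := fun h1 => hne (hcen x h1)
  have hr : rr ε p r = ε (Pi.single p 1 + Pi.single r 1) := by rw [hE.add]; rfl
  refine ⟨k, hkN, ?_⟩
  have hz2 : ∀ a b c d : ZMod 2, a ≠ b → c ≠ d → a + c = b + d := by decide
  have h1 : k * ε (x + (Pi.single p 1 + Pi.single r 1)) * k⁻¹ ∈ centralizer (A : Set G) := by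
    refine hcen _ ?_
    refine hz2 _ _ _ _ hx ?_
    rw [Pi.add_apply, Pi.add_apply, Pi.single_eq_same, Pi.single_eq_of_ne hpr, Pi.single_eq_of_ne hpq.symm,
      Pi.single_eq_of_ne hqr]
    decide
  have h2 := hact.mul (hE.acts_one_iff.2 h1)
  rw [mul_one] at h2
  have e : k * ε x * k⁻¹ * (k * ε (x + (Pi.single p 1 + Pi.single r 1)) * k⁻¹) = k * rr ε p r * k⁻¹ := by
    rw [hr, hE.add]
    calc k * ε x * k⁻¹ * (k * (ε x * ε (Pi.single p 1 + Pi.single r 1)) * k⁻¹)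
        = k * (ε x * ε x) * ε (Pi.single p 1 + Pi.single r 1) * k⁻¹ := by group
      _ = _ := by rw [hE.sq, mul_one]
  rwa [e] at h2

/-- some `WP` moves `A` -/
theorem mov_of_part {i j : Fin (2 ^ m + 1)} (hij : i ≠ j) (hP : Part A ε i j) :
    ∃ i j, i ≠ j ∧ ∃ g ∈ WP ε i j, ¬ g ∈ centralizer (A : Set G) := by
  have hE := h.split.even
  obtain ⟨k, hk, v, hv, w, hw, hne⟩ := hP
  refine ⟨i, j, hij, k * w * k⁻¹, WP_norm hk (h.fac.mem_wp hij hw), fun h1 => hne ?_⟩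
  exact mem_centralizer_iff.1 h1 v hv

/-- the structure `BT` -/
theorem bt {i j : Fin (2 ^ m + 1)} (hij : i ≠ j) (hi : i ≠ 0) (hj : j ≠ 0) (hP : Part A ε i j) :
    BT (ln (line h hij hi hj)) (pts (rr ε i j) (rr ε i 0)) := by
  have hE := h.split.even
  refine (line h hij hi hj).bt (fun s => ?_) (fun s g hg t => ?_) (fun s => ?_)
  · obtain ⟨a, b, c, hab, -, -, e, -⟩ := dd_cases h hij hi hj s
    rw [e]
    exact (line_le h hij hi hj).trans (h.split.A_le.trans (h.V_le hab))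
  · obtain ⟨a, b, c, hab, -, -, e, -⟩ := dd_cases h hij hi hj s
    rw [e] at hg
    rw [(line h hij hi hj).mem_pts, e]
    have ht := dd_mem_A h hij hi hj t
    rcases h.conj_V hab hg (h.split.A_le ht) with h1 | h1
    · left; rw [h1, mul_inv_cancel]
    · right
      rw [h1, hE.comm_mem ht (rr_mem hE a b), mul_inv_cancel_right]
  · obtain ⟨a, b, c, hab, hac, hbc, e, ⟨t, ht⟩, -⟩ := dd_cases h hij hi hj s
    obtain ⟨k, hk, hkA⟩ := part_pt h hij hP hab hac hbc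
    refine ⟨k, by rw [e]; exact hk, t, t, fun h4 => ?_⟩
    rw [ht] at h4
    have hr : rr ε a c = ε (Pi.single a 1 + Pi.single c 1) := by rw [hE.add]; rfl
    have h5 := (acts_swap' hE hkA (Pi.single a 1 + Pi.single c 1)).2 (by
      rw [Pi.add_apply, Pi.add_apply, Pi.single_eq_same, Pi.single_eq_of_ne hac, Pi.single_eq_of_ne hab.symm,
        Pi.single_eq_of_ne hbc]
      decide)
    rw [← hr, h4, mul_inv_cancel_right] at h5
    exact rr_ne_one hE h.three hab (left_eq_mul.1 h5)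

end sit

/-- the frame without partner: a 2-group `T` with `C_S(n) ≤ T ≤ C_G(n) ∩ N(V_l)` -/
structure Base (S : Sylow 2 G) (P : Subgroup G) (m : ℕ) (A : Subgroup G)
    (ε : (Fin (2 ^ m + 1) → ZMod 2) → G) (i j : Fin (2 ^ m + 1)) (T : Subgroup G) : Prop where
  sit : Sit S P m A ε
  m3 : 3 ≤ m
  ij : i ≠ j
  i0 : i ≠ 0
  j0 : j ≠ 0
  duad : ∃ s ∈ (S : Subgroup G), Acts ε s (Equiv.swap i j)
  mov : ∃ i j, i ≠ j ∧ ∃ g ∈ WP ε i j, ¬ g ∈ centralizer (A : Set G)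
  le : (S : Subgroup G) ⊓ NN ε i j ≤ T
  leN : T ≤ NN ε i j
  nrm : T ≤ normalizer (ln (line sit ij i0 j0) : Set G)
  p : IsPGroup 2 T

/-- the frame with partner, `T` Sylow in `C_G(n)` -/
structure Fr (S : Sylow 2 G) (P : Subgroup G) (m : ℕ) (A : Subgroup G)
    (ε : (Fin (2 ^ m + 1) → ZMod 2) → G) (i j : Fin (2 ^ m + 1)) (T : Subgroup G) : Prop extends
    Base S P m A ε i j T where
  part : Part A ε i j
  odd : ¬ 2 ∣ T.relIndex (NN ε i j)

end Cfsg.Agent.Omega.F4Leaf.TSyl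

end

section


/-!
# LeafF4, `m ≥ 3` (MemH2), `T` Sylow in `C_G(n)`: the `Σ`-step and the `Y`-step

`n = r_ij`, `i, j ≠ 0`, `V_l = {1, r_ij, r_i0, r_j0}`.

* `sig` : `Sig V_l R o c` with `c ∈ V` centralised by elements acting as `(i j)` and `(i 0)` implies
  `c = v z_0 r_ij` with `v ∈ V₀`;
* `yv` : `V_l` centralises `⟨r_ij ^ C(c r_ij)⟩` for this `c`  (`m ≥ 3`).
-/

set_option autoImplicit false
set_option linter.unusedSectionVars false

namespace Cfsg.Agent.Omega.F4Leaf.TSyl.Sg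

open Subgroup Cfsg Cfsg.Agent
open Cfsg.Agent.ZN (o2 zc zl)
open Cfsg.Agent.Omega.FrameFF (cv)
open Cfsg.Agent.Omega.S5.Def Cfsg.Agent.Omega.F4Leaf.Def Cfsg.Agent.Omega.F4Leaf.Pos
open Cfsg.Agent.Omega.NSix.Base Cfsg.Agent.Omega.NSix.Basic Cfsg.Agent.Omega.NSix.FixApp
open Cfsg.Agent.Omega.NSix.TkPair (rr_eq rr_ne)
open Cfsg.Agent.Omega.HTwo.Hat (ZQ)

universe u

variable {G : Type u} [Group G] [Finite G] {S : Sylow 2 G} {P : Subgroup G} {m : ℕ} {A : Subgroup G}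
  {ε : (Fin (2 ^ m + 1) → ZMod 2) → G} (h : Sit S P m A ε)
include h

theorem five : 5 ≤ 2 ^ m + 1 := by
  have h1 : 2 ^ 2 ≤ 2 ^ m := Nat.pow_le_pow_right (by norm_num) h.m2
  omega

/-- a coordinate outside of three given ones -/
theorem exists_ne (a b c : Fin (2 ^ m + 1)) : ∃ k, k ≠ a ∧ k ≠ b ∧ k ≠ c := by
  have hcard : ({a, b, c} : Finset (Fin (2 ^ m + 1))).card < (Finset.univ : Finset (Fin (2 ^ m + 1))).card := by
    rw [Finset.card_univ, Fintype.card_fin]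
    have := five h
    exact lt_of_le_of_lt Finset.card_le_three (by omega)
  obtain ⟨k, -, hk⟩ := Finset.exists_mem_notMem_of_card_lt_card hcard
  simp only [Finset.mem_insert, Finset.mem_singleton, not_or] at hk
  exact ⟨k, hk⟩

/-- `ε x` is fixed by a transposition `(a b)` only if `x a = x b` -/
theorem eq_of_fix {a b : Fin (2 ^ m + 1)} {t : G} (ht : Acts ε t (Equiv.swap a b)) {x : Fin (2 ^ m + 1) → ZMod 2}
    (hx : t * ε x = ε x * t) : x a = x b := by
  have h1 : ε (x ∘ (Equiv.swap a b : Equiv.Perm _).symm) = ε x := by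
    rw [← ht x, hx, mul_inv_cancel_right]
  rcases h.split.even.eq_iff.1 h1 with h2 | h2
  · have h3 := congrFun h2 b
    simpa using h3
  · exfalso
    obtain ⟨k, hka, hkb, -⟩ := exists_ne h a b a
    have h3 := congrFun h2 k
    rw [Function.comp_apply, Equiv.symm_swap, Equiv.swap_apply_of_ne_of_ne hka hkb, Pi.add_apply, Pi.one_apply] at h3
    have h4 : x k + 0 = x k + 1 := by rw [add_zero]; exact h3
    exact zero_ne_one (add_left_cancel h4)

/-- **the `Σ`-step** -/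
theorem sig {i j : Fin (2 ^ m + 1)} (hij : i ≠ j) (hi0 : i ≠ 0) (hj0 : j ≠ 0) {ι : Type*} {V : Subgroup G}
    {R : ι → Subgroup G} {o : ι} (hR : ∀ x, x ∈ R o ↔ x = 1 ∨ x = rr ε i j) (hV0 : rr ε i 0 ∈ V)
    (hV : ∀ v ∈ V, v = 1 ∨ v = rr ε i j ∨ v = rr ε i 0 ∨ v = rr ε j 0) (hZQ : ∀ v ∈ Vn ε i j, v ∈ ZQ R o)
    {c t x : G} (hcV : c ∈ zl (S : Subgroup G) P) (htP : t ∈ P) (ht : Acts ε t (Equiv.swap i j)) (htc : t * c = c * t)
    (hxP : x ∈ P) (hx : Acts ε x (Equiv.swap i 0)) (hxc : x * c = c * x) (hs : HT.Sig V R o c) :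
    ∃ v ∈ cv (S : Subgroup G) P, c = v * zz ε 0 * rr ε i j := by
  have hE := h.split.even
  have h5 := five h
  have h11 : (1 : ZMod 2) + 1 = 0 := by decide
  obtain ⟨v, hv, a, ha, hc⟩ := h.mul_eq hcV
  have hvc : ∀ g ∈ P, g * v = v * g := fun g hg => h.V0_comm hv hg
  obtain ⟨y, hy, hy0⟩ : ∃ y, ε y = a ∧ y 0 = 1 := by
    obtain ⟨y, rfl⟩ := hE.surj a ha
    rcases (show ∀ b : ZMod 2, b = 0 ∨ b = 1 by decide) (y 0) with h0 | h0
    · refine ⟨y + 1, hE.eq_iff.2 (Or.inr rfl), ?_⟩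
      rw [Pi.add_apply, h0, zero_add, Pi.one_apply]
    · exact ⟨y, rfl, h0⟩
  have hcom : ∀ g ∈ P, g * c = c * g → g * ε y = ε y * g := by
    intro g hg hgc
    rw [hc, ← hy] at hgc
    have h1 := hvc g hg
    calc g * ε y = v⁻¹ * (v * g) * ε y := by group
      _ = v⁻¹ * (g * v) * ε y := by rw [h1]
      _ = v⁻¹ * (g * (v * ε y)) := by group
      _ = v⁻¹ * (v * ε y * g) := by rw [hgc]
      _ = ε y * g := by group
  have hyi : y i = 1 := by rw [eq_of_fix h hx (hcom x hxP hxc), hy0]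
  have hyj : y j = 1 := by rw [← eq_of_fix h ht (hcom t htP htc), hyi]
  have hyk : ∀ k, k ≠ i → k ≠ j → k ≠ 0 → y k = 0 := by
    intro k hki hkj hk0
    by_contra hne
    have hyk : y k = 1 := ((show ∀ b : ZMod 2, b = 0 ∨ b = 1 by decide) (y k)).resolve_left hne
    obtain ⟨g, hgP, hg⟩ := hE.full (Equiv.swap k 0)
    have hsi : Equiv.swap k 0 i = i := Equiv.swap_apply_of_ne_of_ne hki.symm hi0
    have hsj : Equiv.swap k 0 j = j := Equiv.swap_apply_of_ne_of_ne hkj.symm hj0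
    have hgr : g * rr ε i j * g⁻¹ = rr ε i j := by rw [rr_conj hg, hsi, hsj]
    have hg0 : g * rr ε i 0 * g⁻¹ = rr ε i 0 * rr ε 0 k := by
      rw [rr_conj hg, hsi, Equiv.swap_apply_right, rr_add hE]
    have hgj0 : g * rr ε j 0 * g⁻¹ = rr ε j 0 * rr ε 0 k := by
      rw [rr_conj hg, hsj, Equiv.swap_apply_right, rr_add hE]
    have h0k : rr ε 0 k ∈ V ⊔ ZQ R o := mem_sup_right (hZQ _ (rr_mem_Vn ⟨hi0.symm, hj0.symm⟩ ⟨hki, hkj⟩))
    have hgN : g ∈ normalizer (R o : Set G) := by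
      refine mem_normalizer_iff.2 fun w => ?_
      rw [hR, hR]
      constructor
      · rintro (rfl | rfl)
        · left; group
        · right; exact hgr
      · rintro (hw | hw)
        · left
          calc w = g⁻¹ * (g * w * g⁻¹) * g := by group
            _ = 1 := by rw [hw]; group
        · right
          calc w = g⁻¹ * (g * w * g⁻¹) * g := by group
            _ = g⁻¹ * (g * rr ε i j * g⁻¹) * g := by rw [hw, hgr]
            _ = rr ε i j := by group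
    have hgv : g * v * g⁻¹ = v := by rw [hvc g hgP, mul_inv_cancel_right]
    have h1 := hs g hgN (fun w hw => ?_) (rr ε i 0) hV0 ?_
    · have e0 : rr ε i 0 * c = v * ε (Pi.single i 1 + Pi.single 0 1 + y) := by
        rw [hE.add, ← rr_eq hE, hc, ← hy]
        have h2 := hvc _ (h.A_le_P (rr_mem hE i 0))
        rw [← mul_assoc, h2, mul_assoc]
      have e2 : (Pi.single i 1 + Pi.single 0 1 + y : Fin (2 ^ m + 1) → ZMod 2) +
          (Pi.single i 1 + Pi.single 0 1 + y) ∘ (Equiv.swap k 0).symm = Pi.single k 1 + Pi.single 0 1 := by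
        funext q
        rw [Pi.add_apply, Function.comp_apply, Equiv.symm_swap]
        by_cases hq : q = k
        · subst hq
          rw [Equiv.swap_apply_left]
          simp [hki, hk0, hi0.symm, hyk, hy0, h11]
        · by_cases hq0 : q = 0
          · subst hq0
            rw [Equiv.swap_apply_right]
            simp [hki, hk0, hi0.symm, hyk, hy0, hk0.symm, h11]
          · rw [Equiv.swap_apply_of_ne_of_ne hq hq0, CharTwo.add_self_eq_zero]
            simp [hq, hq0]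
      have e1 : (rr ε i 0 * c)⁻¹ * g * (rr ε i 0 * c) * g⁻¹ = rr ε k 0 := by
        have e3 : rr ε k 0 = ε (Pi.single i 1 + Pi.single 0 1 + y) *
            (g * ε (Pi.single i 1 + Pi.single 0 1 + y) * g⁻¹) := by
          rw [hg, ← hE.add, e2, rr_eq hE]
        rw [e0, e3]
        have h3 : ∀ w : G, g * (v * w) * g⁻¹ = v * (g * w * g⁻¹) := fun w => by
          calc g * (v * w) * g⁻¹ = (g * v * g⁻¹) * (g * w * g⁻¹) := by group
            _ = _ := by rw [hgv]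
        have hww := hE.inv (Pi.single i 1 + Pi.single 0 1 + y)
        generalize ε (Pi.single i 1 + Pi.single 0 1 + y) = w at hww ⊢
        calc (v * w)⁻¹ * g * (v * w) * g⁻¹ = w⁻¹ * v⁻¹ * (g * (v * w) * g⁻¹) := by group
          _ = w⁻¹ * v⁻¹ * (v * (g * w * g⁻¹)) := by rw [h3]
          _ = w⁻¹ * (g * w * g⁻¹) := by group
          _ = w * (g * w * g⁻¹) := by rw [hww]
      rw [e1] at h1
      rcases (hR _).1 h1 with h2 | h2
      · exact rr_ne_one hE h.three hk0 h2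
      · exact rr_ne hE h5 hk0 hki.symm hkj.symm h2
    · rcases hV w hw with rfl | rfl | rfl | rfl
      · rw [mul_one, mul_inv_cancel]; exact one_mem _
      · rw [hgr]; exact mem_sup_left hw
      · rw [hg0]; exact mul_mem (mem_sup_left hw) h0k
      · rw [hgj0]; exact mul_mem (mem_sup_left hw) h0k
    · intro h2
      rcases (hR _).1 h2 with h3 | h3
      · exact rr_ne_one hE h.three hi0 h3
      · rw [rr_symm hE i 0] at h3
        exact rr_ne hE h5 hi0.symm hi0 hj0 h3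
  refine ⟨v, hv, ?_⟩
  have e : y = Pi.single 0 1 + (Pi.single i 1 + Pi.single j 1) := by
    funext q
    by_cases h1 : q = i
    · subst h1
      simp [hyi, hi0, hij]
    · by_cases h2 : q = j
      · subst h2
        simp [hyj, hj0, hij.symm]
      · by_cases h3 : q = 0
        · subst h3
          simp [hy0, hi0.symm, hj0.symm]
        · simp [hyk q h1 h2 h3, h1, h2, h3]
  rw [hc, ← hy, e, hE.add, ← rr_eq hE]
  rw [mul_assoc]
  rfl

/-- **the `Y`-step** -/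
theorem yv (hm : 3 ≤ m) {i j : Fin (2 ^ m + 1)} {v : G} (hv : v ∈ cv (S : Subgroup G) P) {V : Subgroup G}
    (hV : V ≤ zl (S : Subgroup G) P) : HT.Main.YV V (rr ε i j) (v * zz ε 0 * rr ε i j) := by
  have hE := h.split.even
  intro g hg w hw
  have e : v * zz ε 0 * rr ε i j * rr ε i j = v * zz ε 0 := by
    rw [mul_assoc, rr_sq hE, mul_one]
  rw [e] at hg
  have hgC : g ∈ centralizer ({v * zz ε 0} : Set G) := mem_centralizer_singleton_iff.2 hg
  obtain ⟨h1, h2⟩ := h.cen_pt hm hv 0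
  have hrV : rr ε i j ∈ zl (S : Subgroup G) P := h.split.A_le (rr_mem hE i j)
  have h3 : g⁻¹ * w * g ∈ o2 (centralizer ({v * zz ε 0} : Set G)) := by
    have := (mem_normalizer_iff.mp (MinSimple.VModule.le_normalizer_o2 _ (inv_mem hgC)) w).mp (h1 (hV hw))
    rwa [inv_inv] at this
  have h4 := mem_centralizer_iff.1 (h2 h3) _ hrV
  calc w * (g * rr ε i j * g⁻¹) = g * ((g⁻¹ * w * g) * rr ε i j) * g⁻¹ := by group
    _ = g * (rr ε i j * (g⁻¹ * w * g)) * g⁻¹ := by rw [h4]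
    _ = _ := by group

end Cfsg.Agent.Omega.F4Leaf.TSyl.Sg

end

end

-- merged: Cfsg.Agent.Mrg.Omega.F4Leaf.Syl.OtT
section

/-!
# LeafF4, MemH2, pure case: the end of II.0h1 over a Sylow 2-subgroup `T` of `C_G(r_ij)` (no `hodd`)

`V` is a four-group of pairs on the point `r_ij` (any `BT V R`), `T` a Sylow 2-subgroup of `C_G(r_ij)` normalising `V`,
`O₂(P) ≤ T`.

* `otD` : `OtD T V X r_ij`; `htt` : `HTT T (T ⊔ X) V R o`;
* `comm_pt` : `⟨V^{C(v z_k)}⟩` is centralised by `V` (`v ∈ V₀`, `m ≥ 3`);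
* `main` : `|Z₀#| ≤ 1`, if the elements `c` with `Sig V R o c` satisfy `c r_ij = v z_k`, `v ∈ V₀`.
-/

set_option autoImplicit false
set_option linter.dupNamespace false

namespace Cfsg.Agent.Omega.F4Leaf.Syl.OtT

open Subgroup Pointwise Cfsg Cfsg.Agent Cfsg.Agent.Omega.MinPar
open Cfsg.Agent.ZN (o2 zc zl)
open Cfsg.Agent.Omega.FrameFF (cv)
open Cfsg.Agent.Omega.S5.Def Cfsg.Agent.Omega.S5.Syl Cfsg.Agent.Omega.F4Leaf.Def
open Cfsg.Agent.Omega.F4Leaf.Pos
open Cfsg.Agent.Omega.NSix.Base Cfsg.Agent.Omega.NSix.Basic Cfsg.Agent.Omega.NSix.FixApp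
open Cfsg.Agent.Omega.NSix.Zero (WP)
open Cfsg.Agent.Omega.BTwo (BT BTS XX CenX QQ)
open Cfsg.Agent.Omega.HT (HTT)
open Cfsg.Agent.Omega.HT.OtCore (OtD)
open Cfsg.Agent.Omega.HTwo.ThmA (LE)
open Cfsg.Agent.Omega.HTwo.AlphaP (MP)
open Cfsg.Agent.MinSimple.VModule (o2_isPGroup o2_le le_o2 le_normalizer_o2 o2_le_of_sylow mem_zc zc_le)

universe u

variable {G : Type u} [Group G] [Finite G] {S : Sylow 2 G} {P : Subgroup G} {m : ℕ} {A : Subgroup G}
  {ε : (Fin (2 ^ m + 1) → ZMod 2) → G} {ι : Type*} {V T : Subgroup G} {R : ι → Subgroup G} {o : ι}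
  {i j : Fin (2 ^ m + 1)}

/-- `V_P` commutes with `⟨a^{C(v z_k)}⟩`, `a ∈ V_P`, `v ∈ V₀`, `m ≥ 3` -/
theorem comm_pt (h : Sit S P m A ε) (hm : 3 ≤ m) {v : G}
    (hv : v ∈ cv (S : Subgroup G) P) (k : Fin (2 ^ m + 1)) {g : G} (hg : g * (v * zz ε k) = v * zz ε k * g) {a w : G}
    (ha : a ∈ zl (S : Subgroup G) P) (hw : w ∈ zl (S : Subgroup G) P) :
    w * (g * a * g⁻¹) = g * a * g⁻¹ * w := by
  obtain ⟨h1, h2⟩ := h.cen_pt hm hv k
  have h3 : g * a * g⁻¹ ∈ o2 (centralizer ({v * zz ε k} : Set G)) :=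
    (mem_normalizer_iff.1 (le_normalizer_o2 _ (mem_centralizer_singleton_iff.2 hg)) a).1 (h1 ha)
  exact mem_centralizer_iff.1 (h2 h3) w hw

/-- the data: a line `V` of pairs on the point `r_ij`, and a Sylow 2-subgroup `T` of `C_G(r_ij)` normalising it -/
structure Ln (S : Sylow 2 G) (P : Subgroup G) {m : ℕ} (A : Subgroup G) (ε : (Fin (2 ^ m + 1) → ZMod 2) → G)
    (i j : Fin (2 ^ m + 1)) (T V : Subgroup G) (R : ι → Subgroup G) (o : ι) : Prop where
  sit : Sit S P m A ε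
  mv : ∃ i j, i ≠ j ∧ ∃ g ∈ WP ε i j, ¬ g ∈ centralizer (A : Set G)
  ne : i ≠ j
  bt : BT V R
  hr : ∀ x, x ∈ R o ↔ x = 1 ∨ x = rr ε i j
  pair : ∀ v ∈ V, v ≠ 1 → ∃ a b, a ≠ b ∧ v = rr ε a b
  k : ∃ k, k ≠ i ∧ k ≠ j ∧ rr ε i k ∈ V
  T_p : IsPGroup 2 T
  T_N : T ≤ NN ε i j
  odd : ¬ 2 ∣ T.relIndex (NN ε i j)
  T_V : T ≤ normalizer (V : Set G)
  Q_T : o2 P ≤ T

namespace Ln

variable (h : Ln S P A ε i j T V R o)
include h

theorem Qn_T : o2 (NN ε i j) ≤ T := o2_le_of_sylow h.T_p h.odd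

theorem r_ne : rr ε i j ≠ 1 := rr_ne_one h.sit.split.even h.sit.three h.ne

theorem V_le_A : V ≤ A := by
  intro v hv
  by_cases h1 : v = 1
  · rw [h1]; exact one_mem _
  · obtain ⟨a, b, -, rfl⟩ := h.pair v hv h1
    exact rr_mem h.sit.split.even a b

theorem V_le_zl : V ≤ zl (S : Subgroup G) P := h.V_le_A.trans h.sit.split.A_le

theorem V_le_T : V ≤ T := h.V_le_zl.trans ((h.sit.V_le h.ne).trans h.Qn_T)

theorem T_r {t : G} (ht : t ∈ T) : t * rr ε i j = rr ε i j * t := mem_NN.1 (h.T_N ht)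

/-- an element of `WP i j` inducing `(i j)`, and the action on `r_ik` -/
theorem exists_w : ∃ w ∈ o2 (NN ε i j), Acts ε w (Equiv.swap i j) := by
  obtain ⟨w, hw, h1⟩ := h.sit.mov h.mv h.ne
  exact ⟨w, h.sit.fac.ww h.sit.c2 h.sit.three h.ne hw, h1⟩

/-- **`OtD`** over `T` -/
theorem otD : OtD T V (XX V R) (rr ε i j) where
  T_p := h.T_p
  T_r _ ht := h.T_r ht
  odd := h.odd
  V_T := h.V_le_T
  V_sq := h.bt.V_sq
  V_four := by
    intro v hv hv1 hvr w hw
    have hcard := fun l => OtD.card_R h.bt h.hr h.r_ne l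
    have hrV := h.bt.R_le o ((h.hr _).2 (Or.inr rfl))
    obtain ⟨l, hl⟩ := h.bt.R_cov v hv
    have hlo : l ≠ o := by
      rintro rfl
      rcases (h.hr v).1 hl with h1 | h1
      · exact hv1 h1
      · exact hvr h1
    have hl' : ∀ x ∈ R l, x = 1 ∨ x = v := fun x hx => by
      by_cases hx1 : x = 1
      · exact Or.inl hx1
      · exact Or.inr (HOneTwo.eq_of_card_two (hcard l) hl hv1 hx hx1)
    obtain ⟨a, ha, c, hc, rfl⟩ := h.bt.exists_mul (Ne.symm hlo) hw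
    rcases (h.hr a).1 ha with rfl | rfl <;> rcases hl' c hc with rfl | rfl
    · left; rw [mul_one]
    · right; right; left; rw [one_mul]
    · right; left; rw [mul_one]
    · right; right; right; exact h.bt.V_comm _ hrV _ hv
  r_mem := h.bt.R_le o ((h.hr _).2 (Or.inr rfl))
  r_ne := h.r_ne
  T_V := h.T_V
  X_V := h.bt.X_le_NV
  trans := by
    intro v hv hv1
    obtain ⟨l, hl⟩ := h.bt.R_cov v hv
    obtain ⟨x, hx, e⟩ := h.bt.trans_X_one o l
    refine ⟨x, hx, ?_⟩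
    have h1 : x * rr ε i j * x⁻¹ ∈ R l := by rw [← e]; exact BTwo.conj_mem_cj ((h.hr _).2 (Or.inr rfl))
    have h2 : x * rr ε i j * x⁻¹ ≠ 1 := fun h3 => h.r_ne (conj_eq_one_iff.1 h3)
    exact HOneTwo.eq_of_card_two (OtD.card_R h.bt h.hr h.r_ne l) hl hv1 h1 h2
  zt := by
    obtain ⟨w, hwQ, hw⟩ := h.exists_w
    obtain ⟨k, hki, hkj, hk⟩ := h.k
    have hE := h.sit.split.even
    refine ⟨w, h.Qn_T hwQ, rr ε i k, hk, ?_, ?_⟩
    · rw [rr_conj hw, Equiv.swap_apply_left, Equiv.swap_apply_of_ne_of_ne hki hkj, ← rr_add hE j i k,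
        rr_symm hE j i]
      exact h.sit.V_comm (h.sit.split.A_le (rr_mem hE i j)) (h.sit.split.A_le (rr_mem hE i k))
    · intro c hc hcc hcV
      have h1 : ∀ q ∈ o2 P, q * c = c * q := fun q hq => hcV q (h.Q_T hq) (by
        refine mem_centralizer_iff.2 fun v hv => ?_
        exact (h.sit.V_le_zc (h.V_le_zl hv) |> mem_zc.1).2.1 q hq |>.symm)
      have h2 : c ∈ o2 P := h.sit.mem_o2_of_cent fun q hq => (h1 q hq).symm
      have h3 : c ∈ zl (S : Subgroup G) P := by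
        rw [← h.sit.omega_one h.mv]
        exact mem_zc.2 ⟨h2, h1, by rw [pow_two]; exact hcc⟩
      exact h.sit.conj_V h.ne hwQ h3

/-- `Ω₁Z(T) ≤ V_P` -/
theorem zc_le_zl : zc T ≤ zl (S : Subgroup G) P := h.sit.zc_le_V h.mv h.Q_T

/-- **the instance of II.0h1 over `T`** -/
theorem htt : HTT T (T ⊔ XX V R) V R o where
  toBT := h.bt
  card_R := OtD.card_R h.bt h.hr h.r_ne
  char2 := h.sit.c2
  S_p := h.T_p
  S_odd := by
    rw [OtD.normalizer_R (OtD.card_R h.bt h.hr h.r_ne o) ((h.hr _).2 (Or.inr rfl)) h.r_ne]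
    exact h.odd
  S_V := h.T_V
  S_R := by
    rw [OtD.normalizer_R (OtD.card_R h.bt h.hr h.r_ne o) ((h.hr _).2 (Or.inr rfl)) h.r_ne]
    exact h.T_N
  S_P := le_sup_left
  P_V := sup_le h.T_V h.bt.X_le_NV
  P_trans l := by
    obtain ⟨x, hx, e⟩ := h.bt.trans_X_one o l
    exact ⟨x, mem_sup_right hx, e⟩
  P_Z x hx z hz := by
    have h1 : T ⊔ XX V R ≤ BTwo.cenMod V (zc T) := by
      refine sup_le (fun t ht => ⟨h.T_V ht, fun z hz => ?_⟩)
        (iSup_le fun l w hw => ⟨h.bt.W_le_NV l hw, fun z hz => ?_⟩)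
      · rw [((mem_zc.1 hz).2.1 t ht), mul_inv_cancel_right, mul_inv_cancel]
        exact one_mem _
      · obtain ⟨v, hv, hv1⟩ := h.bt.exists_ne l
        obtain ⟨a, b, hab, rfl⟩ := h.pair v (h.bt.R_le l hv) hv1
        have hN := OtD.normalizer_R (OtD.card_R h.bt h.hr h.r_ne l) hv hv1
        have hwQ : w ∈ o2 (NN ε a b) := by
          have h2 := h.bt.W_le_Q l hw
          change w ∈ o2 (normalizer (R l : Set G)) at h2
          rw [hN] at h2
          exact h2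
        rcases h.sit.conj_V hab hwQ (h.zc_le_zl hz) with h3 | h3
        · rw [h3, mul_inv_cancel]; exact one_mem _
        · rw [h3, h.sit.V_comm (h.zc_le_zl hz) (h.V_le_zl (h.bt.R_le l hv)), mul_inv_cancel_right]
          exact h.bt.R_le l hv
    exact (h1 hx).2 z hz
  loc _ hT hX _ _ := h.otD.ot hT hX

/-- `c r_ij = v z_k` implies `c ≠ 1` -/
theorem ne_one (hm : 3 ≤ m) {c v : G} (hv : v ∈ cv (S : Subgroup G) P) {k : Fin (2 ^ m + 1)}
    (hc : c * rr ε i j = v * zz ε k) : c ≠ 1 := by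
  rintro rfl
  rw [one_mul] at hc
  obtain ⟨w, hwQ, hw⟩ := h.exists_w
  obtain ⟨l, hli, hlj, hl⟩ := h.k
  have hE := h.sit.split.even
  have h1 : w ∈ o2 (centralizer ({v * zz ε k} : Set G)) := by rw [← hc]; exact hwQ
  have h2 := mem_centralizer_iff.1 ((h.sit.cen_pt hm hv k).2 h1) _ (h.V_le_zl hl)
  have h3 : w * rr ε i l * w⁻¹ = rr ε j l := by
    rw [rr_conj hw, Equiv.swap_apply_left, Equiv.swap_apply_of_ne_of_ne hli hlj]
  rw [← h2, mul_inv_cancel_right] at h3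
  have h4 : rr ε i j = rr ε i l * rr ε l j := (rr_add hE i l j).symm
  rw [rr_symm hE l j, ← h3, rr_sq hE] at h4
  exact h.r_ne h4

/-- **the end of II.0h1 over `T`** : `|Z₀#| ≤ 1` -/
theorem main (hm : 3 ≤ m) (hLE : ∀ l, LE V R l)
    (hsig : ∀ c ∈ zc T, c ∈ CenX V R → HT.Sig V R o c →
      ∃ v ∈ cv (S : Subgroup G) P, ∃ k, c * rr ε i j = v * zz ε k) :
    ∀ x ∈ zc T, x ∈ CenX V R → ∀ y ∈ zc T, y ∈ CenX V R → x ≠ 1 → y ≠ 1 → x = y := by
  have hZ : ∀ {z : G}, z ∈ zc T → z ∈ CenX V R → z ∈ zc T ⊓ centralizer ((T ⊔ XX V R : Subgroup G) : Set G) :=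
    fun hz hX => OtD.mem_Z0 hz hX
  intro x hx hxX y hy hyX hx1 hy1
  refine HT.EndCore.main h.htt hLE h.hr h.otD (fun _ c hcz hs => ?_) x (hZ hx hxX) y (hZ hy hyX) hx1 hy1
  have hcX : c ∈ CenX V R := centralizer_le (fun x hx => mem_sup_right hx) hcz.2
  obtain ⟨v, hv, k, hvk⟩ := hsig c hcz.1 hcX hs
  have hc1 := h.ne_one hm hv hvk
  refine ⟨c, hcz, hc1, Or.inr rfl, ?_⟩
  refine HT.AlphaY.not_alpha h.htt h.hr hLE hcz hc1
    (HT.Main.gsys_of_core h.htt h.hr hcz hc1 (HT.EndCore.core h.htt h.hr h.otD hcz)) ?_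
  intro g hg w hw
  rw [hvk] at hg
  exact comm_pt h.sit hm hv k hg (h.sit.split.A_le (rr_mem h.sit.split.even i j)) (h.V_le_zl hw)

end Ln

end Cfsg.Agent.Omega.F4Leaf.Syl.OtT

end

-- merged: Cfsg.Agent.Mrg.Omega.F4Leaf.Syl.LEone
section

section


/-!
# LeafF4, `m ≥ 2`, any `V₀` : `(H2)` or LE (#21183 (I') of helper758, end #21356 (a)-(d) of helper107)

`Fam A ε W` : `A ≤ W i j ≤ WP ε i j`, `W i j` normal in `N_ij = C_G(r_ij)`, inducing the transposition `(i j)`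
(e.g. `WP ε` or `⟨A ^ N_ij⟩`).

`le_one` : `K` a 2-group normalised by `N_ij`, every `u ∈ K` has `u` or `r_ij u` in `C(W i o) ∩ C(W j o)`.  Then
`(H2)` or `K ≤ ⟨r_ij⟩`.
-/

set_option autoImplicit false
set_option linter.dupNamespace false

namespace Cfsg.Agent.Omega.F4Leaf.Syl.LEone

open Subgroup Pointwise Cfsg Cfsg.Agent Cfsg.Agent.Omega.MinPar
open Cfsg.Agent.ZN (o2 zc zl)
open Cfsg.Agent.Omega.FrameFF (cv)
open Cfsg.Agent.Omega.S5.Def Cfsg.Agent.Omega.S5.Syl Cfsg.Agent.Omega.F4Leaf.Def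
open Cfsg.Agent.Omega.S5.SymBig (H2)
open Cfsg.Agent.Omega.F4Leaf.Pos Cfsg.Agent.Omega.F4Leaf.Facts
open Cfsg.Agent.Omega.NSix.Base Cfsg.Agent.Omega.NSix.Basic Cfsg.Agent.Omega.NSix.FixApp
open Cfsg.Agent.Omega.NSix.Zero (WP mem_WP WP_norm WP_conj o2_NN_conj)
open Cfsg.Agent.MinSimple.VModule (o2_isPGroup o2_le le_o2 le_normalizer_o2)

universe u

variable {G : Type u} [Group G]

/-- `A ≤ W i j ≤ WP ε i j`, `W i j` normal in `N_ij`, inducing `(i j)` -/
structure Fam {n : ℕ} (A : Subgroup G) (ε : (Fin n → ZMod 2) → G) (W : Fin n → Fin n → Subgroup G) : Prop where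
  Ale : ∀ i j, i ≠ j → A ≤ W i j
  wn : ∀ i j, i ≠ j → ∀ g ∈ NN ε i j, ∀ x ∈ W i j, g * x * g⁻¹ ∈ W i j
  wc : ∀ (g : G) (σ : Equiv.Perm (Fin n)), Acts ε g σ → ∀ i j, i ≠ j → ∀ x ∈ W i j, g * x * g⁻¹ ∈ W (σ i) (σ j)
  le : ∀ i j, i ≠ j → W i j ≤ WP ε i j
  mov : ∀ i j, i ≠ j → ∃ w ∈ W i j, Acts ε w (Equiv.swap i j)

/-- `C(W i k) ∩ C(W j k)` -/
def CC {n : ℕ} (W : Fin n → Fin n → Subgroup G) (i j k : Fin n) : Subgroup G :=
  centralizer (W i k : Set G) ⊓ centralizer (W j k : Set G)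

theorem mem_CC {n : ℕ} {W : Fin n → Fin n → Subgroup G} {i j k : Fin n} {x : G} :
    x ∈ CC W i j k ↔ (∀ w ∈ W i k, w * x = x * w) ∧ ∀ w ∈ W j k, w * x = x * w :=
  and_congr mem_centralizer_iff mem_centralizer_iff

theorem norm_of {H L : Subgroup G} (h : ∀ g ∈ L, ∀ x ∈ H, g * x * g⁻¹ ∈ H) : L ≤ normalizer (H : Set G) := by
  intro g hg
  rw [mem_normalizer_iff]
  refine fun x => ⟨h g hg x, fun hx => ?_⟩
  have h1 := h g⁻¹ (inv_mem hg) _ hx
  have e : g⁻¹ * (g * x * g⁻¹) * g⁻¹⁻¹ = x := by group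
  rwa [e] at h1

theorem conj_of {H : Subgroup G} {g x : G} (h : g ∈ normalizer (H : Set G)) (hx : x ∈ H) : g * x * g⁻¹ ∈ H :=
  (mem_normalizer_iff.mp h x).mp hx

theorem conj_of' {H : Subgroup G} {g x : G} (h : g ∈ normalizer (H : Set G)) (hx : x ∈ H) : g⁻¹ * x * g ∈ H := by
  have := conj_of (inv_mem h) hx
  rwa [inv_inv] at this

variable [Finite G] {S : Sylow 2 G} {P : Subgroup G} {m : ℕ} {A : Subgroup G}
  {ε : (Fin (2 ^ m + 1) → ZMod 2) → G} {W : Fin (2 ^ m + 1) → Fin (2 ^ m + 1) → Subgroup G}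

omit [Finite G] in
theorem swap_fix {ι : Type*} [DecidableEq ι] {i k o : ι} (ki : k ≠ i) (oi : o ≠ i) : Equiv.swap k o i = i :=
  Equiv.swap_apply_of_ne_of_ne ki.symm oi.symm

section

variable (h : Sit S P m A ε) (f : Fam A ε W)
include h f

omit [Finite G] h in
theorem conj_CC {i j k k' : Fin (2 ^ m + 1)} {p : G} {σ : Equiv.Perm (Fin (2 ^ m + 1))} (hσ : Acts ε p σ)
    (hi : σ i = i) (hj : σ j = j) (hk : σ k = k') (ki : k ≠ i) (kj : k ≠ j) {x : G}
    (hx : p * x * p⁻¹ ∈ CC W i j k') : x ∈ CC W i j k := by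
  rw [mem_CC] at hx ⊢
  have key : ∀ a, σ a = a → a ≠ k → (∀ w ∈ W a k', w * (p * x * p⁻¹) = p * x * p⁻¹ * w) →
      ∀ w ∈ W a k, w * x = x * w := by
    intro a ha hak h1 w hw
    have h2 := f.wc p σ hσ a k hak w hw
    rw [ha, hk] at h2
    have h3 := h1 _ h2
    calc w * x = p⁻¹ * (p * w * p⁻¹ * (p * x * p⁻¹)) * p := by group
      _ = p⁻¹ * (p * x * p⁻¹ * (p * w * p⁻¹)) * p := by rw [h3]
      _ = x * w := by group
  exact ⟨key i hi ki.symm hx.1, key j hj kj.symm hx.2⟩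

omit f in
theorem A_le_Q {a b : Fin (2 ^ m + 1)} (hab : a ≠ b) : A ≤ o2 (NN ε a b) := h.split.A_le.trans (h.V_le hab)

omit [Finite G] h f in
theorem NN_of_acts {p : G} {σ : Equiv.Perm (Fin (2 ^ m + 1))} (hσ : Acts ε p σ) {i j : Fin (2 ^ m + 1)}
    (hi : σ i = i) (hj : σ j = j) : p ∈ NN ε i j := by
  rw [mem_NN', rr_conj hσ, hi, hj]

/-- `K ≤ Q_ab` -/
theorem le_Q {i j a b : Fin (2 ^ m + 1)} (hab : a ≠ b) {K : Subgroup G} (hK2 : IsPGroup 2 K)
    (hKn : NN ε i j ≤ normalizer (K : Set G))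
    (hd : ∀ u ∈ K, u ∈ centralizer (W a b : Set G) ∨ rr ε i j * u ∈ centralizer (W a b : Set G))
    (hr : rr ε i j ∈ K) : K ≤ o2 (NN ε a b) := by
  have hE := h.split.even
  set M := centralizer (W a b : Set G) with hM
  have hMA : M ≤ centralizer (A : Set G) := centralizer_le (f.Ale a b hab)
  have hMij : M ≤ NN ε i j := fun x hx =>
    mem_NN.mpr (mem_centralizer_iff.mp (hMA hx) _ (rr_mem hE i j)).symm
  have hMab : M ≤ NN ε a b := fun x hx =>
    mem_NN.mpr (mem_centralizer_iff.mp (hMA hx) _ (rr_mem hE a b)).symm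
  have hWn : NN ε a b ≤ normalizer (W a b : Set G) := norm_of (f.wn a b hab)
  have hMn : NN ε a b ≤ normalizer (M : Set G) := fun g hg => NSix.End.Six.norm_cen _ (hWn hg)
  have h1 : K ⊓ M ≤ o2 M := by
    refine le_o2 inf_le_right (hK2.to_le inf_le_left) ?_
    refine norm_of fun g hg x hx => ⟨conj_of (hKn (hMij hg)) hx.1, M.mul_mem (M.mul_mem hg hx.2) (M.inv_mem hg)⟩
  have h2 : o2 M ≤ o2 (NN ε a b) := NO3b.UMethod.o2_le_o2_of_normal hMab hMn
  have hrQ : rr ε i j ∈ o2 (NN ε a b) := A_le_Q h hab (rr_mem hE i j)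
  intro u hu
  rcases hd u hu with h3 | h3
  · exact h2 (h1 ⟨hu, h3⟩)
  · have h4 := h2 (h1 ⟨mul_mem hr hu, h3⟩)
    have h5 := mul_mem hrQ h4
    rwa [← mul_assoc, rr_sq hE, one_mul] at h5

omit f in
/-- (H2) from one pair -/
theorem h2_of {i j : Fin (2 ^ m + 1)} (hij : i ≠ j)
    (h1 : ∀ k l, k ≠ l → k ≠ i → k ≠ j → l ≠ i → l ≠ j → UU ε i j ≤ o2 (NN ε k l)) : H2 ε := by
  have hE := h.split.even
  intro i' j' k l hij' hkl hik hil hjk hjl u hu
  obtain ⟨σ, hi, hj, -⟩ := exists_perm hij' hij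
  obtain ⟨p, -, hσ⟩ := hE.full σ
  have h2 := UU_conj hσ hu
  rw [hi, hj] at h2
  have e : ∀ a, σ⁻¹ (σ a) = a := fun a => σ.symm_apply_apply a
  have h3 := h1 (σ k) (σ l) (fun h0 => hkl (σ.injective h0)) (fun h0 => hik (σ.injective (hi.trans h0.symm)))
    (fun h0 => hjk (σ.injective (hj.trans h0.symm))) (fun h0 => hil (σ.injective (hi.trans h0.symm)))
    (fun h0 => hjl (σ.injective (hj.trans h0.symm))) h2
  have h4 := o2_NN_conj hσ.inv h3
  rw [e, e] at h4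
  have h5 : p⁻¹ * (p * u * p⁻¹) * p⁻¹⁻¹ = u := by group
  rwa [h5] at h4

/-- CASE A -/
theorem caseA {i j : Fin (2 ^ m + 1)} (hij : i ≠ j) {K : Subgroup G} (hK2 : IsPGroup 2 K)
    (hKn : NN ε i j ≤ normalizer (K : Set G)) (hr : rr ε i j ∈ K)
    (hd : ∀ k, k ≠ i → k ≠ j → ∀ u ∈ K, u ∈ CC W i j k ∨ rr ε i j * u ∈ CC W i j k)
    {k l : Fin (2 ^ m + 1)} (ki : k ≠ i) (kj : k ≠ j) (li : l ≠ i) (lj : l ≠ j) {u : G} (hu : u ∈ K)
    (h1 : u ∈ CC W i j k) (h2 : rr ε i j * u ∈ CC W i j l) : H2 ε := by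
  have hE := h.split.even
  obtain ⟨w, hw, hws⟩ := f.mov i k ki.symm
  obtain ⟨w', hw', hws'⟩ := f.mov i l li.symm
  have hc1 := (mem_CC.mp h1).1 w hw
  have hc2 := (mem_CC.mp h2).1 w' hw'
  by_cases hkl : k = l
  · -- `r` would be fixed
    exfalso
    subst hkl
    have h3 := (mem_CC.mp h2).1 w hw
    have h4 : w * rr ε i j * w⁻¹ = rr ε i j := by
      rw [mul_inv_eq_iff_eq_mul]
      apply mul_right_cancel (b := u)
      rw [mul_assoc, h3, mul_assoc, mul_assoc, hc1]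
    rw [rr_conj hws, Equiv.swap_apply_left, Equiv.swap_apply_of_ne_of_ne hij.symm kj.symm] at h4
    have h5 : rr ε k i = 1 := by
      rw [← rr_add hE k j i, h4, rr_symm hE j i, rr_sq hE]
    exact rr_ne_one hE h.three ki h5
  -- `rr l k ∈ K`
  have e1 : w' * u * w'⁻¹ = rr ε l i * u := by
    have h4 : w' * rr ε i j * w'⁻¹ = rr ε l j := by
      rw [rr_conj hws', Equiv.swap_apply_left, Equiv.swap_apply_of_ne_of_ne hij.symm lj.symm]
    calc w' * u * w'⁻¹ = w' * (rr ε i j * rr ε i j) * u * w'⁻¹ := by rw [rr_sq hE, mul_one]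
      _ = (w' * rr ε i j * w'⁻¹) * (w' * (rr ε i j * u)) * w'⁻¹ := by group
      _ = rr ε l j * (rr ε i j * u) := by rw [hc2, h4]; group
      _ = rr ε l i * u := by rw [rr_symm hE i j, ← mul_assoc, rr_add hE]
  have e2 : w * (rr ε l i * u) * w⁻¹ = rr ε l k * u := by
    have h4 : w * rr ε l i * w⁻¹ = rr ε l k := by
      rw [rr_conj hws, Equiv.swap_apply_left, Equiv.swap_apply_of_ne_of_ne li (Ne.symm hkl)]
    calc w * (rr ε l i * u) * w⁻¹ = (w * rr ε l i * w⁻¹) * (w * u) * w⁻¹ := by group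
      _ = rr ε l k * u := by rw [hc1, h4]; group
  have e3 : w * w' * w⁻¹ * u * (w * w' * w⁻¹)⁻¹ = rr ε l k * u := by
    have h5 : w⁻¹ * u * w = u := by
      rw [mul_assoc, ← hc1]
      group
    calc w * w' * w⁻¹ * u * (w * w' * w⁻¹)⁻¹ = w * (w' * (w⁻¹ * u * w) * w'⁻¹) * w⁻¹ := by group
      _ = rr ε l k * u := by rw [h5, e1, e2]
  have hcs : Acts ε (w * w' * w⁻¹) (Equiv.swap i k * Equiv.swap i l * (Equiv.swap i k)⁻¹) :=
    (hws.mul hws').mul hws.inv
  have hcN : w * w' * w⁻¹ ∈ NN ε i j := by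
    have h6 : Equiv.swap i k * Equiv.swap i l * (Equiv.swap i k)⁻¹ = Equiv.swap k l := by
      rw [← Equiv.swap_apply_apply, Equiv.swap_apply_left, Equiv.swap_apply_of_ne_of_ne li (Ne.symm hkl)]
    rw [h6] at hcs
    exact NN_of_acts hcs (swap_fix ki li) (swap_fix kj lj)
  have hlk : rr ε l k ∈ K := by
    have h6 := conj_of (hKn hcN) hu
    rw [e3] at h6
    have h7 := mul_mem h6 (inv_mem hu)
    rwa [mul_inv_cancel_right] at h7
  -- all pairs off `i`, `j`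
  have hall : ∀ a c, a ≠ c → a ≠ i → a ≠ j → c ≠ i → c ≠ j → rr ε a c ∈ K := by
    intro a c hac ai aj ci cj
    obtain ⟨σ, s1, s2, s3⟩ := exists_perm (Ne.symm hkl) hac
    obtain ⟨p, -, hσ⟩ := hE.full σ
    have s4 : σ i = i := s3 i li.symm ki.symm ai.symm ci.symm
    have s5 : σ j = j := s3 j lj.symm kj.symm aj.symm cj.symm
    have h6 := conj_of (hKn (NN_of_acts hσ s4 s5)) hlk
    rwa [rr_conj hσ, s1, s2] at h6
  have hodd : Odd (2 ^ m + 1) := NSix.CosetAct.odd_n (by have := h.m2; omega)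
  have hUK : UU ε i j ≤ K := by
    unfold UU
    rw [closure_le]
    rintro x ⟨g, hg, a, a1, a2, rfl⟩
    exact conj_of (hKn hg) (NSix.Free.zz_mem_of_rr hE hodd h.three hij hr hall a1 a2)
  have hKQ : ∀ a, a ≠ i → a ≠ j → K ≤ o2 (NN ε i a) := fun a ai aj =>
    le_Q h f ai.symm hK2 hKn (fun v hv => (hd a ai aj v hv).imp (fun h0 => h0.1) fun h0 => h0.1) hr
  refine h2_of h hij fun a c hac ai aj ci cj x hx => ?_
  obtain ⟨v, hv, hvs⟩ := f.mov i a ai.symm
  have h6 := hKQ a ai aj (hUK hx)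
  have h7 := o2_NN_conj hvs (hKQ c ci cj (hUK hx))
  rw [Equiv.swap_apply_left, Equiv.swap_apply_of_ne_of_ne ci hac.symm] at h7
  have hra : rr ε i a ∈ o2 (NN ε a c) := A_le_Q h hac (rr_mem hE i a)
  rcases h.fac.wp_conj h6 (f.le i a ai.symm hv) with h8 | h8
  · rwa [h8] at h7
  · rw [h8] at h7
    have h9 := mul_mem h7 hra
    rwa [mul_assoc, rr_sq hE, mul_one] at h9

omit f in
/-- elements of `P` inducing every permutation, in a subgroup containing elements inducing `(i k)`, `(j k)` -/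
theorem full_of {i j : Fin (2 ^ m + 1)} (hij : i ≠ j) {D : Subgroup G}
    (hD : ∀ k, k ≠ i → k ≠ j → (∃ w ∈ D, Acts ε w (Equiv.swap i k)) ∧ ∃ w ∈ D, Acts ε w (Equiv.swap j k))
    (σ : Equiv.Perm (Fin (2 ^ m + 1))) : ∃ w ∈ D, Acts ε w σ := by
  let H : Subgroup (Equiv.Perm (Fin (2 ^ m + 1))) :=
    { carrier := {σ | ∃ w ∈ D, Acts ε w σ}
      one_mem' := ⟨1, one_mem _, Acts.one⟩
      mul_mem' := by
        rintro a b ⟨w, hw, hw1⟩ ⟨v, hv, hv1⟩
        exact ⟨w * v, mul_mem hw hv, hw1.mul hv1⟩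
      inv_mem' := by
        rintro a ⟨w, hw, hw1⟩
        exact ⟨w⁻¹, inv_mem hw, hw1.inv⟩ }
  have h1 : ∀ k, k ≠ i → k ≠ j → Equiv.swap i k ∈ H := fun k ki kj => (hD k ki kj).1
  have h2 : ∀ k, k ≠ i → k ≠ j → Equiv.swap j k ∈ H := fun k ki kj => (hD k ki kj).2
  obtain ⟨o, oi, oj⟩ : ∃ o : Fin (2 ^ m + 1), o ≠ i ∧ o ≠ j := by
    have h3 := h.three
    by_contra hno
    push Not at hno
    have h4 : (Finset.univ : Finset (Fin (2 ^ m + 1))) ⊆ {i, j} := by
      intro a _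
      rw [Finset.mem_insert, Finset.mem_singleton]
      by_cases ha : a = i
      · exact Or.inl ha
      · exact Or.inr (hno a ha)
    have h5 := Finset.card_le_card h4
    rw [Finset.card_univ, Fintype.card_fin] at h5
    have h6 : ({i, j} : Finset (Fin (2 ^ m + 1))).card ≤ 2 := Finset.card_le_two
    omega
  have h3 : Equiv.swap i j ∈ H := by
    have h4 : Equiv.swap i o * Equiv.swap j o * (Equiv.swap i o)⁻¹ = Equiv.swap i j := by
      rw [← Equiv.swap_apply_apply, Equiv.swap_apply_right, Equiv.swap_apply_of_ne_of_ne hij.symm oj.symm,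
        Equiv.swap_comm]
    rw [← h4]
    exact mul_mem (mul_mem (h1 o oi oj) (h2 o oi oj)) (inv_mem (h1 o oi oj))
  have h4 : ∀ k, k ≠ i → Equiv.swap i k ∈ H := by
    intro k ki
    by_cases kj : k = j
    · rw [kj]
      exact h3
    · exact h1 k ki kj
  have h5 : ∀ a b, a ≠ b → Equiv.swap a b ∈ H := by
    intro a b hab
    by_cases ha : a = i
    · rw [ha]
      exact h4 b fun hb => hab (ha.trans hb.symm)
    by_cases hb : b = i
    · rw [hb, Equiv.swap_comm]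
      exact h4 a ha
    have h6 : Equiv.swap i a * Equiv.swap i b * (Equiv.swap i a)⁻¹ = Equiv.swap a b := by
      rw [← Equiv.swap_apply_apply, Equiv.swap_apply_left, Equiv.swap_apply_of_ne_of_ne hb hab.symm]
    rw [← h6]
    exact mul_mem (mul_mem (h4 a ha) (h4 b hb)) (inv_mem (h4 a ha))
  have hH : H = ⊤ := by
    rw [eq_top_iff, ← Equiv.Perm.closure_isSwap, closure_le]
    rintro _ ⟨a, b, hab, rfl⟩
    exact h5 a b hab
  exact (hH ▸ mem_top σ : σ ∈ H)

omit f in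
/-- **CASE B**: `K' ≠ 1` normalised by `P`, `K = ⟨r⟩ K'`, `K ≤ Q_ij` -/
theorem caseB {i j : Fin (2 ^ m + 1)} (hij : i ≠ j) {K K' : Subgroup G} (hK' : K' ≤ K)
    (hK2 : IsPGroup 2 K) (hKn : NN ε i j ≤ normalizer (K : Set G)) (hKN : K ≤ NN ε i j)
    (hd : ∀ u ∈ K, u ∈ K' ∨ rr ε i j * u ∈ K') (h1 : K' ≠ ⊥) (hP : P ≤ normalizer (K' : Set G)) : H2 ε := by
  have hE := h.split.even
  have hK'2 : IsPGroup 2 K' := hK2.to_le hK'
  have hKQ : K ≤ o2 (NN ε i j) := le_o2 hKN hK2 hKn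
  set C := centralizer (K' : Set G) with hC
  have hN : normalizer (K' : Set G) ≤ normalizer (C : Set G) := fun g hg => NSix.End.Six.norm_cen _ hg
  -- (a)
  have a1 : o2 C ≤ o2 P :=
    (NO3b.UMethod.o2_le_o2_of_normal (centralizer_le_normalizer _) hN).trans (o2_le_o2 S h.par.le hP)
  have a2 : ∀ x ∈ o2 C, ∀ v ∈ zl (S : Subgroup G) P, v * x = x * v := by
    intro x hx v hv
    have h2 := a1 hx
    rw [← h.par.inf_centralizer S h.c2] at h2
    exact mem_centralizer_iff.mp h2.2 v hv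
  have hrV : rr ε i j ∈ zl (S : Subgroup G) P := h.split.A_le (rr_mem hE i j)
  have a3 : o2 C ≤ NN ε i j := fun x hx => mem_NN.mpr (a2 x hx _ hrV).symm
  -- (b)
  have b0 : C ⊓ NN ε i j ≤ NN ε i j ⊓ centralizer (K : Set G) := by
    rintro x ⟨hx, hxN⟩
    refine ⟨hxN, mem_centralizer_iff.mpr fun u hu => ?_⟩
    rcases hd u hu with h2 | h2
    · exact mem_centralizer_iff.mp hx u h2
    · have h3 := mem_centralizer_iff.mp hx _ h2
      have h4 := mem_NN.mp hxN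
      apply mul_left_cancel (a := rr ε i j)
      calc rr ε i j * (u * x) = rr ε i j * u * x := by group
        _ = x * rr ε i j * u := by rw [h3]; group
        _ = rr ε i j * (x * u) := by rw [h4]; group
  have b1 : NN ε i j ⊓ centralizer (K : Set G) ≤ C := inf_le_right.trans (centralizer_le hK')
  have b2 : o2 C ≤ o2 (NN ε i j ⊓ centralizer (K : Set G)) :=
    le_o2 ((le_inf (o2_le C) a3).trans b0) (o2_isPGroup C) (b1.trans (le_normalizer_o2 C))
  have b3 : o2 C ≤ o2 (NN ε i j) := by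
    refine b2.trans (NO3b.UMethod.o2_le_o2_of_normal inf_le_left (norm_of fun g hg x hx => ?_))
    exact ⟨(NN ε i j).mul_mem ((NN ε i j).mul_mem hg hx.1) ((NN ε i j).inv_mem hg),
      conj_of (NSix.End.Six.norm_cen _ (hKn hg)) hx.2⟩
  -- (c)
  have c1 : ∀ x ∈ o2 (NN ε i j), (∀ q ∈ o2 (NN ε i j), q * x = x * q) → x ∈ o2 C := by
    intro x _ hx
    refine NOne.LemmaT.char2_centralizer h.c2 hK'2 h1 ⟨mem_centralizer_iff.mpr fun u hu => hx u (hKQ (hK' hu)),
      mem_centralizer_iff.mpr fun y hy => hx y (b3 hy)⟩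
  -- (d)
  have d1 : P ≤ normalizer (o2 C : Set G) := fun g hg => normalizer_le_normalizer_o2' C (hN (hP hg))
  have hodd : Odd (2 ^ m + 1) := NSix.CosetAct.odd_n (by have := h.m2; omega)
  refine h2_of h hij fun k l hkl ki kj li lj x hx => ?_
  have hxQ : x ∈ o2 (NN ε i j) := by
    have h2 : UU ε i j ≤ o2 (NN ε i j) := by
      unfold UU
      rw [closure_le]
      rintro y ⟨g, hg, a, a1, a2, rfl⟩
      refine conj_of (le_normalizer_o2 _ hg) ?_
      exact A_le_Q h hij (zz_mem hE a)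
    exact h2 hx
  have hxC : x ∈ o2 C :=
    c1 x hxQ fun q hq => mem_centralizer_iff.mp (h.fac.uu_cen hodd h.three hij hx) q hq
  obtain ⟨σ, s1, s2, -⟩ := exists_perm hij hkl
  obtain ⟨p, hp, hσ⟩ := hE.full σ
  have h3 := conj_of' (d1 hp) hxC
  have h4 := o2_NN_conj hσ (b3 h3)
  rw [s1, s2] at h4
  have e : p * (p⁻¹ * x * p) * p⁻¹ = x := by group
  rwa [e] at h4

/-- the theorem for `r ∈ K` -/
theorem le_one_aux {i j o : Fin (2 ^ m + 1)} (hij : i ≠ j) (oi : o ≠ i) (oj : o ≠ j) {K : Subgroup G}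
    (hK2 : IsPGroup 2 K) (hKn : NN ε i j ≤ normalizer (K : Set G)) (hr : rr ε i j ∈ K)
    (hdo : ∀ u ∈ K, u ∈ CC W i j o ∨ rr ε i j * u ∈ CC W i j o) :
    H2 ε ∨ ∀ u ∈ K, u = 1 ∨ u = rr ε i j := by
  have hE := h.split.even
  -- all `k`
  have hd : ∀ k, k ≠ i → k ≠ j → ∀ u ∈ K, u ∈ CC W i j k ∨ rr ε i j * u ∈ CC W i j k := by
    intro k ki kj u hu
    obtain ⟨p, -, hσ⟩ := hE.full (Equiv.swap k o)
    have s1 : Equiv.swap k o i = i := swap_fix ki oi
    have s2 : Equiv.swap k o j = j := swap_fix kj oj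
    have hpN : p ∈ NN ε i j := NN_of_acts hσ s1 s2
    rcases hdo _ (conj_of (hKn hpN) hu) with h1 | h1
    · exact Or.inl (conj_CC f hσ s1 s2 (Equiv.swap_apply_left k o) ki kj h1)
    · refine Or.inr (conj_CC f hσ s1 s2 (Equiv.swap_apply_left k o) ki kj ?_)
      have e : p * (rr ε i j * u) * p⁻¹ = rr ε i j * (p * u * p⁻¹) := by
        have h2 := mem_NN.mp hpN
        calc p * (rr ε i j * u) * p⁻¹ = p * rr ε i j * u * p⁻¹ := by group
          _ = rr ε i j * (p * u * p⁻¹) := by rw [h2]; group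
      rwa [e]
  by_cases hA : ∃ k, (k ≠ i ∧ k ≠ j) ∧ ∃ l, (l ≠ i ∧ l ≠ j) ∧ ∃ u ∈ K, u ∈ CC W i j k ∧ rr ε i j * u ∈ CC W i j l
  · obtain ⟨k, ⟨ki, kj⟩, l, ⟨li, lj⟩, u, hu, h1, h2⟩ := hA
    exact Or.inl (caseA h f hij hK2 hKn hr hd ki kj li lj hu h1 h2)
  push Not at hA
  -- `K'`
  let K' : Subgroup G := K ⊓ ⨅ k : {k : Fin (2 ^ m + 1) // k ≠ i ∧ k ≠ j}, CC W i j k
  have hmem : ∀ {u : G}, u ∈ K' ↔ u ∈ K ∧ ∀ k, k ≠ i → k ≠ j → u ∈ CC W i j k := by
    intro u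
    change u ∈ K ⊓ ⨅ k : {k : Fin (2 ^ m + 1) // k ≠ i ∧ k ≠ j}, CC W i j k ↔ _
    rw [mem_inf, mem_iInf]
    refine and_congr_right fun _ => ⟨fun h1 k ki kj => h1 ⟨k, ki, kj⟩, fun h1 k => h1 k k.2.1 k.2.2⟩
  have hdK : ∀ u ∈ K, u ∈ K' ∨ rr ε i j * u ∈ K' := by
    intro u hu
    rcases hdo u hu with h1 | h1
    · left
      rw [hmem]
      exact ⟨hu, fun k ki kj => (hd k ki kj u hu).resolve_right (hA o ⟨oi, oj⟩ k ⟨ki, kj⟩ u hu h1)⟩
    · right
      rw [hmem]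
      refine ⟨mul_mem hr hu, fun k ki kj => ?_⟩
      have e : rr ε i j * (rr ε i j * u) = u := by rw [← mul_assoc, rr_sq hE, one_mul]
      refine (hd k ki kj (rr ε i j * u) (mul_mem hr hu)).resolve_right ?_
      exact hA o ⟨oi, oj⟩ k ⟨ki, kj⟩ _ (mul_mem hr hu) h1
  by_cases hK'1 : K' = ⊥
  · right
    intro u hu
    rcases hdK u hu with h1 | h1
    · rw [hK'1, mem_bot] at h1
      exact Or.inl h1
    · rw [hK'1, mem_bot, mul_eq_one_iff_eq_inv] at h1
      right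
      rw [← inv_inj, ← h1, rr_inv hE]
  left
  -- `P` normalises `K'`
  have hDK : ∀ σ : Equiv.Perm (Fin (2 ^ m + 1)), ∃ w ∈ centralizer (K' : Set G), Acts ε w σ := by
    refine full_of h hij fun k ki kj => ⟨?_, ?_⟩
    · obtain ⟨w, hw, hws⟩ := f.mov i k ki.symm
      exact ⟨w, mem_centralizer_iff.mpr fun u hu => ((mem_CC.mp ((hmem.mp hu).2 k ki kj)).1 w hw).symm, hws⟩
    · obtain ⟨w, hw, hws⟩ := f.mov j k kj.symm
      exact ⟨w, mem_centralizer_iff.mpr fun u hu => ((mem_CC.mp ((hmem.mp hu).2 k ki kj)).2 w hw).symm, hws⟩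
  have hPK : P ≤ normalizer (K' : Set G) := by
    refine norm_of fun p hp u hu => ?_
    obtain ⟨σ, hσ⟩ := hE.perm p hp
    obtain ⟨w, hw, hws⟩ := hDK σ
    have hc : Acts ε (w⁻¹ * p) 1 := by
      have := hws.inv.mul hσ
      rwa [inv_mul_cancel] at this
    have hcN : w⁻¹ * p ∈ NN ε i j := NN_of_acts hc rfl rfl
    have h1 : (w⁻¹ * p) * u * (w⁻¹ * p)⁻¹ ∈ K' := by
      rw [hmem] at hu ⊢
      refine ⟨conj_of (hKn hcN) hu.1, fun k ki kj => ?_⟩
      have hc' : Acts ε (w⁻¹ * p)⁻¹ 1 := by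
        have := hc.inv
        rwa [inv_one] at this
      refine conj_CC f hc' rfl rfl rfl ki kj ?_
      have e : (w⁻¹ * p)⁻¹ * (w⁻¹ * p * u * (w⁻¹ * p)⁻¹) * (w⁻¹ * p)⁻¹⁻¹ = u := by group
      rw [e]
      exact hu.2 k ki kj
    have h2 := mem_centralizer_iff.mp hw _ h1
    have e : p * u * p⁻¹ = w * (w⁻¹ * p * u * (w⁻¹ * p)⁻¹) * w⁻¹ := by group
    rw [e, ← h2, mul_inv_cancel_right]
    exact h1
  have hKN : K ≤ NN ε i j := by
    intro u hu
    have hk : ∀ v ∈ CC W i j o, v ∈ NN ε i j := by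
      intro v hv
      exact mem_NN.mpr ((mem_CC.mp hv).1 _ (f.Ale i o oi.symm (rr_mem hE i j))).symm
    rcases hdo u hu with h1 | h1
    · exact hk u h1
    · have h2 := mul_mem (mem_NN.mpr rfl : rr ε i j ∈ NN ε i j) (hk _ h1)
      rwa [← mul_assoc, rr_sq hE, one_mul] at h2
  exact caseB h hij inf_le_left hK2 hKn hKN hdK hK'1 hPK

/-- **LE or (H2)** -/
theorem le_one {i j o : Fin (2 ^ m + 1)} (hij : i ≠ j) (oi : o ≠ i) (oj : o ≠ j) {K : Subgroup G}
    (hK2 : IsPGroup 2 K) (hKn : NN ε i j ≤ normalizer (K : Set G))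
    (hdo : ∀ u ∈ K, u ∈ CC W i j o ∨ rr ε i j * u ∈ CC W i j o) :
    H2 ε ∨ ∀ u ∈ K, u = 1 ∨ u = rr ε i j := by
  have hE := h.split.even
  have hCC : ∀ v ∈ CC W i j o, v * rr ε i j = rr ε i j * v := fun v hv =>
    ((mem_CC.mp hv).1 _ (f.Ale i o oi.symm (rr_mem hE i j))).symm
  have hcom : ∀ u ∈ K, u * rr ε i j = rr ε i j * u := by
    intro u hu
    rcases hdo u hu with h1 | h1
    · exact hCC u h1
    · have h2 := hCC _ h1
      apply mul_left_cancel (a := rr ε i j)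
      rw [← mul_assoc, h2]
  -- `K₁ = K ∪ r K`
  let K₁ : Subgroup G :=
    { carrier := {x | x ∈ K ∨ rr ε i j * x ∈ K}
      one_mem' := Or.inl (one_mem _)
      mul_mem' := by
        rintro a b (ha | ha) (hb | hb)
        · exact Or.inl (mul_mem ha hb)
        · right
          have e : rr ε i j * (a * b) = a * (rr ε i j * b) := by rw [← mul_assoc, ← hcom a ha, mul_assoc]
          rw [e]
          exact mul_mem ha hb
        · right
          rw [← mul_assoc]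
          exact mul_mem ha hb
        · left
          have h1 : a * rr ε i j = rr ε i j * a := by
            have h2 := hcom _ ha
            apply mul_left_cancel (a := rr ε i j)
            rw [← mul_assoc, h2]
          have e : a * b = (rr ε i j * a) * (rr ε i j * b) := by
            calc a * b = a * (rr ε i j * rr ε i j) * b := by rw [rr_sq hE, mul_one]
              _ = (a * rr ε i j) * (rr ε i j * b) := by group
              _ = _ := by rw [h1]
          rw [e]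
          exact mul_mem ha hb
      inv_mem' := by
        rintro a (ha | ha)
        · exact Or.inl (inv_mem ha)
        · right
          have e : rr ε i j * a⁻¹ = (rr ε i j * a)⁻¹ := by
            rw [mul_inv_rev, rr_inv hE]
            have h3 : a * rr ε i j = rr ε i j * a := by
              have h4 := hcom _ ha
              apply mul_left_cancel (a := rr ε i j)
              rw [← mul_assoc, h4]
            exact ((show Commute a (rr ε i j) from h3).inv_left.eq).symm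
          rw [e]
          exact inv_mem ha }
  have hle : K ≤ K₁ := fun x hx => Or.inl hx
  have hr : rr ε i j ∈ K₁ := Or.inr (by rw [rr_sq hE]; exact one_mem _)
  have h2 : IsPGroup 2 K₁ := by
    rintro ⟨x, hx⟩
    have h3 : x * x ∈ K := by
      rcases hx with hx | hx
      · exact mul_mem hx hx
      · have h4 : x * rr ε i j = rr ε i j * x := by
          have h4 := hcom _ hx
          apply mul_left_cancel (a := rr ε i j)
          rw [← mul_assoc, h4]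
        have e : x * x = (rr ε i j * x) * (rr ε i j * x) := by
          calc x * x = x * (rr ε i j * rr ε i j) * x := by rw [rr_sq hE, mul_one]
            _ = (x * rr ε i j) * (rr ε i j * x) := by group
            _ = _ := by rw [h4]
        rw [e]
        exact mul_mem hx hx
    obtain ⟨k, hk⟩ := hK2 ⟨x * x, h3⟩
    refine ⟨k + 1, Subtype.ext ?_⟩
    have h4 : (x * x) ^ 2 ^ k = 1 := congrArg Subtype.val hk
    change x ^ 2 ^ (k + 1) = 1
    rw [pow_succ', pow_mul, pow_two, h4]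
  have hn : NN ε i j ≤ normalizer (K₁ : Set G) := by
    refine norm_of fun g hg x hx => ?_
    rcases hx with hx | hx
    · exact Or.inl (conj_of (hKn hg) hx)
    · right
      have h3 := conj_of (hKn hg) hx
      have e : g * (rr ε i j * x) * g⁻¹ = rr ε i j * (g * x * g⁻¹) := by
        have h4 := mem_NN.mp hg
        calc g * (rr ε i j * x) * g⁻¹ = g * rr ε i j * x * g⁻¹ := by group
          _ = rr ε i j * (g * x * g⁻¹) := by rw [h4]; group
      rwa [e] at h3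
  have hd1 : ∀ u ∈ K₁, u ∈ CC W i j o ∨ rr ε i j * u ∈ CC W i j o := by
    rintro u (hu | hu)
    · exact hdo u hu
    · rcases hdo _ hu with h3 | h3
      · exact Or.inr h3
      · left
        rwa [← mul_assoc, rr_sq hE, one_mul] at h3
  exact (le_one_aux h f hij oi oj h2 hn hr hd1).imp id fun h3 u hu => h3 u (hle hu)

end

/-! ### the two families -/

/-- `WP` -/
theorem fam_WP (h : Sit S P m A ε)
    (hN : ∃ i j, i ≠ j ∧ ∃ g ∈ WP ε i j, ¬ g ∈ centralizer (A : Set G)) : Fam A ε (WP ε) where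
  Ale _ _ hij _ ha := h.fac.mem_wp hij ha
  wn _ _ _ _ hg _ hx := WP_norm hg hx
  wc _ _ hg _ _ _ _ hx := WP_conj hg hx
  le _ _ _ := le_rfl
  mov _ _ hij := h.mov hN hij

/-- `⟨A ^ N_ij⟩` -/
theorem fam_WW (h : Sit S P m A ε)
    (hN : ∃ i j, i ≠ j ∧ ∃ g ∈ WW A ε i j, ¬ g ∈ centralizer (A : Set G)) : Fam A ε (WW A ε) := by
  have hE := h.split.even
  have hle : ∀ i j : Fin (2 ^ m + 1), i ≠ j → WW A ε i j ≤ WP ε i j := by
    intro i j hij
    unfold WW
    rw [closure_le]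
    rintro x ⟨g, hg, v, hv, rfl⟩
    exact WP_norm hg (h.fac.mem_wp hij hv)
  refine
    { Ale := fun i j _ => V_le_WW i j
      wn := fun _ _ _ _ hg _ hx => WW_normal hg hx
      wc := fun _ _ hg _ _ _ _ hx => WW_conj (acts_norm hE hg) hg hx
      le := hle
      mov := ?_ }
  obtain ⟨i0, j0, hij0, g, hg, hgV⟩ := hN
  have hgs : Acts ε g (Equiv.swap i0 j0) :=
    (h.acts hij0 (h.fac.ww h.c2 h.three hij0 (hle i0 j0 hij0 hg))).resolve_left fun h1 =>
      hgV (hE.acts_one_iff.mp h1)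
  intro i j hij
  obtain ⟨σ, h1, h2, -⟩ := exists_perm hij0 hij
  obtain ⟨p, -, hp⟩ := hE.full σ
  refine ⟨p * g * p⁻¹, ?_, ?_⟩
  · have := WW_conj (acts_norm hE hp) hp hg
    rwa [h1, h2] at this
  · have h3 := hp.conj hgs
    have h4 : σ * Equiv.swap i0 j0 * σ⁻¹ = Equiv.swap i j := by
      rw [← Equiv.swap_apply_apply, h1, h2]
    rwa [h4] at h3

end Cfsg.Agent.Omega.F4Leaf.Syl.LEone

end

section


/-!
# LeafF4: LE of `HTwo.ThmA` over any frame `L`, `R` with `L ∋ r_ij, r_io, r_jo` (plug of `LEone.le_one`)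

* `A_le_WW`, `WW_le_WW` : `⟨A ^ N_io⟩ ≤ ⟨L ^ N(R)⟩`;
* `le_frame` : `(H2)` or `LE L R j` for all `j`.
-/

set_option autoImplicit false
set_option linter.dupNamespace false

namespace Cfsg.Agent.Omega.F4Leaf.Syl.LEone

open Subgroup Pointwise Cfsg Cfsg.Agent Cfsg.Agent.Omega.MinPar
open Cfsg.Agent.ZN (o2 zc zl)
open Cfsg.Agent.Omega.FrameFF (cv)
open Cfsg.Agent.Omega.S5.Def Cfsg.Agent.Omega.S5.Syl Cfsg.Agent.Omega.F4Leaf.Def
open Cfsg.Agent.Omega.S5.SymBig (H2)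
open Cfsg.Agent.Omega.F4Leaf.Pos Cfsg.Agent.Omega.F4Leaf.Facts
open Cfsg.Agent.Omega.NSix.Base Cfsg.Agent.Omega.NSix.Basic Cfsg.Agent.Omega.NSix.FixApp
open Cfsg.Agent.Omega.NSix.Zero (WP)
open Cfsg.Agent.MinSimple.VModule (o2_isPGroup o2_le le_o2 le_normalizer_o2)

universe u

variable {G : Type u} [Group G] [Finite G] {S : Sylow 2 G} {P : Subgroup G} {m : ℕ} {A : Subgroup G}
  {ε : (Fin (2 ^ m + 1) → ZMod 2) → G} {L : Subgroup G}

/-- `A ≤ ⟨L ^ N(R)⟩` for `r_ao, r_bo ∈ L`, `N_ao ≤ N(R)` -/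
theorem A_le_WW (h : Sit S P m A ε) {R : Subgroup G} {a b o : Fin (2 ^ m + 1)} (hab : a ≠ b)
    (hao : a ≠ o) (hbo : b ≠ o) (hR : NN ε a o ≤ normalizer (R : Set G)) (h1 : rr ε a o ∈ L) (h2 : rr ε b o ∈ L) :
    A ≤ BTwo.WW L R := by
  have hE := h.split.even
  have hodd : Odd (2 ^ m + 1) := NSix.CosetAct.odd_n (by have := h.m2; omega)
  have hL := BTwo.V_le_WW L R
  have hn : NN ε a o ≤ normalizer (BTwo.WW L R : Set G) := hR.trans (BTwo.normalizer_le_WW L R)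
  have hko : ∀ k, k ≠ o → rr ε k o ∈ BTwo.WW L R := by
    intro k hko
    by_cases ka : k = a
    · rw [ka]
      exact hL h1
    obtain ⟨p, -, hp⟩ := hE.full (Equiv.swap b k)
    have s1 : Equiv.swap b k a = a := swap_fix hab.symm ka
    have s2 : Equiv.swap b k o = o := swap_fix hbo hko
    have h3 := conj_of (hn (NN_of_acts hp s1 s2)) (hL h2)
    rwa [rr_conj hp, Equiv.swap_apply_left, s2] at h3
  have hall : ∀ k l, rr ε k l ∈ BTwo.WW L R := by
    intro k l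
    rw [← rr_add hE k o l]
    have h0 : ∀ k, rr ε k o ∈ BTwo.WW L R := by
      intro k
      by_cases hk : k = o
      · rw [hk]
        have h4 : rr ε o o = 1 := by
          unfold rr
          rw [zz_sq hE]
        rw [h4]
        exact one_mem _
      · exact hko k hk
    refine mul_mem (h0 k) ?_
    rw [rr_symm hE]
    exact h0 l
  have hz : ∀ k, k ≠ a → k ≠ o → zz ε k ∈ BTwo.WW L R := fun k ka ko =>
    NSix.Free.zz_mem_of_rr hE hodd h.three hao (hall a o) (fun c d _ _ _ _ _ => hall c d) ka ko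
  refine NSix.Free.v_le_of_zz hE fun k => ?_
  have h3 := hz b hab.symm hbo
  have h4 : zz ε k = rr ε k b * zz ε b := by
    unfold rr
    rw [mul_assoc, zz_sq hE, mul_one]
  rw [h4]
  exact mul_mem (hall k b) h3

theorem WW_le_WW (h : Sit S P m A ε) {R : Subgroup G} {a b o : Fin (2 ^ m + 1)} (hab : a ≠ b)
    (hao : a ≠ o) (hbo : b ≠ o) (hR : NN ε a o ≤ normalizer (R : Set G)) (h1 : rr ε a o ∈ L) (h2 : rr ε b o ∈ L) :
    WW A ε a o ≤ BTwo.WW L R := by
  unfold WW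
  rw [closure_le]
  rintro x ⟨g, hg, v, hv, rfl⟩
  exact conj_of (hR.trans (BTwo.normalizer_le_WW L R) hg) (A_le_WW h hab hao hbo hR h1 h2 hv)

/-- **LE or (H2)**, for a frame -/
theorem le_frame {ι : Type*} {R : ι → Subgroup G} (h : Sit S P m A ε) (b : BTwo.BTS L R)
    (hN : ∃ i j, i ≠ j ∧ ∃ g ∈ WW A ε i j, ¬ g ∈ centralizer (A : Set G))
    {i j o : Fin (2 ^ m + 1)} (hij : i ≠ j) (oi : o ≠ i) (oj : o ≠ j)
    (h1 : rr ε i j ∈ L) (h2 : rr ε i o ∈ L) (h3 : rr ε j o ∈ L) {a1 a2 a3 : ι}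
    (hr : ∀ x ∈ R a1, x = 1 ∨ x = rr ε i j) (hri : rr ε i j ∈ R a1) (hn1 : NN ε i j ≤ normalizer (R a1 : Set G))
    (hn2 : NN ε i o ≤ normalizer (R a2 : Set G)) (hn3 : NN ε j o ≤ normalizer (R a3 : Set G)) :
    H2 ε ∨ ∀ l, HTwo.ThmA.LE L R l := by
  by_cases hH : H2 ε
  · exact Or.inl hH
  right
  have hE := h.split.even
  have f := fam_WW h hN
  have hX : ∀ x ∈ BTwo.CenX L R, x ∈ CC (WW A ε) i j o := by
    intro x hx
    have k2 : WW A ε i o ≤ BTwo.XX L R :=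
      (WW_le_WW h hij oi.symm oj.symm hn2 h2 h3).trans (le_iSup (fun l => BTwo.WW L (R l)) a2)
    have k3 : WW A ε j o ≤ BTwo.XX L R :=
      (WW_le_WW h hij.symm oj.symm oi.symm hn3 h3 h2).trans (le_iSup (fun l => BTwo.WW L (R l)) a3)
    exact ⟨centralizer_le k2 hx, centralizer_le k3 hx⟩
  have hXr : ∀ x ∈ BTwo.CenX L R, x * rr ε i j = rr ε i j * x := fun x hx =>
    (mem_centralizer_iff.mp (b.CenX_le_cen hx) _ h1).symm
  refine HTwo.ThmA.le_all b.toBT (i := a1) fun Λ hΛ hΛn => ?_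
  have hd : ∀ u ∈ Λ, u ∈ BTwo.CenX L R ∨ rr ε i j * u ∈ BTwo.CenX L R := by
    intro u hu
    obtain ⟨a, ha, hau⟩ := hΛ u hu
    rcases hr a ha with rfl | rfl
    · left
      rwa [one_mul] at hau
    · exact Or.inr hau
  have hΛ2 : IsPGroup 2 Λ := by
    rintro ⟨x, hx⟩
    have h5 : x * x ∈ BTwo.CenX L R := by
      rcases hd x hx with h6 | h6
      · exact mul_mem h6 h6
      · have h7 := hXr _ h6
        have h8 : x * rr ε i j = rr ε i j * x := by
          apply mul_left_cancel (a := rr ε i j)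
          rw [← mul_assoc, h7]
        have e : x * x = (rr ε i j * x) * (rr ε i j * x) := by
          calc x * x = x * (rr ε i j * rr ε i j) * x := by rw [rr_sq hE, mul_one]
            _ = (x * rr ε i j) * (rr ε i j * x) := by group
            _ = _ := by rw [h8]
        rw [e]
        exact mul_mem h6 h6
    obtain ⟨k, hk⟩ := b.CenX_isPGroup ⟨x * x, h5⟩
    refine ⟨k + 1, Subtype.ext ?_⟩
    have h6 : (x * x) ^ 2 ^ k = 1 := congrArg Subtype.val hk
    change x ^ 2 ^ (k + 1) = 1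
    rw [pow_succ', pow_mul, pow_two, h6]
  rcases le_one h f hij oi oj hΛ2 (hn1.trans hΛn) fun u hu => (hd u hu).imp (hX u) (hX _) with h4 | h4
  · exact absurd h4 hH
  · intro u hu
    rcases h4 u hu with rfl | rfl
    · exact one_mem _
    · exact hri

end Cfsg.Agent.Omega.F4Leaf.Syl.LEone

end

end

-- merged: Cfsg.Agent.Mrg.Omega.F4Leaf.TSyl.Pure
section

section


/-!
# LeafF4, `m ≥ 3`, MemH2, pure case, `n = r_ij` not 2-central (bb OMEGA #21478, piece D)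

Over `Fr S P m A ε i j T` (`T` Sylow in `C_G(n)`, `C_S(n) ≤ T ≤ N(V_l)`, partner):

* `Fr.otln` : the structure `OtT.Ln`; `Fr.le` : LE or (H2); `Fr.sig` : `Sig V_l R 0 c` implies `c n = v z_0`;
* `Fr.two` : two different elements of `Z₀#`, if `n` is not 2-central and `|Ω₁Z(S)| ≥ 4`;
* `Fr.h2` : (H2).
-/

set_option autoImplicit false
set_option linter.dupNamespace false

namespace Cfsg.Agent.Omega.F4Leaf.TSyl

open Subgroup Pointwise Cfsg Cfsg.Agent Cfsg.Agent.Omega.MinPar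
open Cfsg.Agent.ZN (o2 zc zl)
open Cfsg.Agent.Omega.FrameFF (cv)
open Cfsg.Agent.Omega.S5.Def Cfsg.Agent.Omega.S5.Syl Cfsg.Agent.Omega.F4Leaf.Def
open Cfsg.Agent.Omega.S5.SymBig (H2)
open Cfsg.Agent.Omega.F4Leaf.Pos Cfsg.Agent.Omega.F4Leaf.Facts
open Cfsg.Agent.Omega.NSix.Base Cfsg.Agent.Omega.NSix.Basic Cfsg.Agent.Omega.NSix.FixApp
open Cfsg.Agent.Omega.NSix.RThree (acts_swap')
open Cfsg.Agent.Omega.NSix.Zero (WP mem_WP WP_norm WP_conj)
open Cfsg.Agent.Omega.HT.LineOf (Ln ln pts dd)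
open Cfsg.Agent.Omega.BTwo (BT BTS XX CenX QQ)
open Cfsg.Agent.Omega.F4Leaf.Syl
open Cfsg.Agent.Omega.HTwo.ThmA (LE)
open Cfsg.Agent.Omega.HTwo.Hat (ZQ)
open Cfsg.Agent.MinSimple.VModule (o2_isPGroup o2_le le_o2 le_normalizer_o2 o2_le_of_sylow mem_zc zc_le
  le_normalizer_zl zl_comm zl_sq)

universe u

variable {G : Type u} [Group G] [Finite G] {S : Sylow 2 G} {P : Subgroup G} {m : ℕ} {A : Subgroup G}
  {ε : (Fin (2 ^ m + 1) → ZMod 2) → G} {i j : Fin (2 ^ m + 1)} {T : Subgroup G}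

section sit

variable (h : Sit S P m A ε) (hij : i ≠ j) (hi : i ≠ 0) (hj : j ≠ 0)
include h

/-- `v ε x` (`v ∈ V₀`) with `x i = x j = x 0` is centralised by `X` -/
theorem mem_CenX {v : G} (hv : v ∈ cv (S : Subgroup G) P) {x : Fin (2 ^ m + 1) → ZMod 2} (h1 : x i = x j)
    (h2 : x i = x 0) (hP : Part A ε i j) :
    v * ε x ∈ CenX (ln (line h hij hi hj)) (pts (rr ε i j) (rr ε i 0)) := by
  have b := bt h hij hi hj hP
  rw [mem_centralizer_iff]
  intro g hg
  have hle : XX (ln (line h hij hi hj)) (pts (rr ε i j) (rr ε i 0)) ≤ centralizer ({v * ε x} : Set G) := by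
    refine iSup_le fun s w hw => ?_
    obtain ⟨a, c, -, hac, -, -, e, -, ha, hc⟩ := dd_cases h hij hi hj s
    have h3 : w ∈ o2 (NN ε a c) := by
      have h3 := b.W_le_Q s hw
      change w ∈ o2 (normalizer (pts (rr ε i j) (rr ε i 0) s : Set G)) at h3
      rw [(line h hij hi hj).normalizer_pts s, e] at h3
      exact h3
    have hval : ∀ d, (d = i ∨ d = j ∨ d = 0) → x d = x i := by
      rintro d (rfl | rfl | rfl)
      · rfl
      · exact h1.symm
      · exact h2.symm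
    have h4 := comm_Q h hac (x := x) (by rw [hval a ha, hval c hc]) h3
    have h5 := h.comm_V0 hac h3 hv
    rw [mem_centralizer_singleton_iff, ← mul_assoc, h5, mul_assoc, h4, mul_assoc]
  exact mem_centralizer_singleton_iff.1 (hle hg)

/-- the elements of `V_P` centralised by an element acting as `(i j)` -/
theorem dec (hP : Part A ε i j) {z : G} (hz : z ∈ zl (S : Subgroup G) P) {w : G} (hwP : w ∈ P)
    (hw : Acts ε w (Equiv.swap i j)) (hwz : w * z = z * w) :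
    z ∈ CenX (ln (line h hij hi hj)) (pts (rr ε i j) (rr ε i 0)) ∨
      z * rr ε i j ∈ CenX (ln (line h hij hi hj)) (pts (rr ε i j) (rr ε i 0)) := by
  have hE := h.split.even
  obtain ⟨v, hv, a, ha, rfl⟩ := h.mul_eq hz
  obtain ⟨x, rfl⟩ := hE.surj a ha
  have hvw := h.V0_comm hv hwP
  have h1 : w * ε x = ε x * w := by
    apply mul_left_cancel (a := v)
    calc v * (w * ε x) = w * (v * ε x) := by rw [← mul_assoc, ← hvw, mul_assoc]
      _ = v * ε x * w := hwz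
      _ = v * (ε x * w) := mul_assoc _ _ _
  have hxx := Sg.eq_of_fix h hw h1
  have hz2 : ∀ a b : ZMod 2, a ≠ b → a + 1 = b := by decide
  by_cases h2 : x i = x 0
  · left
    exact mem_CenX h hij hi hj hv hxx h2 hP
  · right
    have e : v * ε x * rr ε i j = v * ε (x + (Pi.single i 1 + Pi.single j 1)) := by
      rw [hE.add, hE.add, mul_assoc]
      rfl
    rw [e]
    refine mem_CenX h hij hi hj hv ?_ ?_ hP
    · simp only [Pi.add_apply, Pi.single_eq_same, Pi.single_eq_of_ne hij, Pi.single_eq_of_ne hij.symm, add_zero,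
        zero_add, hxx]
    · simp only [Pi.add_apply, Pi.single_eq_same, Pi.single_eq_of_ne hij, Pi.single_eq_of_ne hi.symm,
        Pi.single_eq_of_ne hj.symm, add_zero]
      exact hz2 _ _ h2

end sit

namespace Fr

variable (b : Fr S P m A ε i j T)
include b

theorem o2_le_T : o2 P ≤ T := by
  intro x hx
  refine b.le ⟨b.sit.o2_le_S hx, mem_NN.2 ?_⟩
  exact (mem_zc.1 (b.sit.V_le_zc (b.sit.split.A_le (rr_mem b.sit.split.even i j)))).2.1 x hx

/-- the data of `OtT` -/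
theorem otln : OtT.Ln S P A ε i j T (ln (line b.sit b.ij b.i0 b.j0)) (pts (rr ε i j) (rr ε i 0)) 0 where
  sit := b.sit
  mv := b.mov
  ne := b.ij
  bt := bt b.sit b.ij b.i0 b.j0 b.part
  hr _ := (line b.sit b.ij b.i0 b.j0).mem_pts
  pair := by
    rintro v (rfl | ⟨s, rfl⟩) h1
    · exact absurd rfl h1
    · obtain ⟨a, c, -, hac, -, -, e, -⟩ := dd_cases b.sit b.ij b.i0 b.j0 s
      exact ⟨a, c, hac, e⟩
  k := ⟨0, b.i0.symm, b.j0.symm, (line b.sit b.ij b.i0 b.j0).dd_mem 1⟩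
  T_p := b.p
  T_N := b.leN
  odd := b.odd
  T_V := b.nrm
  Q_T := b.o2_le_T

/-- **LE or (H2)** -/
theorem hLE : H2 ε ∨ ∀ l, LE (ln (line b.sit b.ij b.i0 b.j0)) (pts (rr ε i j) (rr ε i 0)) l := by
  have hL := line b.sit b.ij b.i0 b.j0
  refine LEone.le_frame (o := 0) (a1 := 0) (a2 := 1) (a3 := 2) b.sit b.otln.htt.toBTS ?_ b.ij b.i0.symm b.j0.symm
    (hL.dd_mem 0) (hL.dd_mem 1) ?_ ?_ ?_ ?_ ?_ ?_
  · obtain ⟨k, hk, v, hv, w, hw, hne⟩ := b.part
    refine ⟨i, j, b.ij, k * w * k⁻¹, subset_closure ⟨k, hk, w, hw, rfl⟩, fun h1 => hne ?_⟩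
    exact mem_centralizer_iff.1 h1 v hv
  · have := hL.dd_mem 2
    rwa [show dd (rr ε i j) (rr ε i 0) 2 = rr ε j 0 from dd_two b.sit i j] at this
  · exact fun x hx => hL.mem_pts.1 hx
  · exact mem_zpowers _
  · rw [hL.normalizer_pts 0]
    exact le_rfl
  · rw [hL.normalizer_pts 1]
    exact le_rfl
  · rw [hL.normalizer_pts 2, show dd (rr ε i j) (rr ε i 0) 2 = rr ε j 0 from dd_two b.sit i j]
    exact le_rfl

/-- `c n = v z_0` if `Sig V_l R 0 c` -/
theorem sig {c : G} (hc : c ∈ zc T) (hcX : c ∈ CenX (ln (line b.sit b.ij b.i0 b.j0)) (pts (rr ε i j) (rr ε i 0)))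
    (hs : HT.Sig (ln (line b.sit b.ij b.i0 b.j0)) (pts (rr ε i j) (rr ε i 0)) 0 c) :
    ∃ v ∈ cv (S : Subgroup G) P, ∃ k, c * rr ε i j = v * zz ε k := by
  have hL := line b.sit b.ij b.i0 b.j0
  have hE := b.sit.split.even
  obtain ⟨w, hwQ, hw⟩ := b.otln.exists_w
  obtain ⟨k, hk, hkA⟩ := part_pt b.sit b.ij b.part b.i0 b.ij b.j0.symm
  have hN1 : NN ε i 0 = normalizer (pts (rr ε i j) (rr ε i 0) 1 : Set G) := (hL.normalizer_pts 1).symm
  have hxX : k * rr ε i j * k⁻¹ ∈ XX (ln hL) (pts (rr ε i j) (rr ε i 0)) := by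
    refine BTwo.W_le_X _ _ 1 ?_
    have h1 : BTwo.cj k (ln hL) ≤ BTwo.WW (ln hL) (pts (rr ε i j) (rr ε i 0) 1) :=
      BTwo.cj_le_WW (by rw [← hN1]; exact hk)
    exact h1 (BTwo.conj_mem_cj (hL.dd_mem 0))
  have hxP : k * rr ε i j * k⁻¹ ∈ P := b.sit.o2_le_P b.i0
    ((mem_normalizer_iff.1 (le_normalizer_o2 _ hk) _).1 (b.sit.V_le b.i0 (b.sit.split.A_le (rr_mem hE i j))))
  obtain ⟨v, hv, h1⟩ := Sg.sig b.sit b.ij b.i0 b.j0 (fun x => hL.mem_pts) (hL.dd_mem 1) (by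
      rintro v (rfl | ⟨s, rfl⟩)
      · exact Or.inl rfl
      · fin_cases s
        · exact Or.inr (Or.inl rfl)
        · exact Or.inr (Or.inr (Or.inl rfl))
        · exact Or.inr (Or.inr (Or.inr (dd_two b.sit i j)))) (by
      intro v hv
      have h2 := b.sit.vn_cen b.ij hv
      change v ∈ o2 (normalizer (pts (rr ε i j) (rr ε i 0) 0 : Set G)) ⊓
        centralizer (o2 (normalizer (pts (rr ε i j) (rr ε i 0) 0 : Set G)) : Set G)
      rw [hL.normalizer_pts 0]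
      exact ⟨h2.1, mem_centralizer_iff.2 fun x hx => (h2.2 x hx).symm⟩)
    (b.otln.zc_le_zl hc) (b.sit.o2_le_P b.ij hwQ) hw ((mem_zc.1 hc).2.1 w (b.otln.Qn_T hwQ)) hxP hkA
    (mem_centralizer_iff.1 hcX _ hxX) hs
  refine ⟨v, hv, 0, ?_⟩
  rw [h1, mul_assoc, rr_sq hE, mul_one]

/-- **two different elements of `Z₀#`** -/
theorem two (hcv : cv (S : Subgroup G) P ≠ ⊥) (hn : ¬ ∃ T₀ : Sylow 2 G, (T₀ : Subgroup G) ≤ centralizer {rr ε i j}) :
    ∃ x ∈ zc T, ∃ y ∈ zc T, x ∈ CenX (ln (line b.sit b.ij b.i0 b.j0)) (pts (rr ε i j) (rr ε i 0)) ∧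
      y ∈ CenX (ln (line b.sit b.ij b.i0 b.j0)) (pts (rr ε i j) (rr ε i 0)) ∧ x ≠ 1 ∧ y ≠ 1 ∧ x ≠ y := by
  have hE := b.sit.split.even
  obtain ⟨S₁, hS₁⟩ := b.p.exists_le_sylow
  have hr : rr ε i j ∈ zc T := by
    refine mem_zc.2 ⟨b.otln.V_le_T ((line b.sit b.ij b.i0 b.j0).dd_mem 0), fun t ht => b.otln.T_r ht, ?_⟩
    rw [pow_two]; exact rr_sq hE i j
  have hrn : rr ε i j ∉ zc (S₁ : Subgroup G) := fun h1 => hn ⟨S₁, fun x hx => by
    rw [mem_centralizer_singleton_iff]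
    exact (mem_zc.1 h1).2.1 x hx⟩
  have hle : zc (S₁ : Subgroup G) ≤ zc T := by
    intro z hz
    obtain ⟨h1, h2, h3⟩ := mem_zc.1 hz
    have h4 : z ∈ o2 P := b.sit.mem_o2_of_cent fun q hq => (h2 q (hS₁ (b.o2_le_T hq))).symm
    exact mem_zc.2 ⟨b.o2_le_T h4, fun t ht => h2 t (hS₁ ht), h3⟩
  obtain ⟨w, hwQ, hw⟩ := b.otln.exists_w
  have hwP := b.sit.o2_le_P b.ij hwQ
  -- the projection to `Z₀`
  have key : ∀ z ∈ zc (S₁ : Subgroup G), z ≠ 1 → ∃ c ∈ zc T,
      c ∈ CenX (ln (line b.sit b.ij b.i0 b.j0)) (pts (rr ε i j) (rr ε i 0)) ∧ c ≠ 1 ∧ (c = z ∨ c = z * rr ε i j) := by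
    intro z hz hz1
    have h1 := hle hz
    rcases dec b.sit b.ij b.i0 b.j0 b.part (b.otln.zc_le_zl h1) hwP hw ((mem_zc.1 h1).2.1 w (b.otln.Qn_T hwQ))
      with h2 | h2
    · exact ⟨z, h1, h2, hz1, Or.inl rfl⟩
    · refine ⟨z * rr ε i j, mul_mem h1 hr, h2, fun h3 => hrn ?_, Or.inr rfl⟩
      rw [← inv_eq_of_mul_eq_one_right h3]
      exact inv_mem hz
  -- `|Ω₁Z(S₁)| ≥ 4`
  have hcard : 4 ≤ Nat.card (zc (S₁ : Subgroup G)) := by
    have h1 := b.sit.split.card_zc b.sit.c2 b.sit.par (by have := b.m3; omega)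
    have h2 : 2 ≤ Nat.card (cv (S : Subgroup G) P) := by
      have h3 : Nat.card (cv (S : Subgroup G) P) ≠ 1 := fun h4 => hcv (Subgroup.card_eq_one.1 h4)
      have h4 : 0 < Nat.card (cv (S : Subgroup G) P) := Nat.card_pos
      omega
    obtain ⟨g, hg⟩ : ∃ g : G, g • S = S₁ := MulAction.exists_smul_eq G S S₁
    have h5 : Nat.card (zc (S₁ : Subgroup G)) = Nat.card (zc (S : Subgroup G)) := by
      rw [← hg, NSix.NoTk.coe_smul]
      have h6 : zc (ZN.ChoiceBase.cj g (S : Subgroup G)) = ZN.ChoiceBase.cj g (zc (S : Subgroup G)) :=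
        ZN.zc_map (MulAut.conj g).toMonoidHom (MulAut.conj g).injective _
      rw [h6]
      exact ZN.ChoiceBase.card_cj g _
    omega
  obtain ⟨x, y, hx, hy, hx1, hy1, hxy⟩ : ∃ x y : G, x ∈ zc (S₁ : Subgroup G) ∧ y ∈ zc (S₁ : Subgroup G) ∧ x ≠ 1 ∧
      y ≠ 1 ∧ x ≠ y := by
    obtain ⟨x, hx, hx1⟩ : ∃ x ∈ zc (S₁ : Subgroup G), x ≠ 1 := by
      by_contra h1
      push Not at h1
      have h2 : zc (S₁ : Subgroup G) = ⊥ := (eq_bot_iff_forall _).2 h1
      rw [h2, Subgroup.card_bot] at hcard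
      omega
    by_contra h1
    push Not at h1
    have h2 : zc (S₁ : Subgroup G) ≤ zpowers x := by
      intro y hy
      by_cases hy1 : y = 1
      · rw [hy1]; exact one_mem _
      · rw [← h1 x y hx hy hx1 hy1]; exact mem_zpowers x
    have h3 : x * x = 1 := by rw [← pow_two]; exact (mem_zc.1 hx).2.2
    have h4 := Nat.le_of_dvd Nat.card_pos (card_dvd_of_le h2)
    rw [HT.LineOf.card_zp h3 hx1] at h4
    omega
  obtain ⟨c, hc, hcX, hc1, hcx⟩ := key x hx hx1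
  obtain ⟨d, hd, hdX, hd1, hdy⟩ := key y hy hy1
  refine ⟨c, hc, d, hd, hcX, hdX, hc1, hd1, fun hcd => ?_⟩
  have hxy2 : x * y⁻¹ ∈ zc (S₁ : Subgroup G) := mul_mem hx (inv_mem hy)
  have hcomm : ∀ {u : G}, u ∈ zc (S₁ : Subgroup G) → rr ε i j * u = u * rr ε i j := fun {u} hu =>
    ((mem_zc.1 hr).2.1 u (zc_le _ (hle hu))).symm
  rcases hcx with e1 | e1 <;> rcases hdy with e2 | e2
  · exact hxy (e1.symm.trans (hcd.trans e2))
  · apply hrn
    have h3 : rr ε i j = y⁻¹ * x := by rw [← e1, hcd, e2]; group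
    rw [h3]
    exact mul_mem (inv_mem hy) hx
  · apply hrn
    have h3 : rr ε i j = x⁻¹ * y := by rw [← e2, ← hcd, e1]; group
    rw [h3]
    exact mul_mem (inv_mem hx) hy
  · apply hxy
    have h3 : x * rr ε i j = y * rr ε i j := by rw [← e1, hcd, e2]
    exact mul_right_cancel h3

/-- **(H2), pure case, `n` not 2-central** -/
theorem h2 (hcv : cv (S : Subgroup G) P ≠ ⊥)
    (hn : ¬ ∃ T₀ : Sylow 2 G, (T₀ : Subgroup G) ≤ centralizer {rr ε i j}) : H2 ε := by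
  rcases b.hLE with h1 | h1
  · exact h1
  exfalso
  obtain ⟨x, hx, y, hy, hxX, hyX, hx1, hy1, hxy⟩ := b.two hcv hn
  exact hxy (b.otln.main b.m3 h1 (fun c hc hcX hs => b.sig hc hcX hs) x hx hxX y hy hyX hx1 hy1)

end Fr

end Cfsg.Agent.Omega.F4Leaf.TSyl

end

section


/-!
# LeafF4, `m ≥ 3`, pure case, `n = r_ij` 2-central: the position `HTwo.Entry.Pos` (helper816)

Over `Fr S P m A ε i j T`, `n` 2-central: `T` is a Sylow 2-subgroup of `G` and `Fr.otln.htt` gives the position.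

* `BT.reindex`; `allIn_conj`;
* `exists_pos` : `HTwo.Entry.Pos T (T ⊔ X) V_l R 0 n z`.
-/

set_option autoImplicit false
set_option linter.dupNamespace false

namespace Cfsg.Agent.Omega.F4Leaf.Syl.PureC

open Subgroup Pointwise Cfsg Cfsg.Agent Cfsg.Agent.Omega.MinPar
open Cfsg.Agent.ZN (o2 zc zl)
open Cfsg.Agent.Omega.FrameFF (cv)
open Cfsg.Agent.Omega.Frame (Full)
open Cfsg.Agent.Omega.FrameLE (AllIn)
open Cfsg.Agent.Omega.S5.Def Cfsg.Agent.Omega.F4Leaf.Def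
open Cfsg.Agent.Omega.NSix.Base Cfsg.Agent.Omega.NSix.Basic
open Cfsg.Agent.Omega.HT.LineOf (Ln ln pts dd)
open Cfsg.Agent.Omega.BTwo (BT BTS XX CenX QQ)
open Cfsg.Agent.Omega.F4Leaf.TSyl
open Cfsg.Agent.Omega.HT.OtCore (OtD)
open Cfsg.Agent.MinSimple.VModule (mem_zc zc_le)

universe u

variable {G : Type u} [Group G]

theorem bt_reindex {ι κ : Type*} {V : Subgroup G} {R : ι → Subgroup G} (b : BT V R) (e : κ ≃ ι) :
    BT V (fun i => R (e i)) where
  V_comm := b.V_comm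
  V_sq := b.V_sq
  R_le i := b.R_le _
  R_inf i j hij := b.R_inf _ _ (e.injective.ne hij)
  R_sup i j hij := b.R_sup _ _ (e.injective.ne hij)
  R_cov v hv := by
    obtain ⟨i, hi⟩ := b.R_cov v hv
    exact ⟨e.symm i, by rwa [Equiv.apply_symm_apply]⟩
  R_ne i := b.R_ne _
  third i j := by
    obtain ⟨k, h1, h2⟩ := b.third (e i) (e j)
    refine ⟨e.symm k, fun h => h1 ?_, fun h => h2 ?_⟩
    · rw [← h, Equiv.apply_symm_apply]
    · rw [← h, Equiv.apply_symm_apply]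
  perm g hg i := by
    obtain ⟨j, hj⟩ := b.perm g hg (e i)
    exact ⟨e.symm j, by rw [Equiv.apply_symm_apply]; exact hj⟩
  V_Q i := b.V_Q _
  QV i := b.QV _
  QR i := b.QR _
  mt i := by
    obtain ⟨h, hh, h1⟩ := b.mt (e i)
    exact ⟨h, hh, fun j k hj hk => h1 _ _ (e.injective.ne hj) (e.injective.ne hk)⟩

variable [Finite G]

theorem allIn_conj {S T : Sylow 2 G} (h : AllIn (S : Subgroup G)) : AllIn (T : Subgroup G) := by
  obtain ⟨y, hy⟩ := MulAction.exists_smul_eq G S T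
  have hS : ZN.ChoiceBase.cj y (S : Subgroup G) = (T : Subgroup G) := by
    rw [← hy]; rfl
  have e1 : ZN.ChoiceBase.cj y⁻¹ (T : Subgroup G) = (S : Subgroup G) := by rw [← hS, ZN.ChoiceBase.cj_inv_cj]
  intro P hP
  have h1 := IId.isParS_cj hP y⁻¹
  rw [e1] at h1
  have h2 := ZN.ChoiceBase.cj_mono y (h _ h1)
  have e2 : zc (ZN.ChoiceBase.cj y (S : Subgroup G)) = ZN.ChoiceBase.cj y (zc (S : Subgroup G)) :=
    ZN.zc_map _ (MulAut.conj y).injective _
  rw [← IId.zl_cj, ZN.ChoiceBase.cj_cj_inv, hS, ← ZN.ChoiceSit.o2_cj] at h2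
  refine h2.trans_eq ?_
  congr 1
  change ZN.ChoiceBase.cj y (centralizer (zc (S : Subgroup G) : Set G)) = centralizer (zc (T : Subgroup G) : Set G)
  rw [ZN.ChoiceBase.cj_centralizer, ← e2, hS]

/-- the position over a Sylow 2-subgroup of `G` -/
theorem pos_of_htt {S₁ : Sylow 2 G} {T P' V : Subgroup G} {R : Fin 3 → Subgroup G} {r z : G}
    (hTS : T = (S₁ : Subgroup G)) (htt : HT.HTT T P' V R 0) (hr1 : r ≠ 1) (hrr : r * r = 1)
    (hr : ∀ x, x ∈ R 0 ↔ x = 1 ∨ x = r) (hz : z ∈ zc T ⊓ centralizer (P' : Set G)) (hz1 : z ≠ 1) :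
    ∃ (ι : Type u) (R : ι → Subgroup G) (o : ι), HTwo.Entry.Pos S₁ P' V R o r z := by
  subst hTS
  exact ⟨ULift (Fin 3), fun k => R (Equiv.ulift k), ⟨0⟩,
    { toBT := bt_reindex htt.toBT Equiv.ulift
      card_R := fun k => htt.card_R _
      char2 := htt.char2
      S_V := htt.S_V
      S_R := htt.S_R
      S_P := htt.S_P
      P_V := htt.P_V
      P_trans := fun k => htt.P_trans _
      P_Z := htt.P_Z
      r_ne := hr1
      r_sq := hrr
      r_iff := hr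
      z_mem := hz
      z_ne := hz1 }⟩

variable {S : Sylow 2 G} {P : Subgroup G} {m : ℕ} {A : Subgroup G}
  {ε : (Fin (2 ^ m + 1) → ZMod 2) → G} {i j : Fin (2 ^ m + 1)} {T : Subgroup G}

/-- **the position**, pure case, `n` 2-central -/
theorem exists_pos (b : Fr S P m A ε i j T) (hcv : cv (S : Subgroup G) P ≠ ⊥)
    (hn : ∃ T₀ : Sylow 2 G, (T₀ : Subgroup G) ≤ centralizer {rr ε i j}) :
    ∃ (S' : Sylow 2 G) (P' V : Subgroup G) (ι : Type u) (R : ι → Subgroup G) (o : ι) (r z : G),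
      HTwo.Entry.Pos S' P' V R o r z := by
  have hE := b.sit.split.even
  have hL := line b.sit b.ij b.i0 b.j0
  have hr1 : rr ε i j ≠ 1 := b.otln.r_ne
  obtain ⟨S₁, hS₁⟩ := b.p.exists_le_sylow
  -- `T` is Sylow in `G`
  have hTS : T = (S₁ : Subgroup G) := by
    obtain ⟨T₀, hT₀⟩ := hn
    have h1 := HT.card_dvd_card b.leN b.odd T₀.isPGroup' hT₀
    have h2 := Nat.le_of_dvd Nat.card_pos h1
    have h3 : Nat.card (T₀ : Subgroup G) = Nat.card (S₁ : Subgroup G) := by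
      rw [T₀.card_eq_multiplicity, S₁.card_eq_multiplicity]
    exact Subgroup.eq_of_le_of_card_ge hS₁ (by rw [← h3]; exact h2)
  -- `z`
  have hr : rr ε i j ∈ zc T := by
    refine mem_zc.2 ⟨b.otln.V_le_T (hL.dd_mem 0), fun t ht => b.otln.T_r ht, ?_⟩
    rw [pow_two]; exact rr_sq hE i j
  have hcard : 4 ≤ Nat.card (zc T) := by
    have h1 := b.sit.split.card_zc b.sit.c2 b.sit.par (by have := b.m3; omega)
    have h2 : 2 ≤ Nat.card (cv (S : Subgroup G) P) := by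
      have h3 : Nat.card (cv (S : Subgroup G) P) ≠ 1 := fun h4 => hcv (Subgroup.card_eq_one.1 h4)
      have h4 : 0 < Nat.card (cv (S : Subgroup G) P) := Nat.card_pos
      omega
    obtain ⟨g, hg⟩ : ∃ g : G, g • S = S₁ := MulAction.exists_smul_eq G S S₁
    have h5 : Nat.card (zc T) = Nat.card (zc (S : Subgroup G)) := by
      rw [hTS, ← hg, NSix.NoTk.coe_smul]
      have h6 : zc (ZN.ChoiceBase.cj g (S : Subgroup G)) = ZN.ChoiceBase.cj g (zc (S : Subgroup G)) :=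
        ZN.zc_map (MulAut.conj g).toMonoidHom (MulAut.conj g).injective _
      rw [h6]
      exact ZN.ChoiceBase.card_cj g _
    omega
  obtain ⟨x, hx, hxr⟩ : ∃ x ∈ zc T, x ∉ zpowers (rr ε i j) := by
    by_contra h1
    push Not at h1
    have h2 : zc T ≤ zpowers (rr ε i j) := h1
    have h4 := Nat.le_of_dvd Nat.card_pos (card_dvd_of_le h2)
    rw [HT.LineOf.card_zp (rr_sq hE i j) hr1] at h4
    omega
  obtain ⟨w, hwQ, hw⟩ := b.otln.exists_w
  obtain ⟨z, hz, hzX, hz1⟩ : ∃ z ∈ zc T, z ∈ CenX (ln hL) (pts (rr ε i j) (rr ε i 0)) ∧ z ≠ 1 := by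
    rcases dec b.sit b.ij b.i0 b.j0 b.part (b.otln.zc_le_zl hx) (b.sit.o2_le_P b.ij hwQ) hw
      ((mem_zc.1 hx).2.1 w (b.otln.Qn_T hwQ)) with h2 | h2
    · exact ⟨x, hx, h2, fun h3 => hxr (by rw [h3]; exact one_mem _)⟩
    · refine ⟨x * rr ε i j, mul_mem hx hr, h2, fun h3 => hxr ?_⟩
      rw [eq_inv_of_mul_eq_one_left h3]
      exact inv_mem (mem_zpowers _)
  obtain ⟨ι, R, o, hp⟩ := pos_of_htt hTS b.otln.htt hr1 (rr_sq hE i j) (fun _ => hL.mem_pts)
    (OtD.mem_Z0 hz hzX) hz1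
  exact ⟨S₁, _, _, ι, R, o, _, z, hp⟩

end Cfsg.Agent.Omega.F4Leaf.Syl.PureC

end

end

-- merged: Cfsg.Agent.Mrg.Omega.F4Leaf.Syl.Main
section

/-!
# LeafF4 and the T-T pairs, `V₀ ≠ 1`, from the pieces of #21478 (assembler: helper816)

`n = r_ij`, `H = C_G(n)`, `x₀ = r_i0`; `(i j)` is induced by `S`; `Mix.NonAb ε i j 0` : `[x₀, x₀^h] ≠ 1` for some `h ∈ H`
("pure").

* inputs: `HasFr` (pieces A: there is a frame `TSyl.Fr` over a pure member, `m ≥ 3`), `NonAbNat` (natural partner: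
  pure, or `(P₂, P₂^g)` is a mutual pair) or `EndNat` (`leaf_of_end`);
* `pure_known` : a pure member, `m ≥ 2`, `V₀ ≠ 1`: `G` is known, or `m ≥ 3`, (H2);
* `tt_big` : a T-T pair, `m ≥ 3` or `m' ≥ 3`, `V₀ ≠ 1`: `G` is known (without `NoWr`); `nat_big` : natural partner;
* `leaf : LeafF4 K`; `tt_known` : the statement of `IId.Cv.TTPair` (without `NoWr`).
-/

set_option autoImplicit false

namespace Cfsg.Agent.Omega.F4Leaf.Syl.Main

open Subgroup Pointwise Cfsg Cfsg.Agent.ZN Cfsg.Agent.ZN.ChoiceBase Cfsg.Agent.Omega.MinPar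
open Cfsg.Agent.Omega.Frame Cfsg.Agent.Omega.FFThm
open Cfsg.Agent.Omega.FrameLE (AllIn)
open Cfsg.Agent.Omega.FrameFF (cv Single Free)
open Cfsg.Agent.Omega.FrameMulti (IsSym IsNat Typed AllTyped NoWr LeafF4)
open Cfsg.Agent.Omega.S5.Def Cfsg.Agent.Omega.S5.Syl Cfsg.Agent.Omega.S5.Pair Cfsg.Agent.Omega.S5.Main
open Cfsg.Agent.Omega.S5.SymBig (H2 pos_symm rr_cj NN_cj)
open Cfsg.Agent.Omega.F4Leaf.Def Cfsg.Agent.Omega.F4Leaf.Main Cfsg.Agent.Omega.F4Leaf.Two
open Cfsg.Agent.Omega.NSix.Base Cfsg.Agent.Omega.NSix.Basic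
open Cfsg.Agent.Omega.NSix.Zero (WP mem_WP)
open Cfsg.Agent.Omega.F4Leaf.Cen.Main (PosExit)
open Cfsg.Agent.Omega.F4Leaf.Syl.Mix (NonAb nonab)

universe u

section defs

variable {G : Type u} [Group G]

/-- `n` is 2-central -/
def TwoCen [Finite G] (n : G) : Prop := ∃ T₀ : Sylow 2 G, (T₀ : Subgroup G) ≤ centralizer {n}

theorem TwoCen.conj [Finite G] {n : G} (h : TwoCen n) (g : G) : TwoCen (g * n * g⁻¹) := by
  obtain ⟨T, hT⟩ := h
  refine ⟨g • T, fun x hx => ?_⟩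
  rw [NSix.NoTk.coe_smul, mem_cj] at hx
  have h1 := mem_centralizer_singleton_iff.mp (hT hx)
  rw [mem_centralizer_singleton_iff]
  calc x * (g * n * g⁻¹) = g * (g⁻¹ * x * g * n) * g⁻¹ := by group
    _ = g * (n * (g⁻¹ * x * g)) * g⁻¹ := by rw [h1]
    _ = _ := by group

end defs

/-! ### The inputs -/

/-- **Piece A** (helper758, helper628): a pure member, `m ≥ 3`, `V₀ ≠ 1`, has a frame `TSyl.Fr`. -/
def HasFr : Prop :=
  ∀ (G : Type u) [Group G] [Finite G] (S : Sylow 2 G) (P : Subgroup G) (m : ℕ) (A : Subgroup G)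
    (ε : (Fin (2 ^ m + 1) → ZMod 2) → G), Pos.Sit S P m A ε → 3 ≤ m → cv (S : Subgroup G) P ≠ ⊥ →
    ∀ i j : Fin (2 ^ m + 1), i ≠ j → i ≠ 0 → j ≠ 0 → (∃ s ∈ (S : Subgroup G), Acts ε s (Equiv.swap i j)) →
      (∃ w ∈ WP ε i j, Acts ε w (Equiv.swap i j)) → NonAb ε i j 0 → ∃ T, TSyl.Fr S P m A ε i j T

/-- **Natural partner** (helper300, from `MixS.mix_sym`): `P₁` is pure (and `n` is 2-central), or `(P₂, P₂^g)` is a
mutual pair. -/
def NonAbNat : Prop :=
  ∀ (G : Type u) [Group G] [Finite G], IsCharacteristicTwoType G → ∀ (S : Sylow 2 G)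
    (P₁ P₂ : Subgroup G) (y : G) (m : ℕ) (A : Subgroup G) (ε : (Fin (2 ^ m + 1) → ZMod 2) → G), 2 ≤ m →
      LabZ S P₁ P₂ y m A ε → IsNat (S : Subgroup G) P₂ 1 → cv (S : Subgroup G) P₁ ≠ ⊥ →
        (∃ i j, i ≠ j ∧ i ≠ 0 ∧ j ≠ 0 ∧ (∃ s ∈ (S : Subgroup G), Acts ε s (Equiv.swap i j)) ∧
          (∃ w ∈ WP ε i j, Acts ε w (Equiv.swap i j)) ∧
          (∃ T₀ : Sylow 2 G, (T₀ : Subgroup G) ≤ centralizer {rr ε i j}) ∧ NonAb ε i j 0) ∨
        ∃ g, Mutual (S : Subgroup G) P₂ P₂ g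

/-- The exit for a T-T pair, `n` 2-central (helper778). -/
def EndTT : Prop :=
  ∀ (G : Type u) [Group G] [Finite G], Ctx G → ∀ (S : Sylow 2 G), AllTyped (S : Subgroup G) →
    ∀ (P₁ P₂ : Subgroup G) (y : G) (m m' : ℕ) (A : Subgroup G) (ε : (Fin (2 ^ m + 1) → ZMod 2) → G)
      (A₂ : Subgroup G) (ε₂ : (Fin (2 ^ m' + 1) → ZMod 2) → G), 2 ≤ m → 2 ≤ m' → 3 ≤ m ∨ 3 ≤ m' →
      LabTwoZ S P₁ P₂ y m m' A ε A₂ ε₂ → cv (S : Subgroup G) P₁ ≠ ⊥ → cv (S : Subgroup G) P₂ ≠ ⊥ →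
      (∀ i j, TwoCen (rr ε i j)) →
      ∃ (P V : Subgroup G) (ι : Type u) (R : ι → Subgroup G) (o : ι) (r z : G), HTwo.Entry.Pos S P V R o r z

/-- The exit for a natural partner (helper778). -/
def EndNat : Prop :=
  ∀ (G : Type u) [Group G] [Finite G], Ctx G → ∀ (S : Sylow 2 G), AllTyped (S : Subgroup G) →
    ∀ (P₁ P₂ : Subgroup G) (y : G) (m : ℕ) (A : Subgroup G) (ε : (Fin (2 ^ m + 1) → ZMod 2) → G), 3 ≤ m →
      LabZ S P₁ P₂ y m A ε → IsNat (S : Subgroup G) P₂ 1 → cv (S : Subgroup G) P₁ ≠ ⊥ →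
      cv (S : Subgroup G) P₂ ≠ ⊥ →
      ∃ (P V : Subgroup G) (ι : Type u) (R : ι → Subgroup G) (o : ι) (r z : G), HTwo.Entry.Pos S P V R o r z

/-! ### Conjugation of labels -/

section conj

variable {G : Type u} [Group G]

theorem nonAb_cj {n : ℕ} {ε : (Fin n → ZMod 2) → G} {i j o : Fin n} {y : G}
    (h : NonAb (fun x => y * ε x * y⁻¹) i j o) : NonAb ε i j o := by
  obtain ⟨g, hg, h1⟩ := h
  rw [NN_cj, mem_cj] at hg
  refine ⟨_, hg, fun h3 => h1 ?_⟩
  rw [rr_cj]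
  calc y * rr ε i o * y⁻¹ * (g * (y * rr ε i o * y⁻¹) * g⁻¹)
      = y * (rr ε i o * (y⁻¹ * g * y * rr ε i o * (y⁻¹ * g * y)⁻¹)) * y⁻¹ := by group
    _ = y * ((y⁻¹ * g * y * rr ε i o * (y⁻¹ * g * y)⁻¹) * rr ε i o) * y⁻¹ := by rw [h3]
    _ = _ := by group

theorem wp_cj [Finite G] {n : ℕ} {ε : (Fin n → ZMod 2) → G} {i j : Fin n} {y w : G}
    (h : w ∈ WP (fun x => y * ε x * y⁻¹) i j) : y⁻¹ * w * y ∈ WP ε i j := by
  rw [mem_WP] at h ⊢
  obtain ⟨h1, h2⟩ := h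
  rw [NN_cj, mem_cj] at h1
  refine ⟨h1, fun q hq => ?_⟩
  have h3 : y * q * y⁻¹ ∈ o2 (NN (fun x => y * ε x * y⁻¹) i j) := by
    rw [Facts.o2_NN_cj, mem_cj]
    have e : y⁻¹ * (y * q * y⁻¹) * y = q := by group
    rwa [e]
  have h4 := h2 _ h3
  rw [rr_cj, mem_zpowers_iff] at h4
  obtain ⟨k, hk⟩ := h4
  rw [mem_zpowers_iff]
  refine ⟨k, ?_⟩
  rw [conj_zpow] at hk
  calc rr ε i j ^ k = y⁻¹ * (y * rr ε i j ^ k * y⁻¹) * y := by group
    _ = y⁻¹ * (w * (y * q * y⁻¹) * w⁻¹ * (y * q * y⁻¹)⁻¹) * y := by rw [hk]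
    _ = _ := by group

theorem exists_third (i j : Fin (2 ^ 2 + 1)) : ∃ o, o ≠ i ∧ o ≠ j := by
  revert i j
  decide

theorem ne_zero {n : ℕ} {i j : Fin (n + 1)} (hij : i ≠ j) (h : Equiv.swap i j 0 = 0) : i ≠ 0 ∧ j ≠ 0 := by
  constructor
  · rintro rfl
    rw [Equiv.swap_apply_left] at h
    exact hij h.symm
  · rintro rfl
    rw [Equiv.swap_apply_right] at h
    exact hij h

end conj

/-! ### Pure members -/

section roles

variable {G : Type u} [Group G] [Finite G] {S : Sylow 2 G}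

/-- `NonAb` gives a mutual pair `(P, P^h)` -/
theorem mutual_of_nonAb {P : Subgroup G} {m : ℕ} {A : Subgroup G} {ε : (Fin (2 ^ m + 1) → ZMod 2) → G}
    (hs : Pos.Sit S P m A ε) {i j o : Fin (2 ^ m + 1)} (hij : i ≠ j) (hM : NonAb ε i j o) :
    ∃ g, Mutual (S : Subgroup G) P P g := by
  obtain ⟨g, hg, hne⟩ := hM
  have hV := hs.V_le hij
  have hQP := hs.o2_le_P hij
  have hQn : ∀ x : G, x ∈ o2 (NN ε i j) → g⁻¹ * x * g ∈ o2 (NN ε i j) := fun x hx => by
    have := (mem_normalizer_iff.mp (MinSimple.VModule.le_normalizer_o2 _ (inv_mem hg)) x).mp hx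
    rwa [inv_inv] at this
  have hPV : P ≤ normalizer (zl (S : Subgroup G) P : Set G) := MinSimple.VModule.le_normalizer_zl _ _
  have hcj : cj g (zl (S : Subgroup G) P) ≤ o2 (NN ε i j) := by
    intro x hx
    rw [mem_cj] at hx
    have h1 := (mem_normalizer_iff.mp (MinSimple.VModule.le_normalizer_o2 _ hg) _).mp (hV hx)
    have e : g * (g⁻¹ * x * g) * g⁻¹ = x := by group
    rwa [e] at h1
  refine ⟨g, hs.par, hs.par, ?_, ?_, ?_⟩
  · intro x hx
    have h1 : g⁻¹ * x * g ∈ P := hQP (hQn x (hV hx))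
    change x ∈ normalizer ((cj g (zl (S : Subgroup G) P) : Subgroup G) : Set G)
    have h2 := hPV h1
    rw [mem_normalizer_iff] at h2 ⊢
    intro w
    rw [mem_cj, mem_cj, h2 (g⁻¹ * w * g)]
    have e : g⁻¹ * x * g * (g⁻¹ * w * g) * (g⁻¹ * x * g)⁻¹ = g⁻¹ * (x * w * x⁻¹) * g := by group
    rw [e]
  · exact (hcj.trans hQP).trans hPV
  · intro h0
    apply hne
    rw [commutator_eq_bot_iff_le_centralizer] at h0
    have h1 : rr ε i o ∈ zl (S : Subgroup G) P := hs.split.A_le (rr_mem hs.split.even _ _)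
    have h2 : g * rr ε i o * g⁻¹ ∈ cj g (zl (S : Subgroup G) P) := by
      rw [mem_cj]
      have e : g⁻¹ * (g * rr ε i o * g⁻¹) * g = rr ε i o := by group
      rwa [e]
    exact ((mem_centralizer_iff.mp (h0 h1)) _ h2).symm

/-- **`m = 2`, `NonAb`** -/
theorem pure_two (hX : PosExit.{u}) (hG : Ctx G) (hF : Full (S : Subgroup G)) (hI : AllIn (S : Subgroup G))
    (hT : AllTyped (S : Subgroup G)) {P A : Subgroup G} {ε : (Fin (2 ^ 2 + 1) → ZMod 2) → G}
    (hs : Pos.Sit S P 2 A ε) (hcv : cv (S : Subgroup G) P ≠ ⊥) {i j o : Fin (2 ^ 2 + 1)} (hij : i ≠ j)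
    (hM : NonAb ε i j o) : IsKnownSimple' G := by
  obtain ⟨g, hg⟩ := mutual_of_nonAb hs hij hM
  obtain ⟨y, hp⟩ := S5.Main.exists_pos hG.char2 S hT hg
  have hl := labTwoZ hp hs.split hs.split
  by_cases hC : Cen (zl (S : Subgroup G) P) (cj y (zl (S : Subgroup G) P))
  · exact NoWrFree.cen_known hX G hG S hF hI hT P P y A ε A ε hl hC
  · exact (NoWrFree.nc_false G hG S P P y A ε A ε hl hcv hC).elim

/-- the exit for another Sylow 2-subgroup -/
theorem known_of_pos (hX : PosExit.{u}) (hG : Ctx G) (hF : Full (S : Subgroup G)) (hI : AllIn (S : Subgroup G))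
    (h : ∃ (S' : Sylow 2 G) (P V : Subgroup G) (ι : Type u) (R : ι → Subgroup G) (o : ι) (r z : G),
      HTwo.Entry.Pos S' P V R o r z) : IsKnownSimple' G := by
  obtain ⟨S', P, V, ι, R, o, r, z, hp⟩ := h
  exact hX G hG S' (IId.Two.full_conj hF) (PureC.allIn_conj hI) P V ι R o r z hp

/-- **A pure member, `V₀ ≠ 1`** -/
theorem pure_known (hX : PosExit.{u}) (h1 : HasFr.{u}) (hG : Ctx G) (hF : Full (S : Subgroup G))
    (hI : AllIn (S : Subgroup G)) (hT : AllTyped (S : Subgroup G)) {P : Subgroup G} {m : ℕ} {A : Subgroup G}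
    {ε : (Fin (2 ^ m + 1) → ZMod 2) → G} (hs : Pos.Sit S P m A ε) (hcv : cv (S : Subgroup G) P ≠ ⊥)
    {i j : Fin (2 ^ m + 1)} (hij : i ≠ j) (hi : i ≠ 0) (hj : j ≠ 0)
    (hd : ∃ s ∈ (S : Subgroup G), Acts ε s (Equiv.swap i j)) (hw : ∃ w ∈ WP ε i j, Acts ε w (Equiv.swap i j))
    (hM : NonAb ε i j 0) : IsKnownSimple' G ∨ 3 ≤ m ∧ ¬ TwoCen (rr ε i j) ∧ H2 ε := by
  by_cases hm : 3 ≤ m
  · obtain ⟨T, b⟩ := h1 G S P m A ε hs hm hcv i j hij hi hj hd hw hM
    by_cases hn : TwoCen (rr ε i j)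
    · exact Or.inl (known_of_pos hX hG hF hI (PureC.exists_pos b hcv hn))
    · exact Or.inr ⟨hm, hn, b.h2 hcv hn⟩
  · obtain rfl : m = 2 := by have := hs.m2; omega
    exact Or.inl (pure_two hX hG hF hI hT hs hcv hij hM)

end roles

/-! ### The assembly -/

/-- **A T-T pair, `m ≥ 3` or `m' ≥ 3`, `V₀ ≠ 1`.** -/
theorem tt_big (hX : PosExit.{u}) (h1 : HasFr.{u}) (G : Type u) [Group G] [Finite G] (hG : Ctx G) (S : Sylow 2 G)
    (hF : Full (S : Subgroup G)) (hI : AllIn (S : Subgroup G)) (hT : AllTyped (S : Subgroup G))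
    (P₁ P₂ : Subgroup G) (y : G) (m m' : ℕ) (A : Subgroup G) (ε : (Fin (2 ^ m + 1) → ZMod 2) → G)
    (A₂ : Subgroup G) (ε₂ : (Fin (2 ^ m' + 1) → ZMod 2) → G) (hm : 2 ≤ m) (hm' : 2 ≤ m')
    (hl : LabTwoZ S P₁ P₂ y m m' A ε A₂ ε₂) (hc₁ : cv (S : Subgroup G) P₁ ≠ ⊥)
    (hc₂ : cv (S : Subgroup G) P₂ ≠ ⊥) : IsKnownSimple' G := by
  have hc := hG.char2
  obtain ⟨i, j, k, l, hij, hkl, hr, hb, -, ha, -⟩ := exists_common hc hl hm hm'
  have s₁ : Pos.Sit S P₁ m A ε := ⟨hc, hl.pair.star₁, hm, hl.split⟩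
  have s₂ : Pos.Sit S P₂ m' A₂ ε₂ := ⟨hc, hl.pair.star₂, hm', hl.split₂⟩
  have hw := wp_eq hr
  rcases nonab hc hl hm hm' (Or.inl hc₁) hij hkl hr hb with hM | hM
  · obtain ⟨b, hb, hb1⟩ := hb
    have hbS : b ∈ (S : Subgroup G) := hl.le (cj_mono y hl.split₂.A_le hb)
    obtain ⟨i0, j0⟩ := ne_zero hij (hl.split.fix0 b hbS _ hb1)
    have hbW : b ∈ WP ε i j := by
      rw [hw]
      exact (s₂.fac.conj y).mem_wp hkl hb
    rcases pure_known hX h1 hG hF hI hT s₁ hc₁ hij i0 j0 ⟨b, hbS, hb1⟩ ⟨b, hbW, hb1⟩ (hM 0 i0.symm j0.symm)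
      with h | ⟨h3, -, h⟩
    · exact h
    · exact (false_two hc hl h3 hm' h).elim
  · obtain ⟨a, ha, ha1⟩ := ha
    have haS : y⁻¹ * a * y ∈ (S : Subgroup G) := mem_cj.mp (hl.ge (hl.split.A_le ha))
    have haW : y⁻¹ * a * y ∈ WP ε₂ k l := by
      refine wp_cj ?_
      rw [← hw]
      exact s₁.fac.mem_wp hij ha
    have ha2 : Acts ε₂ (y⁻¹ * a * y) (Equiv.swap k l) := by
      rw [← acts_conj_label_iff y]
      have e : y * (y⁻¹ * a * y) * y⁻¹ = a := by group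
      rwa [e]
    obtain ⟨k0, l0⟩ := ne_zero hkl (hl.split₂.fix0 _ haS _ ha2)
    rcases pure_known hX h1 hG hF hI hT s₂ hc₂ hkl k0 l0 ⟨_, haS, ha2⟩ ⟨_, haW, ha2⟩
      (nonAb_cj (hM 0 k0.symm l0.symm)) with h | ⟨h3, -, h⟩
    · exact h
    · exact (false_two hc (labTwoZ_symm hl) h3 hm h).elim

/-- **A natural partner, `V₀ ≠ 1`.** -/
theorem nat_big (hX : PosExit.{u}) (h1 : HasFr.{u}) (h2 : NonAbNat.{u}) (G : Type u) [Group G] [Finite G]
    (hG : Ctx G) (S : Sylow 2 G) (hF : Full (S : Subgroup G)) (hI : AllIn (S : Subgroup G))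
    (hT : AllTyped (S : Subgroup G)) (P₁ P₂ : Subgroup G) (y : G) (m : ℕ) (A : Subgroup G)
    (ε : (Fin (2 ^ m + 1) → ZMod 2) → G) (hm : 2 ≤ m) (hl : LabZ S P₁ P₂ y m A ε)
    (hN : IsNat (S : Subgroup G) P₂ 1) (hc₁ : cv (S : Subgroup G) P₁ ≠ ⊥) (hc₂ : cv (S : Subgroup G) P₂ ≠ ⊥) :
    IsKnownSimple' G := by
  have hc := hG.char2
  rcases h2 G hc S P₁ P₂ y m A ε hm hl hN hc₁ with ⟨i, j, hij, hi, hj, hd, hw, hn, hM⟩ | ⟨g, hg⟩
  · rcases pure_known hX h1 hG hF hI hT ⟨hc, hl.pair.star₁, hm, hl.split⟩ hc₁ hij hi hj hd hw hM with h | ⟨-, h, -⟩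
    · exact h
    · exact absurd hn h
  · obtain ⟨c1, c2⟩ := NatStep.natStep G hc S P₁ P₂ y m A ε hm hl hN
    obtain ⟨P, V, ι, R', o, r, z, hp⟩ := NoWrFree.exists_pos hG S hT ⟨hg, hc₂, hc₂⟩ (by omega) (by omega)
    exact hX G hG S hF hI P V ι R' o r z hp

/-- **The leaf from the inputs.** -/
theorem leaf {K : Cls.{u}} (hX : PosExit.{u}) (h1 : HasFr.{u}) (h2 : NonAbNat.{u}) : LeafF4 K := by
  refine Cen.Main.leafF4_of hX OT.Done.f4nc ?_ ?_
  · intro G _ _ hG _ S hF hI hT _ P₁ P₂ y m A ε hm hl hN _ hc₁ hc₂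
    exact nat_big hX h1 h2 G hG S hF hI hT P₁ P₂ y m A ε (by omega) hl hN hc₁ hc₂
  · intro G _ _ hG _ S hF hI hT _ P₁ P₂ y m m' A ε A₂ ε₂ hm hm' _ hl hc₁ hc₂
    exact tt_big hX h1 G hG S hF hI hT P₁ P₂ y m m' A ε A₂ ε₂ hm hm' hl hc₁ hc₂

/-- **The leaf**, natural partner by `EndNat`. -/
theorem leaf_of_end {K : Cls.{u}} (hX : PosExit.{u}) (h1 : HasFr.{u}) (h2 : EndNat.{u}) : LeafF4 K := by
  refine Cen.Main.leafF4_of hX OT.Done.f4nc ?_ ?_
  · intro G _ _ hG _ S hF hI hT _ P₁ P₂ y m A ε hm hl hN _ hc₁ hc₂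
    obtain ⟨P, V, ι, R, o, r, z, hp⟩ := h2 G hG S hT P₁ P₂ y m A ε hm hl hN hc₁ hc₂
    exact hX G hG S hF hI P V ι R o r z hp
  · intro G _ _ hG _ S hF hI hT _ P₁ P₂ y m m' A ε A₂ ε₂ hm hm' _ hl hc₁ hc₂
    exact tt_big hX h1 G hG S hF hI hT P₁ P₂ y m m' A ε A₂ ε₂ hm hm' hl hc₁ hc₂

/-- **Two members of type `S_{2^m+1}`, `S_{2^m'+1}` of a mutual pair, not free**, without `NoWr`. -/
theorem tt_known (hX : PosExit.{u}) (h1 : HasFr.{u}) (G : Type u) [Group G] [Finite G] (hG : Ctx G) (S : Sylow 2 G)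
    (hF : Full (S : Subgroup G)) (hI : AllIn (S : Subgroup G))
    (hT : AllTyped (S : Subgroup G)) (P₁ P₂ : Subgroup G) (x : G) (hm : Mutual (S : Subgroup G) P₁ P₂ x)
    (hnf : ¬ (Free (S : Subgroup G) P₁ ∧ Free (S : Subgroup G) P₂)) (m m' : ℕ) (hm2 : 2 ≤ m) (hm2' : 2 ≤ m')
    (hS : IsSym (S : Subgroup G) P₁ 1 m) (hS' : IsSym (S : Subgroup G) P₂ 1 m') : IsKnownSimple' G := by
  obtain ⟨y, hp⟩ := S5.Main.exists_pos hG.char2 S hT hm
  obtain ⟨A, ε, hs⟩ := Split.splitStep G hG.char2 S P₁ m hm2 hp.pair.star₁ hS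
  have c1 := hs.card_zc hG.char2 hp.pair.star₁ (by omega)
  obtain ⟨A₂, ε₂, hs₂⟩ := Split.splitStep G hG.char2 S P₂ m' hm2' hp.pair.star₂ hS'
  have c2 := hs₂.card_zc hG.char2 hp.pair.star₂ (by omega)
  have hne : cv (S : Subgroup G) P₁ ≠ ⊥ ∧ cv (S : Subgroup G) P₂ ≠ ⊥ := by
    rw [ne_bot_iff, ne_bot_iff]
    have e : Nat.card (cv (S : Subgroup G) P₁) = Nat.card (cv (S : Subgroup G) P₂) := by omega
    rw [e, and_self]
    intro h0
    apply hnf
    exact ⟨Subgroup.card_eq_one.mp (e.trans h0), Subgroup.card_eq_one.mp h0⟩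
  exact tt_big hX h1 G hG S hF hI hT P₁ P₂ y m m' A ε A₂ ε₂ hm2 hm2' (labTwoZ hp hs hs₂) hne.1 hne.2

end Cfsg.Agent.Omega.F4Leaf.Syl.Main

end

-- merged: Cfsg.Agent.Mrg.Omega.F4Leaf.Exit.Dua
section

section


/-!
# LeafF4, EXIT LEMMA #21087, step (0): `N_G(V)` permutes the letters

Over `Pos.Sit` (`m ≥ 2`), assuming that `O₂(C_G(r_ij))` induces `(i j)` (`Mov`):
* `Sit.count` : at most `2^m + 1` letters: commuting centres;
* `Sit.duad` : `N_G(V)` maps pairs to pairs;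
* `Sit.exists_perm` : an element of `N_G(V)` acts on `A` as a permutation;
* `Sit.norm_A`, `Sit.norm_cv` : `N_G(V)` normalises `A` and `V₀`;
* `Sit.transv` : every transvection of `N_G(V)` on `V` is a transposition.
-/

set_option autoImplicit false
set_option linter.dupNamespace false

namespace Cfsg.Agent.Omega.F4Leaf.Exit.Dua

open Subgroup Pointwise Cfsg Cfsg.Agent Cfsg.Agent.Omega.MinPar
open Cfsg.Agent.ZN (o2 zc zl)
open Cfsg.Agent.Omega.FrameFF (cv Single Free)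
open Cfsg.Agent.Omega.S5.Def Cfsg.Agent.Omega.S5.Syl Cfsg.Agent.Omega.F4Leaf.Def
open Cfsg.Agent.Omega.NSix.Base Cfsg.Agent.Omega.NSix.Basic Cfsg.Agent.Omega.F4Leaf.Pos
open Cfsg.Agent.Omega.F4Leaf.Exit.Tr
open Cfsg.Agent.MinSimple.VModule (o2_isPGroup o2_le le_o2 le_normalizer_o2 le_normalizer_zl)

universe u

variable {G : Type u} [Group G]

/-- `O₂(C_G(r_ij))` induces the transposition `(i j)`. -/
def Mov {n : ℕ} (ε : (Fin n → ZMod 2) → G) : Prop :=
  ∀ i j : Fin n, i ≠ j → ∃ w ∈ o2 (NN ε i j), Acts ε w (Equiv.swap i j)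

theorem mov_of {n : ℕ} {A P : Subgroup G} {ε : (Fin n → ZMod 2) → G} (hE : EvenSet n A P ε) {i j : Fin n}
    (hij : i ≠ j) {w : G} (hw : w ∈ o2 (NN ε i j)) (hs : Acts ε w (Equiv.swap i j)) : Mov ε := by
  intro k l hkl
  obtain ⟨σ, h1, h2, -⟩ := exists_perm hij hkl
  obtain ⟨g, -, hσ⟩ := hE.full σ
  refine ⟨g * w * g⁻¹, ?_, ?_⟩
  · have h3 := push (g := g) hw
    rw [rr_conj hσ, h1, h2] at h3
    exact h3
  · have h3 := hσ.conj hs
    have e : σ * Equiv.swap i j * σ⁻¹ = Equiv.swap k l := by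
      rw [← h1, ← h2, Equiv.swap_apply_apply]
    rwa [e] at h3

/-- Enumeration of a set of `2 t` letters by pairs. -/
theorem pairing {α : Type*} [DecidableEq α] (T : Finset α) (t : ℕ) (h : T.card = 2 * t) :
    ∃ p : Fin t ⊕ Fin t → α, Function.Injective p ∧ ∀ a, p a ∈ T := by
  have e1 : Fin t ⊕ Fin t ≃ Fin (t + t) := finSumFinEquiv
  have e2 : T ≃ Fin (t + t) := T.equivFinOfCardEq (by omega)
  refine ⟨fun a => (e2.symm (e1 a)).1, fun a b hab => ?_, fun a => (e2.symm (e1 a)).2⟩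
  exact e1.injective (e2.symm.injective (Subtype.ext hab))

variable [Finite G] {S : Sylow 2 G} {P : Subgroup G} {m : ℕ} {A : Subgroup G} {ε : (Fin (2 ^ m + 1) → ZMod 2) → G}

theorem Sit.five (h : Sit S P m A ε) : 5 ≤ 2 ^ m + 1 := by
  have h1 : 2 ^ 2 ≤ 2 ^ m := Nat.pow_le_pow_right (by norm_num) h.m2
  omega

theorem Sit.S_le (h : Sit S P m A ε) : (S : Subgroup G) ≤ normalizer (zl (S : Subgroup G) P : Set G) :=
  h.par.le.trans (le_normalizer_zl _ _)

/-- An element of `V` and a pair. -/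
theorem Sit.move_iff (h : Sit S P m A ε) (hw : Mov ε) {i j : Fin (2 ^ m + 1)} (hij : i ≠ j) {v : G}
    (hv : v ∈ cv (S : Subgroup G) P) (x : Fin (2 ^ m + 1) → ZMod 2) :
    (∀ y ∈ o2 (NN ε i j), y * (v * ε x) * y⁻¹ = v * ε x) ↔ x i = x j := by
  have hE := h.split.even
  have hsw : x ∘ (Equiv.swap i j).symm = x ↔ x i = x j := by
    rw [Equiv.symm_swap]
    constructor
    · intro h1
      have h2 := congrFun h1 i
      simp only [Function.comp, Equiv.swap_apply_left] at h2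
      exact h2.symm
    · intro h1
      funext k
      simp only [Function.comp]
      by_cases hk : k = i
      · rw [hk, Equiv.swap_apply_left, h1]
      by_cases hk' : k = j
      · rw [hk', Equiv.swap_apply_right, h1]
      · rw [Equiv.swap_apply_of_ne_of_ne hk hk']
  have hcomp : ∀ y ∈ o2 (NN ε i j), y * (v * ε x) * y⁻¹ = v * (y * ε x * y⁻¹) := by
    intro y hy
    calc y * (v * ε x) * y⁻¹ = y * v * ε x * y⁻¹ := by group
      _ = v * y * ε x * y⁻¹ := by rw [h.comm_V0 hij hy hv]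
      _ = _ := by group
  constructor
  · intro h1
    obtain ⟨w, hw1, hw2⟩ := hw i j hij
    have h2 := h1 w hw1
    rw [hcomp w hw1] at h2
    have h3 : w * ε x * w⁻¹ = ε x := mul_left_cancel h2
    rw [hw2 x] at h3
    rcases hE.eq_iff.mp h3 with h4 | h4
    · exact hsw.mp h4
    · exfalso
      -- `x ∘ swap = x + 1` is impossible: look at a third letter
      obtain ⟨o, ho⟩ : ∃ o : Fin (2 ^ m + 1), o ∉ ({i, j} : Finset (Fin (2 ^ m + 1))) := by
        by_contra hno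
        push Not at hno
        have h5 := Finset.card_le_card (fun x _ => hno x : (Finset.univ : Finset (Fin (2 ^ m + 1))) ⊆ {i, j})
        have h6 : ({i, j} : Finset (Fin (2 ^ m + 1))).card ≤ 2 := Finset.card_le_two
        rw [Finset.card_univ, Fintype.card_fin] at h5
        have := Sit.five h
        omega
      simp only [Finset.mem_insert, Finset.mem_singleton, not_or] at ho
      have h5 := congrFun h4 o
      rw [Equiv.symm_swap] at h5
      simp only [Function.comp, Equiv.swap_apply_of_ne_of_ne ho.1 ho.2, Pi.add_apply, Pi.one_apply] at h5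
      have h6 : (1 : ZMod 2) = 0 := by
        have := congrArg (fun t => t - x o) h5
        simpa using this.symm
      exact absurd h6 (by decide)
  · intro h1 y hy
    rw [hcomp y hy]
    rcases h.acts hij hy with h2 | h2
    · rw [h2 x]
      rfl
    · rw [h2 x, hsw.mpr h1]

/-- The pairs are centres. -/
theorem Sit.tr (h : Sit S P m A ε) (hw : Mov ε) {i j : Fin (2 ^ m + 1)} (hij : i ≠ j) :
    Tr (zl (S : Subgroup G) P) (rr ε i j) where
  mem := h.split.A_le (rr_mem h.split.even i j)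
  norm := (h.o2_le_P hij).trans (le_normalizer_zl _ _)
  act _ hx _ hv := h.conj_V hij hx hv
  mov := by
    obtain ⟨w, hw1, hw2⟩ := hw i j hij
    refine ⟨w, hw1, zz ε i, h.split.A_le (zz_mem h.split.even i), fun h1 => hij ?_⟩
    rw [zz_conj hw2, Equiv.swap_apply_left] at h1
    exact (h.split.even.single_inj h.three h1).symm
  uni x hx y hy h1 h2 v hv := by
    have key : ∀ x ∈ o2 (NN ε i j), (∃ v ∈ zl (S : Subgroup G) P, x * v * x⁻¹ ≠ v) →
        Acts ε x (Equiv.swap i j) := by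
      intro x hx h1
      refine (h.acts hij hx).resolve_left fun h2 => ?_
      obtain ⟨v, hv, h3⟩ := h1
      obtain ⟨c, hc, a, ha, rfl⟩ := h.mul_eq hv
      obtain ⟨y, rfl⟩ := h.split.even.surj a ha
      apply h3
      calc x * (c * ε y) * x⁻¹ = x * c * ε y * x⁻¹ := by group
        _ = c * x * ε y * x⁻¹ := by rw [h.comm_V0 hij hx hc]
        _ = c * (x * ε y * x⁻¹) := by group
        _ = c * ε y := by rw [h2 y]; rfl
    obtain ⟨c, hc, a, ha, rfl⟩ := h.mul_eq hv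
    obtain ⟨z, rfl⟩ := h.split.even.surj a ha
    have e : ∀ x ∈ o2 (NN ε i j), (∃ v ∈ zl (S : Subgroup G) P, x * v * x⁻¹ ≠ v) →
        x * (c * ε z) * x⁻¹ = c * ε (z ∘ (Equiv.swap i j).symm) := by
      intro x hx h1
      calc x * (c * ε z) * x⁻¹ = x * c * ε z * x⁻¹ := by group
        _ = c * x * ε z * x⁻¹ := by rw [h.comm_V0 hij hx hc]
        _ = c * (x * ε z * x⁻¹) := by group
        _ = _ := by rw [key x hx h1 z]
    rw [e x hx h1, e y hy h2]

/-- A transvection which acts as a permutation is a transposition. -/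
theorem Sit.of_acts (h : Sit S P m A ε) {x c : G} {σ : Equiv.Perm (Fin (2 ^ m + 1))} (hσ : Acts ε x σ)
    (hx : ∀ v ∈ cv (S : Subgroup G) P, x * v = v * x)
    (hc : ∀ v ∈ zl (S : Subgroup G) P, x * v * x⁻¹ = v ∨ x * v * x⁻¹ = v * c)
    (hm : ∃ v ∈ zl (S : Subgroup G) P, x * v * x⁻¹ ≠ v) :
    ∃ i j, i ≠ j ∧ c = rr ε i j ∧ Acts ε x (Equiv.swap i j) := by
  have hE := h.split.even
  have key : ∀ i, σ i ≠ i → c = rr ε i (σ i) := by
    intro i hi
    have h1 := zz_conj hσ i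
    rcases hc (zz ε i) (h.split.A_le (zz_mem hE i)) with h2 | h2
    · exfalso
      rw [h1] at h2
      exact hi (hE.single_inj h.three h2)
    · rw [h1] at h2
      unfold rr
      rw [h2, ← mul_assoc, zz_sq hE, one_mul]
  obtain ⟨i, hi⟩ : ∃ i, σ i ≠ i := by
    by_contra hall
    push Not at hall
    have h1 : σ = 1 := Equiv.ext hall
    obtain ⟨v, hv, h2⟩ := hm
    obtain ⟨a, ha, b, hb, rfl⟩ := h.mul_eq hv
    obtain ⟨y, rfl⟩ := hE.surj b hb
    apply h2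
    calc x * (a * ε y) * x⁻¹ = x * a * ε y * x⁻¹ := by group
      _ = a * x * ε y * x⁻¹ := by rw [hx a ha]
      _ = a * (x * ε y * x⁻¹) := by group
      _ = a * ε y := by rw [hσ y, h1]; rfl
  refine ⟨i, σ i, hi.symm, key i hi, ?_⟩
  have h1 : ∀ k, σ k ≠ k → (k = i ∧ σ k = σ i) ∨ (k = σ i ∧ σ k = i) := by
    intro k hk
    have h2 : rr ε i (σ i) = rr ε k (σ k) := by rw [← key i hi, ← key k hk]
    exact pair_eq hE (Sit.five h) hi.symm h2
  have h2 : σ (σ i) = i := by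
    rcases h1 (σ i) (fun h3 => hi (σ.injective h3)) with h3 | h3
    · exact absurd h3.1 hi
    · exact h3.2
  have h3 : σ = Equiv.swap i (σ i) := by
    ext k
    congr 1
    by_cases hk : σ k = k
    · rw [Equiv.swap_apply_of_ne_of_ne]
      · exact hk
      · rintro rfl
        exact hi hk
      · rintro rfl
        exact hi (σ.injective hk)
    · rcases h1 k hk with h4 | h4
      · rw [h4.1, Equiv.swap_apply_left]
      · rw [h4.1, Equiv.swap_apply_right, h2]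
  rw [h3] at hσ
  exact hσ

/-- A transvection in `S` is a transposition. -/
theorem Sit.of_S (h : Sit S P m A ε) {x c : G} (hx : x ∈ (S : Subgroup G))
    (hc : ∀ v ∈ zl (S : Subgroup G) P, x * v * x⁻¹ = v ∨ x * v * x⁻¹ = v * c)
    (hm : ∃ v ∈ zl (S : Subgroup G) P, x * v * x⁻¹ ≠ v) :
    ∃ i j, i ≠ j ∧ c = rr ε i j ∧ Acts ε x (Equiv.swap i j) := by
  obtain ⟨σ, hσ⟩ := h.split.even.perm x (h.par.le hx)
  exact Sit.of_acts h hσ (fun v hv => h.V0_comm hv (h.par.le hx)) hc hm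

/-- **Commuting centres.** -/
theorem Sit.count (h : Sit S P m A ε) {ι : Type*} [Fintype ι] (F : ι → G) (hF : Function.Injective F)
    (hT : ∀ a, Tr (zl (S : Subgroup G) P) (F a))
    (hc : ∀ a b, ∀ x ∈ o2 (centralizer ({F a} : Set G)), x * F b * x⁻¹ = F b) :
    2 * Fintype.card ι ≤ 2 ^ m + 1 := by
  classical
  have hE := h.split.even
  have hcen : ∀ a b, o2 (centralizer ({F a} : Set G)) ≤ centralizer ({F b} : Set G) := by
    intro a b x hx
    rw [mem_centralizer_singleton_iff, ← mul_inv_eq_iff_eq_mul]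
    exact hc a b x hx
  have hD : IsPGroup 2 ((⨆ a ∈ (Finset.univ : Finset ι), o2 (centralizer ({F a} : Set G)) : Subgroup G)) :=
    HOne.isPGroup_iSup _ _ (fun _ _ => o2_isPGroup _) fun a _ b _ => (hcen a b).trans (le_normalizer_o2 _)
  have hDn : (⨆ a ∈ (Finset.univ : Finset ι), o2 (centralizer ({F a} : Set G)) : Subgroup G) ≤
      normalizer (zl (S : Subgroup G) P : Set G) := iSup₂_le fun a _ => (hT a).norm
  obtain ⟨g, hg, hgD⟩ := exists_conj hDn S.isPGroup' hD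
    (MinSimple.Basic.not_dvd_relIndex S (Sit.S_le h))
  have hmem : ∀ a, ∀ x ∈ o2 (centralizer ({F a} : Set G)), g * x * g⁻¹ ∈ (S : Subgroup G) := fun a x hx =>
    hgD x ((le_iSup₂ (f := fun a (_ : a ∈ (Finset.univ : Finset ι)) => o2 (centralizer ({F a} : Set G))) a
      (Finset.mem_univ a)) hx)
  have key : ∀ a, ∃ i j, i ≠ j ∧ g * F a * g⁻¹ = rr ε i j ∧
      ∃ x ∈ o2 (centralizer ({F a} : Set G)), Acts ε (g * x * g⁻¹) (Equiv.swap i j) := by
    intro a
    obtain ⟨x, hx, v, hv, hne⟩ := (hT a).mov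
    have hT' := (hT a).conj hg
    obtain ⟨i, j, h1, h2, h3⟩ := Sit.of_S h (hmem a x hx) (hT'.act _ (push hx))
      ⟨g * v * g⁻¹, norm_conj hg hv, fun h2 => hne (by
        have e : g * x * g⁻¹ * (g * v * g⁻¹) * (g * x * g⁻¹)⁻¹ = g * (x * v * x⁻¹) * g⁻¹ := by group
        rw [e] at h2
        exact mul_left_cancel (mul_right_cancel h2))⟩
    exact ⟨i, j, h1, h2, x, hx, h3⟩
  choose p q hpq hr x hx hs using key
  -- the pairs are disjoint
  have hdis : ∀ a b, (p a = p b ∨ p a = q b ∨ q a = p b ∨ q a = q b) → a = b := by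
    intro a b hab
    have h1 : g * x a * g⁻¹ * rr ε (p b) (q b) * (g * x a * g⁻¹)⁻¹ = rr ε (p b) (q b) := by
      rw [← hr b]
      have e : g * x a * g⁻¹ * (g * F b * g⁻¹) * (g * x a * g⁻¹)⁻¹ = g * (x a * F b * (x a)⁻¹) * g⁻¹ := by group
      rw [e, hc a b _ (hx a)]
    rw [rr_conj (hs a)] at h1
    have h2 := pair_eq hE (Sit.five h) (i := p b) (j := q b) (hpq b) h1.symm
    have h3 : (p a = p b ∧ q a = q b) ∨ (p a = q b ∧ q a = p b) := by
      rcases hab with h4 | h4 | h4 | h4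
      · left
        refine ⟨h4, ?_⟩
        rw [← h4, Equiv.swap_apply_left] at h2
        rcases h2 with h5 | h5
        · exact absurd h5.1.symm (hpq a)
        · exact h5.1
      · right
        refine ⟨h4, ?_⟩
        rw [← h4, Equiv.swap_apply_left] at h2
        rcases h2 with h5 | h5
        · exact absurd h5.2.symm (hpq a)
        · exact h5.2
      · right
        refine ⟨?_, h4⟩
        rw [← h4, Equiv.swap_apply_right] at h2
        rcases h2 with h5 | h5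
        · exact absurd h5.1 (hpq a)
        · exact h5.1
      · left
        refine ⟨?_, h4⟩
        rw [← h4, Equiv.swap_apply_right] at h2
        rcases h2 with h5 | h5
        · exact absurd h5.2 (hpq a)
        · exact h5.2
    apply hF
    have h4 : g * F a * g⁻¹ = g * F b * g⁻¹ := by
      rw [hr a, hr b]
      rcases h3 with h5 | h5
      · rw [h5.1, h5.2]
      · rw [h5.1, h5.2, rr_symm hE]
    exact mul_left_cancel (mul_right_cancel h4)
  have hinj : Function.Injective (Sum.elim p q : ι ⊕ ι → Fin (2 ^ m + 1)) := by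
    rintro (a | a) (b | b) hab
    · exact congrArg Sum.inl (hdis a b (Or.inl hab))
    · exfalso
      have h1 := hdis a b (Or.inr (Or.inl hab))
      subst h1
      exact hpq a hab
    · exfalso
      have h1 := hdis a b (Or.inr (Or.inr (Or.inl hab)))
      subst h1
      exact hpq a hab.symm
    · exact congrArg Sum.inr (hdis a b (Or.inr (Or.inr (Or.inr hab))))
  have h1 := Fintype.card_le_of_injective _ hinj
  rw [Fintype.card_sum, Fintype.card_fin] at h1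
  omega

/-- **A centre is a pair.** -/
theorem Sit.pair_of_tr (h : Sit S P m A ε) (hw : Mov ε) {c : G} (hc : Tr (zl (S : Subgroup G) P) c) :
    ∃ k l, k ≠ l ∧ c = rr ε k l := by
  classical
  have hE := h.split.even
  have hm := h.m2
  by_contra hne
  push Not at hne
  -- even representative
  obtain ⟨v, hv, a, ha, hva⟩ := h.mul_eq hc.mem
  obtain ⟨x₀, hx₀⟩ := hE.surj a ha
  have hcard : ∀ x : Fin (2 ^ m + 1) → ZMod 2, (Finset.univ.filter fun i => x i = 1).card +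
      (Finset.univ.filter fun i => ¬ x i = 1).card = 2 ^ m + 1 := by
    intro x
    rw [Finset.card_filter_add_card_filter_not, Finset.card_univ, Fintype.card_fin]
  have h2m : 2 ^ m = 2 * 2 ^ (m - 1) := by
    rw [← pow_succ']
    congr 1
    omega
  obtain ⟨x, hx, t, ht⟩ : ∃ x, ε x = a ∧ ∃ t, (Finset.univ.filter fun i => x i = 1).card = 2 * t := by
    rcases Nat.even_or_odd (Finset.univ.filter fun i => x₀ i = 1).card with h1 | h1
    · obtain ⟨t, ht⟩ := h1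
      exact ⟨x₀, hx₀, t, by omega⟩
    · refine ⟨x₀ + 1, ?_, ?_⟩
      · rw [hE.add, hE.one, mul_one, hx₀]
      · have e : (Finset.univ.filter fun i => (x₀ + 1) i = 1) = Finset.univ.filter fun i => ¬ x₀ i = 1 := by
          apply Finset.filter_congr
          intro i _
          rw [Pi.add_apply, Pi.one_apply]
          rcases (show ∀ y : ZMod 2, y = 0 ∨ y = 1 by decide) (x₀ i) with h2 | h2
          · rw [h2]
            decide
          · rw [h2]
            decide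
        rw [e]
        obtain ⟨t, ht⟩ := h1
        have h3 := hcard x₀
        exact ⟨2 ^ (m - 1) - t, by omega⟩
  obtain ⟨t', ht'⟩ : ∃ t', (Finset.univ.filter fun i => ¬ x i = 1).card = 2 * t' + 1 := by
    have h3 := hcard x
    exact ⟨2 ^ (m - 1) - t, by omega⟩
  obtain ⟨T', hT', hT'c⟩ := Finset.exists_subset_card_eq (s := Finset.univ.filter fun i => ¬ x i = 1)
    (n := 2 * t') (by omega)
  obtain ⟨p, hp, hpT⟩ := pairing _ t ht
  obtain ⟨q, hq, hqT⟩ := pairing _ t' hT'c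
  have hp1 : ∀ b, x (p b) = 1 := fun b => (Finset.mem_filter.mp (hpT b)).2
  have hq1 : ∀ b, x (q b) = 0 := fun b => by
    have h1 := (Finset.mem_filter.mp (hT' (hqT b))).2
    rcases (show ∀ y : ZMod 2, y = 0 ∨ y = 1 by decide) (x (q b)) with h2 | h2
    · exact h2
    · exact absurd h2 h1
  -- the pairs
  let f : Fin t ⊕ Fin t' → Fin (2 ^ m + 1) := fun b => b.elim (fun b => p (Sum.inl b)) (fun b => q (Sum.inl b))
  let f' : Fin t ⊕ Fin t' → Fin (2 ^ m + 1) := fun b => b.elim (fun b => p (Sum.inr b)) (fun b => q (Sum.inr b))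
  have hne01 : (0 : ZMod 2) ≠ 1 := by decide
  have hff : ∀ b, f b ≠ f' b := by
    rintro (b | b) h1
    · exact Sum.inl_ne_inr (hp h1)
    · exact Sum.inl_ne_inr (hq h1)
  have hxf : ∀ b, x (f b) = x (f' b) := by
    rintro (b | b)
    · exact (hp1 _).trans (hp1 _).symm
    · exact (hq1 _).trans (hq1 _).symm
  have hf : ∀ b b', (f b = f b' ∨ f b = f' b' ∨ f' b = f b' ∨ f' b = f' b') → b = b' := by
    rintro (b | b) (b' | b') h1
    · have h2 : b = b' := by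
        rcases h1 with h1 | h1 | h1 | h1
        · exact Sum.inl_injective (hp h1)
        · exact absurd (hp h1) Sum.inl_ne_inr
        · exact absurd (hp h1).symm Sum.inl_ne_inr
        · exact Sum.inr_injective (hp h1)
      rw [h2]
    · exfalso
      rcases h1 with h1 | h1 | h1 | h1 <;>
      · have h2 := congrArg x h1
        apply hne01
        first
          | exact ((hq1 _).symm.trans h2.symm).trans (hp1 _)
    · exfalso
      rcases h1 with h1 | h1 | h1 | h1 <;>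
      · have h2 := congrArg x h1
        apply hne01
        first
          | exact ((hq1 _).symm.trans h2).trans (hp1 _)
    · have h2 : b = b' := by
        rcases h1 with h1 | h1 | h1 | h1
        · exact Sum.inl_injective (hq h1)
        · exact absurd (hq h1) Sum.inl_ne_inr
        · exact absurd (hq h1).symm Sum.inl_ne_inr
        · exact Sum.inr_injective (hq h1)
      rw [h2]
  -- the centres
  have hcx : c = v * ε x := by rw [hva, hx]
  have h1 : ∀ b, ∀ y ∈ o2 (NN ε (f b) (f' b)), y * c * y⁻¹ = c := by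
    intro b
    rw [hcx]
    exact (Sit.move_iff h hw (hff b) hv x).mpr (hxf b)
  have hco : ∀ a ∈ zl (S : Subgroup G) P, ∀ b ∈ zl (S : Subgroup G) P, a * b = b * a :=
    fun a ha b hb => h.V_comm ha hb
  have hsq : ∀ a ∈ zl (S : Subgroup G) P, a * a = 1 := fun a ha => by rw [← pow_two]; exact h.V_sq ha
  have h2 : ∀ b, ∀ y ∈ o2 (centralizer ({c} : Set G)), y * rr ε (f b) (f' b) * y⁻¹ = rr ε (f b) (f' b) :=
    fun b => hc.symm (Sit.tr h hw (hff b)) hco hsq (h1 b)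
  have h3 : ∀ b b', ∀ y ∈ o2 (NN ε (f b) (f' b)), y * rr ε (f b') (f' b') * y⁻¹ = rr ε (f b') (f' b') := by
    intro b b' y hy
    by_cases hbb : b = b'
    · subst hbb
      have h4 : y * rr ε (f b) (f' b) = rr ε (f b) (f' b) * y := mem_centralizer_singleton_iff.mp (o2_le _ hy)
      rw [h4, mul_inv_cancel_right]
    · rcases h.acts (hff b) hy with h4 | h4
      · rw [rr_conj h4]
        rfl
      · rw [rr_conj h4, Equiv.swap_apply_of_ne_of_ne, Equiv.swap_apply_of_ne_of_ne]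
        · exact fun h5 => hbb (hf _ _ (Or.inr (Or.inl h5.symm)))
        · exact fun h5 => hbb (hf _ _ (Or.inr (Or.inr (Or.inr h5.symm))))
        · exact fun h5 => hbb (hf _ _ (Or.inl h5.symm))
        · exact fun h5 => hbb (hf _ _ (Or.inr (Or.inr (Or.inl h5.symm))))
  let F : Option (Fin t ⊕ Fin t') → G := fun b => b.elim c fun b => rr ε (f b) (f' b)
  have h4 := Sit.count h F (by
    rintro (_ | b) (_ | b') hbb
    · rfl
    · exact absurd hbb (hne _ _ (hff b'))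
    · exact absurd hbb.symm (hne _ _ (hff b))
    · have h5 : rr ε (f b) (f' b) = rr ε (f b') (f' b') := hbb
      rcases pair_eq hE (Sit.five h) (hff b) h5 with h6 | h6
      · exact congrArg some (hf b b' (Or.inl h6.1.symm))
      · exact congrArg some (hf b b' (Or.inr (Or.inr (Or.inl h6.1.symm)))))
    (by
      rintro (_ | b)
      · exact hc
      · exact Sit.tr h hw (hff b))
    (by
      rintro (_ | b) (_ | b') y hy
      · have h5 : y * c = c * y := mem_centralizer_singleton_iff.mp (o2_le _ hy)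
        change y * c * y⁻¹ = c
        rw [h5, mul_inv_cancel_right]
      · exact h2 b' y hy
      · exact h1 b y hy
      · exact h3 b b' y hy)
  rw [Fintype.card_option, Fintype.card_sum, Fintype.card_fin, Fintype.card_fin] at h4
  have h5 := hcard x
  omega

/-- **`N_G(V)` maps pairs to pairs.** -/
theorem Sit.duad (h : Sit S P m A ε) (hw : Mov ε) {g : G}
    (hg : g ∈ normalizer (zl (S : Subgroup G) P : Set G)) {i j : Fin (2 ^ m + 1)} (hij : i ≠ j) :
    ∃ k l, k ≠ l ∧ g * rr ε i j * g⁻¹ = rr ε k l :=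
  Sit.pair_of_tr h hw ((Sit.tr h hw hij).conj hg)

omit [Finite G] in
/-- The points lie in the subgroup generated by the pairs. -/
theorem zz_mem_closure {n : ℕ} {V L : Subgroup G} {δ : (Fin n → ZMod 2) → G} (hE : EvenSet n V L δ)
    (hn : n % 2 = 1) (h3 : 3 ≤ n) (i : Fin n) {D : Subgroup G} (hD : ∀ k l, rr δ k l ∈ D) : zz δ i ∈ D := by
  obtain ⟨j, hj⟩ : ∃ j : Fin n, j ≠ i := by
    by_contra hno
    push Not at hno
    have h5 := Finset.card_le_card (fun x _ => Finset.mem_singleton.mpr (hno x) :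
      (Finset.univ : Finset (Fin n)) ⊆ {i})
    rw [Finset.card_univ, Fintype.card_fin, Finset.card_singleton] at h5
    omega
  have h1 := compl_rr hE hj (fun t x => (t % 2 = 0 → x ∈ D) ∧ (t % 2 = 1 → zz δ i * x ∈ D))
    ⟨fun _ => one_mem _, fun h0 => by simp at h0⟩
    (by
      rintro k - - t x ⟨ha, hb⟩
      constructor
      · intro ht
        have h2 := mul_mem (hD k i) (hb (by omega))
        have e : rr δ k i * (zz δ i * x) = zz δ k * x := by
          unfold rr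
          calc zz δ k * zz δ i * (zz δ i * x) = zz δ k * (zz δ i * zz δ i) * x := by group
            _ = _ := by rw [zz_sq hE, mul_one]
        rwa [e] at h2
      · intro ht
        have h2 := mul_mem (hD i k) (ha (by omega))
        rwa [rr, mul_assoc] at h2)
  have h2 := h1.2 (by omega)
  have h3 := mul_mem h2 (inv_mem (hD j i))
  rwa [mul_inv_cancel_right] at h3

/-- **`N_G(V)` permutes the letters.** -/
theorem Sit.exists_perm (h : Sit S P m A ε) (hw : Mov ε) {g : G}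
    (hg : g ∈ normalizer (zl (S : Subgroup G) P : Set G)) : ∃ π : Equiv.Perm (Fin (2 ^ m + 1)), Acts ε g π := by
  classical
  have hE := h.split.even
  have hodd : (2 ^ m + 1) % 2 = 1 := by
    have hm := h.m2
    have : 2 ^ m = 2 * 2 ^ (m - 1) := by
      rw [← pow_succ']
      congr 1
      omega
    omega
  -- `g` normalises `A`
  have hgA : ∀ a ∈ A, g * a * g⁻¹ ∈ A := by
    have h1 : ∀ i, g * zz ε i * g⁻¹ ∈ A := fun i => by
      have h2 : zz ε i ∈ A.comap (MulAut.conj g).toMonoidHom :=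
        zz_mem_closure hE hodd h.three i fun k l => by
          change g * rr ε k l * g⁻¹ ∈ A
          by_cases hkl : k = l
          · subst hkl
            have e : rr ε k k = 1 := zz_sq hE k
            rw [e, mul_one, mul_inv_cancel]
            exact one_mem _
          · obtain ⟨k', l', -, h3⟩ := Sit.duad h hw hg hkl
            rw [h3]
            exact rr_mem hE _ _
      exact h2
    intro a ha
    obtain ⟨x, rfl⟩ := hE.surj a ha
    have h2 : ∀ s : Finset (Fin (2 ^ m + 1)), g * ε (∑ i ∈ s, Pi.single i (x i)) * g⁻¹ ∈ A := by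
      intro s
      induction s using Finset.induction_on with
      | empty =>
        rw [Finset.sum_empty, hE.zero, mul_one, mul_inv_cancel]
        exact one_mem _
      | insert k s hk ih =>
        rw [Finset.sum_insert hk, hE.add]
        have e : g * (ε (Pi.single k (x k)) * ε (∑ i ∈ s, Pi.single i (x i))) * g⁻¹ =
            (g * ε (Pi.single k (x k)) * g⁻¹) * (g * ε (∑ i ∈ s, Pi.single i (x i)) * g⁻¹) := by group
        rw [e]
        refine mul_mem ?_ ih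
        rcases (show ∀ y : ZMod 2, y = 0 ∨ y = 1 by decide) (x k) with h3 | h3
        · rw [h3, Pi.single_zero, hE.zero, mul_one, mul_inv_cancel]
          exact one_mem _
        · rw [h3]
          exact h1 k
    have h3 := h2 Finset.univ
    rwa [Finset.univ_sum_single] at h3
  -- the image of a point
  have key : ∀ i, ∃ j, g * zz ε i * g⁻¹ = zz ε j := by
    intro i
    obtain ⟨y, hy⟩ := hE.surj _ (hgA _ (zz_mem hE i))
    -- pairs crossing `y` come from pairs through `i`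
    have hcross : ∀ a b, y a ≠ y b → ∃ c, c ≠ i ∧ g⁻¹ * rr ε a b * g = rr ε i c := by
      intro a b hab
      have hne : a ≠ b := fun h1 => hab (by rw [h1])
      obtain ⟨k, l, hkl, h1⟩ := Sit.duad h hw (inv_mem hg) hne
      rw [inv_inv] at h1
      have h2 : (Pi.single i 1 : Fin (2 ^ m + 1) → ZMod 2) k ≠ (Pi.single i 1 : Fin (2 ^ m + 1) → ZMod 2) l := by
        intro h3
        apply hab
        rw [← Sit.move_iff h hw hne (one_mem (cv (S : Subgroup G) P)) y]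
        have h4 := (Sit.move_iff h hw hkl (one_mem (cv (S : Subgroup G) P)) (Pi.single i 1)).mpr h3
        intro z hz
        rw [one_mul, hy]
        have h5 : g⁻¹ * z * g ∈ o2 (NN ε k l) := by
          have h6 := push (g := g⁻¹) hz
          rw [inv_inv, h1] at h6
          exact h6
        have h6 := h4 _ h5
        rw [one_mul] at h6
        calc z * (g * zz ε i * g⁻¹) * z⁻¹ = g * (g⁻¹ * z * g * zz ε i * (g⁻¹ * z * g)⁻¹) * g⁻¹ := by group
          _ = g * zz ε i * g⁻¹ := congrArg (fun t => g * t * g⁻¹) h6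
      by_cases hk : k = i
      · subst hk
        exact ⟨l, hkl.symm, h1⟩
      · by_cases hl : l = i
        · subst hl
          exact ⟨k, hk, by rw [h1, rr_symm hE]⟩
        · exfalso
          apply h2
          rw [Pi.single_eq_of_ne hk, Pi.single_eq_of_ne hl]
    -- no two disjoint crossing pairs
    have hno : ∀ a b c d, a ≠ c → a ≠ d → b ≠ c → b ≠ d → y a ≠ y b → y c ≠ y d → False := by
      intro a b c d hac had hbc hbd hab hcd
      obtain ⟨k, hk, h1⟩ := hcross a b hab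
      obtain ⟨l, hl, h2⟩ := hcross c d hcd
      have hcd' : c ≠ d := fun h3 => hcd (by rw [h3])
      have hab' : a ≠ b := fun h3 => hab (by rw [h3])
      -- `o2 (NN c d)` centralises `rr a b`
      have h3 : ∀ z ∈ o2 (NN ε c d), z * rr ε a b * z⁻¹ = rr ε a b := by
        intro z hz
        rcases h.acts hcd' hz with h4 | h4
        · rw [rr_conj h4]
          rfl
        · rw [rr_conj h4, Equiv.swap_apply_of_ne_of_ne hac had, Equiv.swap_apply_of_ne_of_ne hbc hbd]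
      -- so `o2 (NN i l)` centralises `rr i k`
      have h4 : ∀ z ∈ o2 (NN ε i l), z * rr ε i k * z⁻¹ = rr ε i k := by
        intro z hz
        have h5 : g * z * g⁻¹ ∈ o2 (NN ε c d) := by
          have h6 := push (g := g) hz
          have e : g * rr ε i l * g⁻¹ = rr ε c d := by
            rw [← h2]
            group
          rw [e] at h6
          exact h6
        have h6 := h3 _ h5
        have e : rr ε a b = g * rr ε i k * g⁻¹ := by
          rw [← h1]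
          group
        rw [e] at h6
        have h7 : g * (z * rr ε i k * z⁻¹) * g⁻¹ = g * rr ε i k * g⁻¹ := by
          calc g * (z * rr ε i k * z⁻¹) * g⁻¹ = g * z * g⁻¹ * (g * rr ε i k * g⁻¹) * (g * z * g⁻¹)⁻¹ := by group
            _ = _ := h6
        exact mul_left_cancel (mul_right_cancel h7)
      have h5 := (Sit.move_iff h hw (Ne.symm hl) (one_mem (cv (S : Subgroup G) P))
        (Pi.single i 1 + Pi.single k 1)).mp (by
          intro z hz
          rw [one_mul, hE.add]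
          exact h4 z hz)
      by_cases hkl : k = l
      · -- then the two pairs are equal
        subst hkl
        have h6 : rr ε a b = rr ε c d := by
          have h7 := h1.trans h2.symm
          exact mul_left_cancel (mul_right_cancel h7)
        rcases pair_eq hE (Sit.five h) hab' h6 with h7 | h7
        · exact hac h7.1.symm
        · exact hbc h7.1.symm
      · rw [Pi.add_apply, Pi.add_apply, Pi.single_eq_same, Pi.single_eq_of_ne (Ne.symm hk),
          Pi.single_eq_of_ne hl, Pi.single_eq_of_ne (Ne.symm hkl)] at h5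
        exact absurd h5 (by decide)
    -- `y` is not constant
    obtain ⟨a, b, hab⟩ : ∃ a b, y a ≠ y b := by
      by_contra hall
      push Not at hall
      have h1 : y = 0 ∨ y = 1 := by
        rcases (show ∀ t : ZMod 2, t = 0 ∨ t = 1 by decide) (y i) with h2 | h2
        · left
          funext k
          rw [hall k i, h2]
          rfl
        · right
          funext k
          rw [hall k i, h2]
          rfl
      have h2 := (hE.ker y).mpr h1
      rw [hy] at h2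
      have h3 : zz ε i = 1 := by
        have : g⁻¹ * (g * zz ε i * g⁻¹) * g = 1 := by rw [h2]; group
        calc zz ε i = g⁻¹ * (g * zz ε i * g⁻¹) * g := by group
          _ = 1 := this
      exact hE.single_ne_one h.three i h3
    -- all other letters have the value of `a`, or all have the value of `b`
    have hval : ∀ c, y c = y a ∨ y c = y b := by
      intro c
      rcases (show ∀ t : ZMod 2, t = 0 ∨ t = 1 by decide) (y a) with h1 | h1 <;>
      rcases (show ∀ t : ZMod 2, t = 0 ∨ t = 1 by decide) (y b) with h2 | h2 <;>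
      rcases (show ∀ t : ZMod 2, t = 0 ∨ t = 1 by decide) (y c) with h3 | h3 <;>
      rw [h1, h2] at hab <;> rw [h1, h2, h3] <;> simp at hab ⊢
    have hdone : ∀ a b, y a ≠ y b → (∀ c, c ≠ a → y c = y b) → g * zz ε i * g⁻¹ = zz ε a := by
      intro a b hab hc
      rw [← hy]
      unfold zz
      rw [hE.eq_iff]
      rcases (show ∀ t : ZMod 2, t = 0 ∨ t = 1 by decide) (y b) with h1 | h1
      · left
        funext c
        by_cases hca : c = a
        · subst hca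
          rw [Pi.single_eq_same]
          rcases (show ∀ t : ZMod 2, t = 0 ∨ t = 1 by decide) (y c) with h2 | h2
          · exact absurd (h2.trans h1.symm) hab
          · exact h2
        · rw [hc c hca, h1, Pi.single_eq_of_ne hca]
      · right
        funext c
        rw [Pi.add_apply, Pi.one_apply]
        by_cases hca : c = a
        · subst hca
          rw [Pi.single_eq_same]
          rcases (show ∀ t : ZMod 2, t = 0 ∨ t = 1 by decide) (y c) with h2 | h2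
          · rw [h2]
            decide
          · exact absurd (h2.trans h1.symm) hab
        · rw [hc c hca, h1, Pi.single_eq_of_ne hca]
          decide
    by_cases hA : ∀ c, c ≠ a → y c = y b
    · exact ⟨a, hdone a b hab hA⟩
    · push Not at hA
      obtain ⟨c, hca, hcb⟩ := hA
      have hcya : y c = y a := (hval c).resolve_right hcb
      refine ⟨b, hdone b a hab.symm fun d hdb => ?_⟩
      by_contra hda
      have hdyb : y d = y b := (hval d).resolve_left hda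
      -- `a, c` have one value, `b, d` the other one
      refine hno a b c d (Ne.symm hca) ?_ ?_ (Ne.symm hdb) hab ?_
      · rintro rfl
        exact hda rfl
      · rintro rfl
        exact hcb rfl
      · rw [hcya, hdyb]
        exact hab
  choose π hπ using key
  have hinj : Function.Injective π := by
    intro i j hij
    refine hE.single_inj h.three ?_
    have h1 : g * zz ε i * g⁻¹ = g * zz ε j * g⁻¹ := by rw [hπ, hπ, hij]
    exact mul_left_cancel (mul_right_cancel h1)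
  let σ : Equiv.Perm (Fin (2 ^ m + 1)) := Equiv.ofBijective π (Finite.injective_iff_bijective.mp hinj)
  refine ⟨σ, fun x => ?_⟩
  have h2 : ∀ s : Finset (Fin (2 ^ m + 1)), g * ε (∑ i ∈ s, Pi.single i (x i)) * g⁻¹ =
      ε (∑ i ∈ s, Pi.single (σ i) (x i)) := by
    intro s
    induction s using Finset.induction_on with
    | empty => rw [Finset.sum_empty, Finset.sum_empty, hE.zero, mul_one, mul_inv_cancel]
    | insert k s hk ih =>
      rw [Finset.sum_insert hk, Finset.sum_insert hk, hE.add, hE.add, ← ih]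
      have e : g * ε (Pi.single k (x k)) * g⁻¹ = ε (Pi.single (σ k) (x k)) := by
        rcases (show ∀ y : ZMod 2, y = 0 ∨ y = 1 by decide) (x k) with h3 | h3
        · rw [h3, Pi.single_zero, Pi.single_zero, hE.zero, mul_one, mul_inv_cancel]
        · rw [h3]
          exact hπ k
      rw [← e]
      group
  have h3 := h2 Finset.univ
  rw [Finset.univ_sum_single] at h3
  rw [h3]
  congr 1
  have h4 : ∑ i, Pi.single (σ i) (x i) = ∑ i, Pi.single i ((x ∘ σ.symm) i) := by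
    rw [← Equiv.sum_comp σ (fun i => (Pi.single i ((x ∘ σ.symm) i) : Fin (2 ^ m + 1) → ZMod 2))]
    apply Finset.sum_congr rfl
    intro i _
    simp [Function.comp]
  rw [h4, Finset.univ_sum_single]

/-- `N_G(V)` normalises `A`. -/
theorem Sit.norm_A (h : Sit S P m A ε) (hw : Mov ε) :
    normalizer (zl (S : Subgroup G) P : Set G) ≤ normalizer (A : Set G) := by
  intro g hg
  obtain ⟨π, hπ⟩ := Sit.exists_perm h hw hg
  exact acts_norm h.split.even hπ

/-- `N_G(V)` normalises `V₀`. -/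
theorem Sit.norm_cv (h : Sit S P m A ε) (hw : Mov ε) :
    normalizer (zl (S : Subgroup G) P : Set G) ≤ normalizer (cv (S : Subgroup G) P : Set G) := by
  have hE := h.split.even
  have key : ∀ g ∈ normalizer (zl (S : Subgroup G) P : Set G), ∀ v ∈ cv (S : Subgroup G) P,
      g * v * g⁻¹ ∈ cv (S : Subgroup G) P := by
    intro g hg v hv
    obtain ⟨c, hc, a, ha, h1⟩ := h.mul_eq (norm_conj hg (h.V0_le hv))
    obtain ⟨x, rfl⟩ := hE.surj a ha
    have h2 : ∀ k l, x k = x l := by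
      intro k l
      by_cases hkl : k = l
      · rw [hkl]
      refine (Sit.move_iff h hw hkl hc x).mp fun y hy => ?_
      rw [← h1]
      obtain ⟨k', l', hkl', h3⟩ := Sit.duad h hw (inv_mem hg) hkl
      rw [inv_inv] at h3
      have h4 : g⁻¹ * y * g ∈ o2 (NN ε k' l') := by
        have h6 := push (g := g⁻¹) hy
        rw [inv_inv, h3] at h6
        exact h6
      have h5 := h.comm_V0 hkl' h4 hv
      calc y * (g * v * g⁻¹) * y⁻¹ = g * (g⁻¹ * y * g * v) * (g⁻¹ * y * g)⁻¹ * g⁻¹ := by group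
        _ = g * (v * (g⁻¹ * y * g)) * (g⁻¹ * y * g)⁻¹ * g⁻¹ := by rw [h5]
        _ = g * v * g⁻¹ := by group
    have h3 : ε x = 1 := by
      rw [hE.ker]
      rcases (show ∀ t : ZMod 2, t = 0 ∨ t = 1 by decide) (x 0) with h4 | h4
      · left
        funext k
        rw [h2 k 0, h4]
        rfl
      · right
        funext k
        rw [h2 k 0, h4]
        rfl
    rw [h1, h3, mul_one]
    exact hc
  intro g hg
  rw [mem_normalizer_iff]
  refine fun v => ⟨key g hg v, fun hv => ?_⟩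
  have h1 := key g⁻¹ (inv_mem hg) _ hv
  have h2 : g⁻¹ * (g * v * g⁻¹) * g⁻¹⁻¹ = v := by group
  rwa [h2] at h1

/-- `N_G(V)` induces on `V₀` a group of odd order. -/
theorem Sit.cent_of_sq (h : Sit S P m A ε) (hw : Mov ε) {g : G}
    (hg : g ∈ normalizer (zl (S : Subgroup G) P : Set G))
    (h2 : ∀ v ∈ cv (S : Subgroup G) P, g ^ 2 * v = v * g ^ 2) : ∀ v ∈ cv (S : Subgroup G) P, g * v = v * g := by
  have hf : Fact (Nat.Prime 2) := ⟨Nat.prime_two⟩
  let L : Subgroup G := normalizer (zl (S : Subgroup G) P : Set G)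
  let K : Subgroup G := L ⊓ centralizer (cv (S : Subgroup G) P : Set G)
  have hSL : (S : Subgroup G) ≤ L := Sit.S_le h
  have hSK : (S : Subgroup G) ≤ K := le_inf hSL fun s hs => mem_centralizer_iff.mpr fun v hv =>
    (h.V0_comm hv (h.par.le hs)).symm
  have hn : L ≤ normalizer (K : Set G) := by
    have key : ∀ a ∈ L, ∀ x ∈ K, a * x * a⁻¹ ∈ K := by
      intro a ha x hx
      refine ⟨L.mul_mem (L.mul_mem ha hx.1) (L.inv_mem ha), mem_centralizer_iff.mpr fun v hv => ?_⟩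
      have h3 := norm_conj' (Sit.norm_cv h hw ha) hv
      have h4 : a⁻¹ * v * a * x = x * (a⁻¹ * v * a) := mem_centralizer_iff.mp hx.2 _ h3
      calc v * (a * x * a⁻¹) = a * (a⁻¹ * v * a * x) * a⁻¹ := by group
        _ = a * (x * (a⁻¹ * v * a)) * a⁻¹ := by rw [h4]
        _ = a * x * a⁻¹ * v := by group
    intro a ha
    rw [mem_normalizer_iff]
    refine fun v => ⟨key a ha v, fun hv => ?_⟩
    have h1 := key a⁻¹ (inv_mem ha) _ hv
    have h2 : a⁻¹ * (a * v * a⁻¹) * a⁻¹⁻¹ = v := by group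
    rwa [h2] at h1
  have hN : (K.subgroupOf L).Normal := normal_subgroupOf_of_le_normalizer hn
  have hodd : ¬ 2 ∣ (K.subgroupOf L).index := by
    intro h3
    exact MinSimple.Basic.not_dvd_relIndex S hSL (h3.trans (relIndex_dvd_of_le_left L hSK))
  have h3 : (⟨g, hg⟩ : L) ^ (K.subgroupOf L).index ∈ K.subgroupOf L := pow_index_mem (K.subgroupOf L) _
  have h4 : (⟨g, hg⟩ : L) ^ 2 ∈ K.subgroupOf L := by
    rw [mem_subgroupOf]
    refine ⟨((⟨g, hg⟩ : L) ^ 2).2, mem_centralizer_iff.mpr fun v hv => (h2 v hv).symm⟩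
  have h5 : (⟨g, hg⟩ : L) ∈ K.subgroupOf L := by
    obtain ⟨t, ht⟩ : ∃ t, (K.subgroupOf L).index = 2 * t + 1 := ⟨(K.subgroupOf L).index / 2, by omega⟩
    rw [ht, pow_succ, pow_mul] at h3
    exact (Subgroup.mul_mem_cancel_left _ (pow_mem h4 t)).mp h3
  intro v hv
  exact (mem_centralizer_iff.mp (mem_subgroupOf.mp h5).2 v hv).symm

/-- **Every transvection of `N_G(V)` on `V` is a transposition.** -/
theorem Sit.transv (h : Sit S P m A ε) (hw : Mov ε) {g c : G}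
    (hg : g ∈ normalizer (zl (S : Subgroup G) P : Set G))
    (hc : ∀ v ∈ zl (S : Subgroup G) P, g * v * g⁻¹ = v ∨ g * v * g⁻¹ = v * c)
    (hm : ∃ v ∈ zl (S : Subgroup G) P, g * v * g⁻¹ ≠ v) :
    ∃ i j, i ≠ j ∧ c = rr ε i j ∧ Acts ε g (Equiv.swap i j) := by
  obtain ⟨π, hπ⟩ := Sit.exists_perm h hw hg
  refine Sit.of_acts h hπ ?_ hc hm
  obtain ⟨v, hv, hvne⟩ := hm
  have hcV : c ∈ zl (S : Subgroup G) P := by
    have h1 := (hc v hv).resolve_left hvne
    have h2 := norm_conj hg hv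
    rw [h1] at h2
    have h3 := mul_mem (inv_mem hv) h2
    rwa [inv_mul_cancel_left] at h3
  have hcc : c * c = 1 := by
    rw [← pow_two]
    exact h.V_sq hcV
  have hgc : g * c * g⁻¹ = c := by
    rcases hc c hcV with h1 | h1
    · exact h1
    · rw [hcc] at h1
      have h2 : c = 1 := by
        calc c = g⁻¹ * (g * c * g⁻¹) * g := by group
          _ = 1 := by rw [h1]; group
      rw [h2]
      group
  refine Sit.cent_of_sq h hw hg fun w hw' => ?_
  have hwV := h.V0_le hw'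
  have h1 : g ^ 2 * w * (g ^ 2)⁻¹ = w := by
    have e : g ^ 2 * w * (g ^ 2)⁻¹ = g * (g * w * g⁻¹) * g⁻¹ := by
      rw [pow_two]
      group
    rw [e]
    rcases hc w hwV with h2 | h2
    · rw [h2, h2]
    · rw [h2]
      calc g * (w * c) * g⁻¹ = (g * w * g⁻¹) * (g * c * g⁻¹) := by group
        _ = w * c * c := by rw [h2, hgc]
        _ = w := by rw [mul_assoc, hcc, mul_one]
  rw [mul_inv_eq_iff_eq_mul] at h1
  exact h1

end Cfsg.Agent.Omega.F4Leaf.Exit.Dua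

end

section


/-!
# LeafF4: centres of transvections on a subgroup `A ≤ V₁ ≤ V` (helper758, #21183; generalises helper450's `Exit.Dua`)

* `tr` : the pairs are centres on `V₁`;  `of_S` : a transvection of `S` on `V₁` is a transposition;
* `count`, **`pair_of_tr`** : `Tr V₁ c` implies that `c` is a pair.
-/

set_option autoImplicit false
set_option linter.dupNamespace false

namespace Cfsg.Agent.Omega.F4Leaf.Syl.TrV

open Subgroup Pointwise Cfsg Cfsg.Agent Cfsg.Agent.Omega.MinPar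
open Cfsg.Agent.ZN (o2 zc zl)
open Cfsg.Agent.Omega.FrameFF (cv Single Free)
open Cfsg.Agent.Omega.S5.Def Cfsg.Agent.Omega.S5.Syl Cfsg.Agent.Omega.F4Leaf.Def
open Cfsg.Agent.Omega.NSix.Base Cfsg.Agent.Omega.NSix.Basic Cfsg.Agent.Omega.F4Leaf.Pos
open Cfsg.Agent.Omega.F4Leaf.Exit.Tr
open Cfsg.Agent.Omega.F4Leaf.Exit.Dua
open Cfsg.Agent.MinSimple.VModule (o2_isPGroup o2_le le_o2 le_normalizer_o2 le_normalizer_zl)

universe u

variable {G : Type u} [Group G] [Finite G] {S : Sylow 2 G} {P : Subgroup G} {m : ℕ} {A : Subgroup G}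
  {ε : (Fin (2 ^ m + 1) → ZMod 2) → G}

/-- `P` normalises `V₁`. -/
theorem P_le (h : Sit S P m A ε) {V₁ : Subgroup G} (hA : A ≤ V₁) (hV : V₁ ≤ zl (S : Subgroup G) P) :
    P ≤ normalizer (V₁ : Set G) := by
  have key : ∀ g ∈ P, ∀ x ∈ V₁, g * x * g⁻¹ ∈ V₁ := by
    intro g hg x hx
    obtain ⟨v, hv, a, ha, rfl⟩ := h.mul_eq (hV hx)
    have hv1 : v ∈ V₁ := by
      have h1 := mul_mem hx (inv_mem (hA ha))
      rwa [mul_inv_cancel_right] at h1
    have h2 : g * a * g⁻¹ ∈ A := norm_conj (h.split.even.le_normalizer hg) ha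
    have e : g * (v * a) * g⁻¹ = v * (g * a * g⁻¹) := by
      calc g * (v * a) * g⁻¹ = g * v * a * g⁻¹ := by group
        _ = v * g * a * g⁻¹ := by rw [h.V0_comm hv hg]
        _ = _ := by group
    rw [e]
    exact mul_mem hv1 (hA h2)
  intro g hg
  rw [mem_normalizer_iff]
  refine fun x => ⟨key g hg x, fun hx => ?_⟩
  have h1 := key g⁻¹ (inv_mem hg) _ hx
  have e : g⁻¹ * (g * x * g⁻¹) * g⁻¹⁻¹ = x := by group
  rwa [e] at h1

theorem S_le (h : Sit S P m A ε) {V₁ : Subgroup G} (hA : A ≤ V₁) (hV : V₁ ≤ zl (S : Subgroup G) P) :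
    (S : Subgroup G) ≤ normalizer (V₁ : Set G) := h.par.le.trans (P_le h hA hV)

/-- The pairs are centres. -/
theorem tr (h : Sit S P m A ε) {V₁ : Subgroup G} (hA : A ≤ V₁) (hV : V₁ ≤ zl (S : Subgroup G) P) (hw : Mov ε)
    {i j : Fin (2 ^ m + 1)} (hij : i ≠ j) : Tr V₁ (rr ε i j) where
  mem := hA (rr_mem h.split.even i j)
  norm := (h.o2_le_P hij).trans (P_le h hA hV)
  act _ hx _ hv := h.conj_V hij hx (hV hv)
  mov := by
    obtain ⟨w, hw1, hw2⟩ := hw i j hij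
    refine ⟨w, hw1, zz ε i, hA (zz_mem h.split.even i), fun h1 => hij ?_⟩
    rw [zz_conj hw2, Equiv.swap_apply_left] at h1
    exact (h.split.even.single_inj h.three h1).symm
  uni x hx y hy h1 h2 v hv := by
    obtain ⟨a, ha, ha'⟩ := h1
    obtain ⟨b, hb, hb'⟩ := h2
    exact (Exit.Dua.Sit.tr h hw hij).uni x hx y hy ⟨a, hV ha, ha'⟩ ⟨b, hV hb, hb'⟩ v (hV hv)

/-- A transvection of `S` on `V₁` is a transposition. -/
theorem of_S (h : Sit S P m A ε) {V₁ : Subgroup G} (hA : A ≤ V₁) (hV : V₁ ≤ zl (S : Subgroup G) P) {x c : G}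
    (hx : x ∈ (S : Subgroup G)) (hc : ∀ v ∈ V₁, x * v * x⁻¹ = v ∨ x * v * x⁻¹ = v * c)
    (hm : ∃ v ∈ V₁, x * v * x⁻¹ ≠ v) : ∃ i j, i ≠ j ∧ c = rr ε i j ∧ Acts ε x (Equiv.swap i j) := by
  refine Exit.Dua.Sit.of_S h hx (fun v hv => ?_) ?_
  · obtain ⟨w, hw, a, ha, rfl⟩ := h.mul_eq hv
    have e : x * (w * a) * x⁻¹ = w * (x * a * x⁻¹) := by
      calc x * (w * a) * x⁻¹ = x * w * a * x⁻¹ := by group
        _ = w * x * a * x⁻¹ := by rw [h.V0_comm hw (h.par.le hx)]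
        _ = _ := by group
    rw [e]
    rcases hc a (hA ha) with h1 | h1
    · left; rw [h1]
    · right; rw [h1, mul_assoc]
  · obtain ⟨v, hv, h1⟩ := hm
    exact ⟨v, hV hv, h1⟩

/-- **Commuting centres.** -/
theorem count (h : Sit S P m A ε) {V₁ : Subgroup G} (hA : A ≤ V₁) (hV : V₁ ≤ zl (S : Subgroup G) P) {ι : Type*} [Fintype ι] (F : ι → G) (hF : Function.Injective F)
    (hT : ∀ a, Tr V₁ (F a))
    (hc : ∀ a b, ∀ x ∈ o2 (centralizer ({F a} : Set G)), x * F b * x⁻¹ = F b) :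
    2 * Fintype.card ι ≤ 2 ^ m + 1 := by
  classical
  have hE := h.split.even
  have hcen : ∀ a b, o2 (centralizer ({F a} : Set G)) ≤ centralizer ({F b} : Set G) := by
    intro a b x hx
    rw [mem_centralizer_singleton_iff, ← mul_inv_eq_iff_eq_mul]
    exact hc a b x hx
  have hD : IsPGroup 2 ((⨆ a ∈ (Finset.univ : Finset ι), o2 (centralizer ({F a} : Set G)) : Subgroup G)) :=
    HOne.isPGroup_iSup _ _ (fun _ _ => o2_isPGroup _) fun a _ b _ => (hcen a b).trans (le_normalizer_o2 _)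
  have hDn : (⨆ a ∈ (Finset.univ : Finset ι), o2 (centralizer ({F a} : Set G)) : Subgroup G) ≤
      normalizer (V₁ : Set G) := iSup₂_le fun a _ => (hT a).norm
  obtain ⟨g, hg, hgD⟩ := exists_conj hDn S.isPGroup' hD
    (MinSimple.Basic.not_dvd_relIndex S (S_le h hA hV))
  have hmem : ∀ a, ∀ x ∈ o2 (centralizer ({F a} : Set G)), g * x * g⁻¹ ∈ (S : Subgroup G) := fun a x hx =>
    hgD x ((le_iSup₂ (f := fun a (_ : a ∈ (Finset.univ : Finset ι)) => o2 (centralizer ({F a} : Set G))) a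
      (Finset.mem_univ a)) hx)
  have key : ∀ a, ∃ i j, i ≠ j ∧ g * F a * g⁻¹ = rr ε i j ∧
      ∃ x ∈ o2 (centralizer ({F a} : Set G)), Acts ε (g * x * g⁻¹) (Equiv.swap i j) := by
    intro a
    obtain ⟨x, hx, v, hv, hne⟩ := (hT a).mov
    have hT' := (hT a).conj hg
    obtain ⟨i, j, h1, h2, h3⟩ := of_S h hA hV (hmem a x hx) (hT'.act _ (push hx))
      ⟨g * v * g⁻¹, norm_conj hg hv, fun h2 => hne (by
        have e : g * x * g⁻¹ * (g * v * g⁻¹) * (g * x * g⁻¹)⁻¹ = g * (x * v * x⁻¹) * g⁻¹ := by group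
        rw [e] at h2
        exact mul_left_cancel (mul_right_cancel h2))⟩
    exact ⟨i, j, h1, h2, x, hx, h3⟩
  choose p q hpq hr x hx hs using key
  -- the pairs are disjoint
  have hdis : ∀ a b, (p a = p b ∨ p a = q b ∨ q a = p b ∨ q a = q b) → a = b := by
    intro a b hab
    have h1 : g * x a * g⁻¹ * rr ε (p b) (q b) * (g * x a * g⁻¹)⁻¹ = rr ε (p b) (q b) := by
      rw [← hr b]
      have e : g * x a * g⁻¹ * (g * F b * g⁻¹) * (g * x a * g⁻¹)⁻¹ = g * (x a * F b * (x a)⁻¹) * g⁻¹ := by group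
      rw [e, hc a b _ (hx a)]
    rw [rr_conj (hs a)] at h1
    have h2 := pair_eq hE (Sit.five h) (i := p b) (j := q b) (hpq b) h1.symm
    have h3 : (p a = p b ∧ q a = q b) ∨ (p a = q b ∧ q a = p b) := by
      rcases hab with h4 | h4 | h4 | h4
      · left
        refine ⟨h4, ?_⟩
        rw [← h4, Equiv.swap_apply_left] at h2
        rcases h2 with h5 | h5
        · exact absurd h5.1.symm (hpq a)
        · exact h5.1
      · right
        refine ⟨h4, ?_⟩
        rw [← h4, Equiv.swap_apply_left] at h2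
        rcases h2 with h5 | h5
        · exact absurd h5.2.symm (hpq a)
        · exact h5.2
      · right
        refine ⟨?_, h4⟩
        rw [← h4, Equiv.swap_apply_right] at h2
        rcases h2 with h5 | h5
        · exact absurd h5.1 (hpq a)
        · exact h5.1
      · left
        refine ⟨?_, h4⟩
        rw [← h4, Equiv.swap_apply_right] at h2
        rcases h2 with h5 | h5
        · exact absurd h5.2 (hpq a)
        · exact h5.2
    apply hF
    have h4 : g * F a * g⁻¹ = g * F b * g⁻¹ := by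
      rw [hr a, hr b]
      rcases h3 with h5 | h5
      · rw [h5.1, h5.2]
      · rw [h5.1, h5.2, rr_symm hE]
    exact mul_left_cancel (mul_right_cancel h4)
  have hinj : Function.Injective (Sum.elim p q : ι ⊕ ι → Fin (2 ^ m + 1)) := by
    rintro (a | a) (b | b) hab
    · exact congrArg Sum.inl (hdis a b (Or.inl hab))
    · exfalso
      have h1 := hdis a b (Or.inr (Or.inl hab))
      subst h1
      exact hpq a hab
    · exfalso
      have h1 := hdis a b (Or.inr (Or.inr (Or.inl hab)))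
      subst h1
      exact hpq a hab.symm
    · exact congrArg Sum.inr (hdis a b (Or.inr (Or.inr (Or.inr hab))))
  have h1 := Fintype.card_le_of_injective _ hinj
  rw [Fintype.card_sum, Fintype.card_fin] at h1
  omega

/-- **A centre is a pair.** -/
theorem pair_of_tr (h : Sit S P m A ε) {V₁ : Subgroup G} (hA : A ≤ V₁) (hV : V₁ ≤ zl (S : Subgroup G) P) (hw : Mov ε) {c : G}
    (hc : Tr V₁ c) :
    ∃ k l, k ≠ l ∧ c = rr ε k l := by
  classical
  have hE := h.split.even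
  have hm := h.m2
  by_contra hne
  push Not at hne
  -- even representative
  obtain ⟨v, hv, a, ha, hva⟩ := h.mul_eq (hV hc.mem)
  obtain ⟨x₀, hx₀⟩ := hE.surj a ha
  have hcard : ∀ x : Fin (2 ^ m + 1) → ZMod 2, (Finset.univ.filter fun i => x i = 1).card +
      (Finset.univ.filter fun i => ¬ x i = 1).card = 2 ^ m + 1 := by
    intro x
    rw [Finset.card_filter_add_card_filter_not, Finset.card_univ, Fintype.card_fin]
  have h2m : 2 ^ m = 2 * 2 ^ (m - 1) := by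
    rw [← pow_succ']
    congr 1
    omega
  obtain ⟨x, hx, t, ht⟩ : ∃ x, ε x = a ∧ ∃ t, (Finset.univ.filter fun i => x i = 1).card = 2 * t := by
    rcases Nat.even_or_odd (Finset.univ.filter fun i => x₀ i = 1).card with h1 | h1
    · obtain ⟨t, ht⟩ := h1
      exact ⟨x₀, hx₀, t, by omega⟩
    · refine ⟨x₀ + 1, ?_, ?_⟩
      · rw [hE.add, hE.one, mul_one, hx₀]
      · have e : (Finset.univ.filter fun i => (x₀ + 1) i = 1) = Finset.univ.filter fun i => ¬ x₀ i = 1 := by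
          apply Finset.filter_congr
          intro i _
          rw [Pi.add_apply, Pi.one_apply]
          rcases (show ∀ y : ZMod 2, y = 0 ∨ y = 1 by decide) (x₀ i) with h2 | h2
          · rw [h2]
            decide
          · rw [h2]
            decide
        rw [e]
        obtain ⟨t, ht⟩ := h1
        have h3 := hcard x₀
        exact ⟨2 ^ (m - 1) - t, by omega⟩
  obtain ⟨t', ht'⟩ : ∃ t', (Finset.univ.filter fun i => ¬ x i = 1).card = 2 * t' + 1 := by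
    have h3 := hcard x
    exact ⟨2 ^ (m - 1) - t, by omega⟩
  obtain ⟨T', hT', hT'c⟩ := Finset.exists_subset_card_eq (s := Finset.univ.filter fun i => ¬ x i = 1)
    (n := 2 * t') (by omega)
  obtain ⟨p, hp, hpT⟩ := pairing _ t ht
  obtain ⟨q, hq, hqT⟩ := pairing _ t' hT'c
  have hp1 : ∀ b, x (p b) = 1 := fun b => (Finset.mem_filter.mp (hpT b)).2
  have hq1 : ∀ b, x (q b) = 0 := fun b => by
    have h1 := (Finset.mem_filter.mp (hT' (hqT b))).2
    rcases (show ∀ y : ZMod 2, y = 0 ∨ y = 1 by decide) (x (q b)) with h2 | h2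
    · exact h2
    · exact absurd h2 h1
  -- the pairs
  let f : Fin t ⊕ Fin t' → Fin (2 ^ m + 1) := fun b => b.elim (fun b => p (Sum.inl b)) (fun b => q (Sum.inl b))
  let f' : Fin t ⊕ Fin t' → Fin (2 ^ m + 1) := fun b => b.elim (fun b => p (Sum.inr b)) (fun b => q (Sum.inr b))
  have hne01 : (0 : ZMod 2) ≠ 1 := by decide
  have hff : ∀ b, f b ≠ f' b := by
    rintro (b | b) h1
    · exact Sum.inl_ne_inr (hp h1)
    · exact Sum.inl_ne_inr (hq h1)
  have hxf : ∀ b, x (f b) = x (f' b) := by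
    rintro (b | b)
    · exact (hp1 _).trans (hp1 _).symm
    · exact (hq1 _).trans (hq1 _).symm
  have hf : ∀ b b', (f b = f b' ∨ f b = f' b' ∨ f' b = f b' ∨ f' b = f' b') → b = b' := by
    rintro (b | b) (b' | b') h1
    · have h2 : b = b' := by
        rcases h1 with h1 | h1 | h1 | h1
        · exact Sum.inl_injective (hp h1)
        · exact absurd (hp h1) Sum.inl_ne_inr
        · exact absurd (hp h1).symm Sum.inl_ne_inr
        · exact Sum.inr_injective (hp h1)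
      rw [h2]
    · exfalso
      rcases h1 with h1 | h1 | h1 | h1 <;>
      · have h2 := congrArg x h1
        apply hne01
        first
          | exact ((hq1 _).symm.trans h2.symm).trans (hp1 _)
    · exfalso
      rcases h1 with h1 | h1 | h1 | h1 <;>
      · have h2 := congrArg x h1
        apply hne01
        first
          | exact ((hq1 _).symm.trans h2).trans (hp1 _)
    · have h2 : b = b' := by
        rcases h1 with h1 | h1 | h1 | h1
        · exact Sum.inl_injective (hq h1)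
        · exact absurd (hq h1) Sum.inl_ne_inr
        · exact absurd (hq h1).symm Sum.inl_ne_inr
        · exact Sum.inr_injective (hq h1)
      rw [h2]
  -- the centres
  have hcx : c = v * ε x := by rw [hva, hx]
  have h1 : ∀ b, ∀ y ∈ o2 (NN ε (f b) (f' b)), y * c * y⁻¹ = c := by
    intro b
    rw [hcx]
    exact (Sit.move_iff h hw (hff b) hv x).mpr (hxf b)
  have hco : ∀ a ∈ V₁, ∀ b ∈ V₁, a * b = b * a := fun a ha b hb => h.V_comm (hV ha) (hV hb)
  have hsq : ∀ a ∈ V₁, a * a = 1 := fun a ha => by rw [← pow_two]; exact h.V_sq (hV ha)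
  have h2 : ∀ b, ∀ y ∈ o2 (centralizer ({c} : Set G)), y * rr ε (f b) (f' b) * y⁻¹ = rr ε (f b) (f' b) :=
    fun b => hc.symm (tr h hA hV hw (hff b)) hco hsq (h1 b)
  have h3 : ∀ b b', ∀ y ∈ o2 (NN ε (f b) (f' b)), y * rr ε (f b') (f' b') * y⁻¹ = rr ε (f b') (f' b') := by
    intro b b' y hy
    by_cases hbb : b = b'
    · subst hbb
      have h4 : y * rr ε (f b) (f' b) = rr ε (f b) (f' b) * y := mem_centralizer_singleton_iff.mp (o2_le _ hy)
      rw [h4, mul_inv_cancel_right]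
    · rcases h.acts (hff b) hy with h4 | h4
      · rw [rr_conj h4]
        rfl
      · rw [rr_conj h4, Equiv.swap_apply_of_ne_of_ne, Equiv.swap_apply_of_ne_of_ne]
        · exact fun h5 => hbb (hf _ _ (Or.inr (Or.inl h5.symm)))
        · exact fun h5 => hbb (hf _ _ (Or.inr (Or.inr (Or.inr h5.symm))))
        · exact fun h5 => hbb (hf _ _ (Or.inl h5.symm))
        · exact fun h5 => hbb (hf _ _ (Or.inr (Or.inr (Or.inl h5.symm))))
  let F : Option (Fin t ⊕ Fin t') → G := fun b => b.elim c fun b => rr ε (f b) (f' b)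
  have h4 := count h hA hV F (by
    rintro (_ | b) (_ | b') hbb
    · rfl
    · exact absurd hbb (hne _ _ (hff b'))
    · exact absurd hbb.symm (hne _ _ (hff b))
    · have h5 : rr ε (f b) (f' b) = rr ε (f b') (f' b') := hbb
      rcases pair_eq hE (Sit.five h) (hff b) h5 with h6 | h6
      · exact congrArg some (hf b b' (Or.inl h6.1.symm))
      · exact congrArg some (hf b b' (Or.inr (Or.inr (Or.inl h6.1.symm)))))
    (by
      rintro (_ | b)
      · exact hc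
      · exact tr h hA hV hw (hff b))
    (by
      rintro (_ | b) (_ | b') y hy
      · have h5 : y * c = c * y := mem_centralizer_singleton_iff.mp (o2_le _ hy)
        change y * c * y⁻¹ = c
        rw [h5, mul_inv_cancel_right]
      · exact h2 b' y hy
      · exact h1 b y hy
      · exact h3 b b' y hy)
  rw [Fintype.card_option, Fintype.card_sum, Fintype.card_fin, Fintype.card_fin] at h4
  have h5 := hcard x
  omega

end Cfsg.Agent.Omega.F4Leaf.Syl.TrV

end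

end

-- merged: Cfsg.Agent.Mrg.Omega.F4Leaf.Syl.Inst
section

/-!
# MemH2 (#21183): `T₁ ∈ Syl₂(N₁₂ ∩ N(V_l))` is Sylow in `N₁₂`: the instance of `SylI`

* `LemF S P ε i j` : LEMMA F;
* `inst` : `LI (zl S P) V_l (o2 P) (S ⊓ NN ε i j) T (pts ..) 0`;
* `loc` : `O₂(M) ≤ T`, `[O₂(M), V_l] = 1` for `M ≥ ⟨T, X⟩`;
* `odd_of` : `T` is Sylow in `C_G(r_ij)`; `exists_fr` : the frame `Fr`.
-/

set_option autoImplicit false
set_option linter.dupNamespace false

namespace Cfsg.Agent.Omega.F4Leaf.Syl.Inst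

open Subgroup Pointwise Cfsg Cfsg.Agent Cfsg.Agent.Omega.MinPar
open Cfsg.Agent.ZN (o2 zc zl)
open Cfsg.Agent.Omega.FrameFF (cv)
open Cfsg.Agent.Omega.S5.Def Cfsg.Agent.Omega.S5.Syl Cfsg.Agent.Omega.F4Leaf.Def
open Cfsg.Agent.Omega.F4Leaf.Pos Cfsg.Agent.Omega.F4Leaf.TSyl
open Cfsg.Agent.Omega.NSix.Base Cfsg.Agent.Omega.NSix.Basic Cfsg.Agent.Omega.NSix.FixApp
open Cfsg.Agent.Omega.NSix.RThree (acts_swap')
open Cfsg.Agent.Omega.NSix.Zero (WP mem_WP)
open Cfsg.Agent.Omega.HT.LineOf (Ln ln pts dd)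
open Cfsg.Agent.Omega.BTwo (BT XX QQ cj mem_normalizer_of_conj conj_mem_of_normalizer)
open Cfsg.Agent.Omega.F4Leaf.Syl.LocP
open Cfsg.Agent.MinSimple.VModule (o2_isPGroup o2_le le_o2 le_normalizer_o2 o2_le_of_sylow mem_zc zc_le
  le_normalizer_zl zl_comm zl_sq)

universe u

variable {G : Type u} [Group G] [Finite G] {S : Sylow 2 G} {P : Subgroup G} {m : ℕ} {A : Subgroup G}
  {ε : (Fin (2 ^ m + 1) → ZMod 2) → G} {i j : Fin (2 ^ m + 1)}

/-- LEMMA F -/
def LemF (S : Sylow 2 G) (P : Subgroup G) {m : ℕ} (ε : (Fin (2 ^ m + 1) → ZMod 2) → G)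
    (i j : Fin (2 ^ m + 1)) : Prop :=
  ∀ t ∈ NN ε i j, t * rr ε i 0 * t⁻¹ ∈ zl (S : Subgroup G) P →
    (∀ s ∈ (S : Subgroup G) ⊓ NN ε i j, s * (t * rr ε i 0 * t⁻¹) * s⁻¹ = t * rr ε i 0 * t⁻¹ ∨
      s * (t * rr ε i 0 * t⁻¹) * s⁻¹ = t * rr ε i 0 * t⁻¹ * rr ε i j) →
    t * rr ε i 0 * t⁻¹ = rr ε i 0 ∨ t * rr ε i 0 * t⁻¹ = rr ε j 0

variable {T : Subgroup G}

/-- the normaliser of the point `0` -/
theorem norm_pt (h : Sit S P m A ε) (hij : i ≠ j) (hi : i ≠ 0) (hj : j ≠ 0) :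
    normalizer (pts (rr ε i j) (rr ε i 0) 0 : Set G) = NN ε i j := by
  rw [(line h hij hi hj).normalizer_pts]
  rfl

theorem norm_pt' (h : Sit S P m A ε) (hij : i ≠ j) (hi : i ≠ 0) (hj : j ≠ 0) {s : Fin 3}
    {a b : Fin (2 ^ m + 1)} (e : dd (rr ε i j) (rr ε i 0) s = rr ε a b) :
    normalizer (pts (rr ε i j) (rr ε i 0) s : Set G) = NN ε a b := by
  rw [(line h hij hi hj).normalizer_pts, e]
  rfl

/-- `v ε x`, `x i = x j = x 0`, commutes with `X` -/
theorem cen_X (h : Sit S P m A ε) (hij : i ≠ j) (hi : i ≠ 0) (hj : j ≠ 0)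
    (b : BT (ln (line h hij hi hj)) (pts (rr ε i j) (rr ε i 0))) {v : G} (hv : v ∈ cv (S : Subgroup G) P)
    {x : Fin (2 ^ m + 1) → ZMod 2} (h1 : x i = x 0) (h2 : x j = x 0) :
    v * ε x ∈ centralizer (XX (ln (line h hij hi hj)) (pts (rr ε i j) (rr ε i 0)) : Set G) := by
  have hx : ∀ a, (a = i ∨ a = j ∨ a = 0) → x a = x 0 := by
    rintro a (rfl | rfl | rfl)
    · exact h1
    · exact h2
    · rfl
  have key : XX (ln (line h hij hi hj)) (pts (rr ε i j) (rr ε i 0)) ≤ centralizer ({v * ε x} : Set G) := by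
    refine iSup_le fun s => (b.W_le_Q s).trans fun q hq => ?_
    obtain ⟨a, c, d, hac, -, -, e, -, ha, hc⟩ := dd_cases h hij hi hj s
    have hq' : q ∈ o2 (NN ε a c) := by
      rw [← norm_pt' h hij hi hj e]
      exact hq
    rw [mem_centralizer_singleton_iff]
    have h5 := comm_Q h hac ((hx a ha).trans (hx c hc).symm) hq'
    have h6 := h.comm_V0 hac hq' hv
    calc q * (v * ε x) = (q * v) * ε x := by group
      _ = v * (q * ε x) := by rw [h6]; group
      _ = v * ε x * q := by rw [h5]; group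
  exact mem_centralizer_iff.2 fun y hy => mem_centralizer_singleton_iff.1 (key hy)

theorem relIndex_dvd {N : Type*} [Group N] [Finite N] (Q C : Subgroup N) [C.Normal] : Q.relIndex C ∣ Q.index := by
  have key : ∀ A B : Subgroup N, A ≤ B → Nat.card A * A.relIndex B = Nat.card B := by
    intro A B hAB
    have := card_mul_index (A.subgroupOf B)
    rwa [Nat.card_congr (subgroupOfEquivOfLe hAB).toEquiv] at this
  have h1 := key C (Q ⊔ C) le_sup_right
  rw [relIndex_sup_right] at h1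
  have h2 := key (Q ⊓ C) Q inf_le_left
  rw [inf_relIndex_left] at h2
  have h3 := key (Q ⊓ C) C inf_le_right
  rw [inf_relIndex_right] at h3
  have h4 := key Q (Q ⊔ C) le_sup_left
  have h5 : Q.relIndex (Q ⊔ C) = Q.relIndex C := by
    have hpos : 0 < Nat.card Q := Nat.card_pos
    apply Nat.eq_of_mul_eq_mul_left hpos
    rw [h4, ← h1, ← h3, ← h2]
    ring
  rw [← h5]
  exact relIndex_dvd_index_of_le le_sup_left

/-- the intersection of a Sylow subgroup of `N` with a normal subgroup of `N` is Sylow -/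
theorem not_dvd_relIndex_inf {P N M : Subgroup G} (hMN : M ≤ N)
    (hM : ∀ n ∈ N, ∀ c ∈ M, n * c * n⁻¹ ∈ M) (h : ¬ 2 ∣ (P ⊓ N).relIndex N) :
    ¬ 2 ∣ (P ⊓ M).relIndex M := by
  have hnorm : (M.subgroupOf N).Normal := by
    refine ⟨fun c hc n => ?_⟩
    rw [mem_subgroupOf] at hc ⊢
    exact hM n n.2 c hc
  have h1 : (P ⊓ N).relIndex M ∣ (P ⊓ N).relIndex N := by
    have e1 : (P ⊓ N).relIndex M = ((P ⊓ N).subgroupOf N).relIndex (M.subgroupOf N) := by
      rw [relIndex_subgroupOf hMN]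
    have e2 : (P ⊓ N).relIndex N = ((P ⊓ N).subgroupOf N).index := rfl
    rw [e1, e2]
    exact relIndex_dvd _ _
  intro h'
  apply h
  refine dvd_trans ?_ h1
  have : (P ⊓ M).relIndex M = (P ⊓ N).relIndex M := by
    rw [← inf_relIndex_right (P ⊓ N) M, inf_assoc, inf_eq_right.mpr hMN]
  rw [← this]
  exact h'

/-- `O₂(P)` is Sylow in `C_G(V)` -/
theorem odd_Q (h : Sit S P m A ε) : ¬ 2 ∣ (o2 P).relIndex (centralizer (zl (S : Subgroup G) P : Set G)) := by
  rw [← h.par.inf_centralizer S h.c2]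
  refine not_dvd_relIndex_inf (N := normalizer (zl (S : Subgroup G) P : Set G)) (centralizer_le_normalizer _)
    (fun n hn c hc => ?_) ?_
  · exact conj_mem_of_normalizer (BTwo.normalizer_le_normalizer_centralizer _ hn) hc
  · rw [inf_eq_left.2 (h.par.le.trans (le_normalizer_zl _ _))]
    exact MinSimple.Basic.not_dvd_relIndex S (h.par.le.trans (le_normalizer_zl _ _))

/-- LEMMA F for a point of the line -/
theorem lemF_pt (h : Sit S P m A ε) (hij : i ≠ j) (hi : i ≠ 0) (hj : j ≠ 0) (hF : LemF S P ε i j) {t : G}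
    (ht : t ∈ NN ε i j) {s : Fin 3} (hs : s ≠ 0)
    (h1 : cj t (pts (rr ε i j) (rr ε i 0) s) ≤ zl (S : Subgroup G) P)
    (h2 : ∀ u ∈ (S : Subgroup G) ⊓ NN ε i j, ∀ x ∈ cj t (pts (rr ε i j) (rr ε i 0) s),
      u * x * u⁻¹ * x⁻¹ ∈ pts (rr ε i j) (rr ε i 0) 0) :
    t ∈ normalizer (ln (line h hij hi hj) : Set G) := by
  have hL := line h hij hi hj
  have hE := h.split.even
  have hr2 := rr_sq hE i j
  have htr := mem_NN'.1 ht
  obtain ⟨f, hf⟩ : ∃ f, f = t * rr ε i 0 * t⁻¹ := ⟨_, rfl⟩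
  have hrV : rr ε i j ∈ zl (S : Subgroup G) P := h.split.A_le (rr_mem hE i j)
  -- the conjugate of the point `s`
  obtain ⟨f', hf'⟩ : ∃ f', f' = t * dd (rr ε i j) (rr ε i 0) s * t⁻¹ := ⟨_, rfl⟩
  have hf'm : f' ∈ cj t (pts (rr ε i j) (rr ε i 0) s) := by
    rw [hf']
    exact BTwo.conj_mem_cj ((hL.mem_pts).2 (Or.inr rfl))
  have hf'V := h1 hf'm
  have hff : f = f' ∨ f = rr ε i j * f' := by
    rw [hf, hf']
    fin_cases s
    · exact absurd rfl hs
    · left; rfl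
    · right
      change t * rr ε i 0 * t⁻¹ = rr ε i j * (t * (rr ε i j * rr ε i 0) * t⁻¹)
      have e : t * (rr ε i j * rr ε i 0) * t⁻¹ = (t * rr ε i j * t⁻¹) * (t * rr ε i 0 * t⁻¹) := by group
      rw [e, htr, ← mul_assoc, hr2, one_mul]
  have hfV : f ∈ zl (S : Subgroup G) P := by
    rcases hff with e | e
    · rw [e]; exact hf'V
    · rw [e]; exact mul_mem hrV hf'V
  have h3 : ∀ u ∈ (S : Subgroup G) ⊓ NN ε i j, u * f * u⁻¹ = f ∨ u * f * u⁻¹ = f * rr ε i j := by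
    intro u hu
    have hur := mem_NN'.1 hu.2
    have h4 : u * f' * u⁻¹ = f' ∨ u * f' * u⁻¹ = f' * rr ε i j := by
      rcases (hL.mem_pts).1 (h2 u hu f' hf'm) with e | e
      · left
        calc u * f' * u⁻¹ = u * f' * u⁻¹ * f'⁻¹ * f' := by group
          _ = f' := by rw [e, one_mul]
      · right
        rw [h.V_comm hf'V hrV]
        calc u * f' * u⁻¹ = u * f' * u⁻¹ * f'⁻¹ * f' := by group
          _ = rr ε i j * f' := by rw [e]; rfl
    rcases hff with e | e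
    · rw [e]; exact h4
    · rw [e]
      have e2 : u * (rr ε i j * f') * u⁻¹ = rr ε i j * (u * f' * u⁻¹) := by
        calc u * (rr ε i j * f') * u⁻¹ = (u * rr ε i j * u⁻¹) * (u * f' * u⁻¹) := by group
          _ = _ := by rw [hur]
      rcases h4 with e3 | e3
      · left; rw [e2, e3]
      · right; rw [e2, e3, mul_assoc]
  have hfL : f ∈ ln hL := by
    rw [hf] at hfV h3 ⊢
    rcases hF t ht hfV h3 with e | e
    · rw [e]; exact hL.dd_mem 1
    · rw [e, ← dd_two h i j]; exact hL.dd_mem 2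
  refine mem_normalizer_of_conj ?_
  rintro x (rfl | ⟨k, rfl⟩)
  · rw [mul_one, mul_inv_cancel]; exact one_mem _
  · fin_cases k
    · change t * rr ε i j * t⁻¹ ∈ _
      rw [htr]
      exact hL.dd_mem 0
    · change t * rr ε i 0 * t⁻¹ ∈ _
      rw [← hf]
      exact hfL
    · change t * (rr ε i j * rr ε i 0) * t⁻¹ ∈ _
      have e : t * (rr ε i j * rr ε i 0) * t⁻¹ = (t * rr ε i j * t⁻¹) * (t * rr ε i 0 * t⁻¹) := by group
      rw [e, htr, ← hf]
      exact mul_mem (hL.dd_mem 0) hfL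

/-- `C_V(T) = ⟨r_ij⟩ × C_{C_V(T)}(X)` -/
theorem split_T (h : Sit S P m A ε) (hij : i ≠ j) (hi : i ≠ 0) (hj : j ≠ 0)
    (b : BT (ln (line h hij hi hj)) (pts (rr ε i j) (rr ε i 0)))
    (hd : ∃ s ∈ (S : Subgroup G), Acts ε s (Equiv.swap i j)) {z : G} (hz : z ∈ zl (S : Subgroup G) P)
    (hT : ∀ s ∈ (S : Subgroup G) ⊓ NN ε i j, s * z = z * s) :
    ∃ r ∈ pts (rr ε i j) (rr ε i 0) 0,
      ∃ c ∈ centralizer (XX (ln (line h hij hi hj)) (pts (rr ε i j) (rr ε i 0)) : Set G), z = r * c := by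
  have hE := h.split.even
  obtain ⟨s, hs, ha⟩ := hd
  have hsN : s ∈ NN ε i j := by
    rw [mem_NN', rr_conj ha, Equiv.swap_apply_left, Equiv.swap_apply_right, rr_symm hE]
  obtain ⟨v, hv, a, haA, rfl⟩ := h.mul_eq hz
  obtain ⟨x, rfl⟩ := hE.surj a haA
  have h1 := hT s ⟨hs, hsN⟩
  have h2 := h.V0_comm hv (h.par.le hs)
  have h3 : s * ε x = ε x * s := by
    apply mul_left_cancel (a := v)
    calc v * (s * ε x) = (s * v) * ε x := by rw [h2]; group
      _ = s * (v * ε x) := by group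
      _ = v * (ε x * s) := by rw [h1]; group
  have hxij : x i = x j := by
    by_contra hne
    have h4 := (acts_swap' hE ha x).2 hne
    rw [h3, mul_inv_cancel_right] at h4
    exact rr_ne_one hE h.three hij (left_eq_mul.1 h4)
  by_cases hx0 : x i = x 0
  · exact ⟨1, one_mem _, v * ε x, cen_X h hij hi hj b hv hx0 (hxij ▸ hx0), by rw [one_mul]⟩
  · refine ⟨rr ε i j, ((line h hij hi hj).mem_pts).2 (Or.inr rfl),
      v * ε (x + (Pi.single i 1 + Pi.single j 1)), cen_X h hij hi hj b hv ?_ ?_, ?_⟩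
    · have hz2 : ∀ a b : ZMod 2, a ≠ b → a + 1 = b := by decide
      rw [Pi.add_apply, Pi.add_apply, Pi.add_apply, Pi.add_apply, Pi.single_eq_same,
        Pi.single_eq_of_ne hij, Pi.single_eq_of_ne hi.symm, Pi.single_eq_of_ne hj.symm, add_zero, add_zero, add_zero]
      exact hz2 _ _ hx0
    · have hz2 : ∀ a b : ZMod 2, a ≠ b → a + 1 = b := by decide
      rw [Pi.add_apply, Pi.add_apply, Pi.add_apply, Pi.add_apply, Pi.single_eq_same,
        Pi.single_eq_of_ne hij.symm, Pi.single_eq_of_ne hi.symm, Pi.single_eq_of_ne hj.symm, add_zero, add_zero,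
        zero_add]
      exact hz2 _ _ (hxij ▸ hx0)
    · have hr : rr ε i j = ε (Pi.single i 1 + Pi.single j 1) := by rw [hE.add]; rfl
      rw [hE.add, ← hr]
      have hrV : rr ε i j ∈ zl (S : Subgroup G) P := h.split.A_le (rr_mem hE i j)
      have h5 := h.V_comm hrV hz
      calc v * ε x = v * ε x * (rr ε i j * rr ε i j) := by rw [rr_sq hE, mul_one]
        _ = (v * ε x * rr ε i j) * rr ε i j := by group
        _ = rr ε i j * (v * ε x) * rr ε i j := by rw [h5]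
        _ = rr ε i j * (v * (ε x * rr ε i j)) := by group

/-- **the instance of (I)** -/
theorem inst (b : Base S P m A ε i j T) (hP : Part A ε i j)
    (hs : ¬ 2 ∣ T.relIndex (NN ε i j ⊓ normalizer (ln (line b.sit b.ij b.i0 b.j0) : Set G))) (hF : LemF S P ε i j) :
    LI (zl (S : Subgroup G) P) (ln (line b.sit b.ij b.i0 b.j0)) (o2 P) ((S : Subgroup G) ⊓ NN ε i j) T
      (pts (rr ε i j) (rr ε i 0)) 0 where
  toBT := bt b.sit b.ij b.i0 b.j0 hP
  card_R := (line b.sit b.ij b.i0 b.j0).card_pts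
  T_p := b.p
  T_R := by rw [norm_pt b.sit b.ij b.i0 b.j0]; exact b.leN
  T_L := b.nrm
  T_odd := by rw [norm_pt b.sit b.ij b.i0 b.j0]; exact hs
  T_le := b.le
  Q_T := le_inf b.sit.o2_le_S fun q hq => mem_NN.2
    ((mem_zc.1 (b.sit.V_le_zc (b.sit.split.A_le (rr_mem b.sit.split.even i j)))).2.1 q hq)
  Q_cen := fun g hg => b.sit.mem_o2_of_cent fun q hq => (mem_centralizer_iff.1 hg q hq).symm
  zcQ := b.sit.omega_one b.mov
  L_le := (line_le b.sit b.ij b.i0 b.j0).trans b.sit.split.A_le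
  QV' := by
    intro g hg v hv
    have hg' : g ∈ o2 (NN ε i j) := by rw [← norm_pt b.sit b.ij b.i0 b.j0]; exact hg
    rw [(line b.sit b.ij b.i0 b.j0).mem_pts]
    rcases b.sit.conj_V b.ij hg' hv with e | e
    · left; rw [e, mul_inv_cancel]
    · right
      rw [e, b.sit.V_comm hv (b.sit.split.A_le (rr_mem b.sit.split.even i j)), mul_inv_cancel_right]
      rfl
  F := by
    intro t ht s hs0 h1 h2
    rw [norm_pt b.sit b.ij b.i0 b.j0] at ht
    exact lemF_pt b.sit b.ij b.i0 b.j0 hF ht hs0 h1 h2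
  char2 := b.sit.c2
  Q_p := o2_isPGroup _
  QN := by
    intro s g hg
    obtain ⟨a, c, d, hac, -, -, e, -⟩ := dd_cases b.sit b.ij b.i0 b.j0 s
    have hg' : g ∈ o2 (NN ε a c) := by rw [← norm_pt' b.sit b.ij b.i0 b.j0 e]; exact hg
    exact le_normalizer_o2 P (b.sit.o2_le_P hac hg')
  VQ := by
    intro s v hv
    obtain ⟨a, c, d, hac, -, -, e, -⟩ := dd_cases b.sit b.ij b.i0 b.j0 s
    have h1 := b.sit.V_le hac hv
    rw [← norm_pt' b.sit b.ij b.i0 b.j0 e] at h1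
    exact h1
  Q_syl := odd_Q b.sit
  G' := by
    intro x hx hc s hs0 hxs
    have hL := line b.sit b.ij b.i0 b.j0
    have hE := b.sit.split.even
    by_contra hne
    obtain ⟨v, hv, hv1⟩ : ∃ v ∈ zl (S : Subgroup G) P, x * v * x⁻¹ ≠ v := by
      by_contra hno
      push Not at hno
      exact hne (mem_centralizer_iff.2 fun v hv => (mul_inv_eq_iff_eq_mul.1 (hno v hv)).symm)
    have hmov : Exit.Dua.Mov ε := by
      intro a c hac
      obtain ⟨w, hw, h1⟩ := b.sit.mov b.mov hac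
      exact ⟨w, b.sit.fac.ww b.sit.c2 b.sit.three hac hw, h1⟩
    obtain ⟨a, c, hac, e, hacts⟩ := Exit.Dua.Sit.transv b.sit hmov hx (c := rr ε i j) (fun w hw => by
      rcases (hL.mem_pts).1 (hc w hw) with e | e
      · left
        calc x * w * x⁻¹ = x * w * x⁻¹ * w⁻¹ * w := by group
          _ = w := by rw [e, one_mul]
      · right
        rw [b.sit.V_comm hw (b.sit.split.A_le (rr_mem hE i j))]
        calc x * w * x⁻¹ = x * w * x⁻¹ * w⁻¹ * w := by group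
          _ = rr ε i j * w := by rw [e]; rfl) ⟨v, hv, hv1⟩
    have h5 : 5 ≤ 2 ^ m + 1 := Exit.Dua.Sit.five b.sit
    have hact : Acts ε x (Equiv.swap i j) := by
      rcases Exit.Tr.pair_eq hE h5 b.ij e with ⟨rfl, rfl⟩ | ⟨rfl, rfl⟩
      · exact hacts
      · rw [Equiv.swap_comm]; exact hacts
    -- `x` moves the point `s`
    have h6 : x * dd (rr ε i j) (rr ε i 0) s * x⁻¹ = dd (rr ε i j) (rr ε i 0) s := by
      have h7 := (hL.mem_pts).1 (conj_mem_of_normalizer hxs ((hL.mem_pts).2 (Or.inr rfl)))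
      rcases h7 with h7 | h7
      · exact absurd (conj_eq_one_iff.1 h7) (hL.dd_ne s)
      · exact h7
    have h8 : ∀ k, k = i ∨ k = j → x * rr ε k 0 * x⁻¹ ≠ rr ε k 0 := by
      intro k hk h9
      rw [rr_conj hact, Equiv.swap_apply_of_ne_of_ne b.i0.symm b.j0.symm] at h9
      rcases hk with rfl | rfl
      · rw [Equiv.swap_apply_left] at h9
        refine rr_ne_one hE b.sit.three b.ij ?_
        rw [← rr_add hE _ 0 j, rr_symm hE 0 j, h9, rr_sq hE]
      · rw [Equiv.swap_apply_right] at h9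
        refine rr_ne_one hE b.sit.three b.ij ?_
        rw [← rr_add hE _ 0 k, rr_symm hE 0 k, h9, rr_sq hE]
    fin_cases s
    · exact hs0 rfl
    · exact h8 i (Or.inl rfl) h6
    · refine h8 j (Or.inr rfl) ?_
      rw [← dd_two b.sit i j]
      exact h6
  spl := fun z hz hT => split_T b.sit b.ij b.i0 b.j0 (bt b.sit b.ij b.i0 b.j0 hP) b.duad hz hT

/-- **(loc')** -/
theorem loc (b : Base S P m A ε i j T) (hP : Part A ε i j)
    (hs : ¬ 2 ∣ T.relIndex (NN ε i j ⊓ normalizer (ln (line b.sit b.ij b.i0 b.j0) : Set G))) (hF : LemF S P ε i j)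
    {M : Subgroup G} (hT : T ≤ M) (hX : XX (ln (line b.sit b.ij b.i0 b.j0)) (pts (rr ε i j) (rr ε i 0)) ≤ M) :
    o2 M ≤ T ∧ o2 M ≤ centralizer (ln (line b.sit b.ij b.i0 b.j0) : Set G) :=
  (inst b hP hs hF).toLD.loc hT hX

/-- **(I)** `T` is Sylow in `C_G(r_ij)` -/
theorem odd_of (b : Base S P m A ε i j T) (hP : Part A ε i j)
    (hs : ¬ 2 ∣ T.relIndex (NN ε i j ⊓ normalizer (ln (line b.sit b.ij b.i0 b.j0) : Set G))) (hF : LemF S P ε i j)
    (hcv : cv (S : Subgroup G) P ≠ ⊥) : ¬ 2 ∣ T.relIndex (NN ε i j) := by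
  rw [← norm_pt b.sit b.ij b.i0 b.j0]
  refine (inst b hP hs hF).odd S ?_
  rw [b.sit.split.card_zc b.sit.c2 b.sit.par (by have := b.sit.m2; omega)]
  have h1 : 1 < Nat.card (cv (S : Subgroup G) P) := by
    rw [one_lt_card_iff_ne_bot]
    exact hcv
  omega

/-- **the frame `Fr`** -/
theorem exists_fr (h : Sit S P m A ε) (hm : 3 ≤ m) (hij : i ≠ j) (hi : i ≠ 0) (hj : j ≠ 0)
    (hd : ∃ s ∈ (S : Subgroup G), Acts ε s (Equiv.swap i j))
    (hmov : ∃ i j, i ≠ j ∧ ∃ g ∈ WP ε i j, ¬ g ∈ centralizer (A : Set G)) (hP : Part A ε i j) (hF : LemF S P ε i j)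
    (hcv : cv (S : Subgroup G) P ≠ ⊥) : ∃ T, Fr S P m A ε i j T := by
  have hE := h.split.even
  have hL := line h hij hi hj
  have hle : (S : Subgroup G) ⊓ NN ε i j ≤ NN ε i j ⊓ normalizer (ln (line h hij hi hj) : Set G) := by
    rintro s ⟨hs, hsN⟩
    refine ⟨hsN, mem_normalizer_of_conj ?_⟩
    obtain ⟨σ, hσ⟩ := hE.perm s (h.par.le hs)
    have h0 := h.split.fix0 s hs σ hσ
    have hsr := mem_NN'.1 hsN
    have h1 : s * rr ε i 0 * s⁻¹ ∈ ln (line h hij hi hj) := by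
      rw [rr_conj hσ, h0]
      have h2 := hsr
      rw [rr_conj hσ] at h2
      rcases Exit.Tr.pair_eq hE (Exit.Dua.Sit.five h) hij h2.symm with ⟨e, -⟩ | ⟨e, -⟩
      · rw [e]; exact hL.dd_mem 1
      · rw [e, ← dd_two h i j]; exact hL.dd_mem 2
    rintro x (rfl | ⟨k, rfl⟩)
    · rw [mul_one, mul_inv_cancel]; exact one_mem _
    · fin_cases k
      · change s * rr ε i j * s⁻¹ ∈ _
        rw [hsr]
        exact hL.dd_mem 0
      · exact h1
      · change s * (rr ε i j * rr ε i 0) * s⁻¹ ∈ _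
        have e : s * (rr ε i j * rr ε i 0) * s⁻¹ = (s * rr ε i j * s⁻¹) * (s * rr ε i 0 * s⁻¹) := by group
        rw [e, hsr]
        exact mul_mem (hL.dd_mem 0) h1
  obtain ⟨T, h1, h2, h3, h4⟩ := HT.exists_syl (S.isPGroup'.to_le inf_le_left) hle
  have b : Base S P m A ε i j T := ⟨h, hm, hij, hi, hj, hd, hmov, h1, h2.trans inf_le_left, h2.trans inf_le_right, h3⟩
  exact ⟨T, b, hP, odd_of b hP h4 hF hcv⟩

end Cfsg.Agent.Omega.F4Leaf.Syl.Inst

end

-- merged: Cfsg.Agent.Mrg.Omega.F4Leaf.Syl.Def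
section

section


/-!
# LeafF4, `m ≥ 2`, `V₀ ≠ 1` (#21183 of helper758): the line `V_l` and a Sylow group `T₁` of `C_G(12) ∩ N_G(V_l)`

* `VL ε i j = {1, r_ij, r_i0, r_j0}`, `XL ε i j = ⟨O₂(C(r_ij)), O₂(C(r_i0)), O₂(C(r_j0))⟩`;
* `Ln S P m A ε i j` : `Pos.Sit`, a `WP`-element moving `A`, `i, j ≠ 0`, `S ∩ C(r_ij)` is Sylow in `P ∩ C(r_ij)`;
* `Tn S P m A ε i j T₁` : `T₁ ≥ S ∩ C(r_ij)` is a Sylow 2-subgroup of `C_G(r_ij) ∩ N_G(V_l)`;
* `absorb` : a 2-group of `C` normalising the Sylow group `T` of `C` is in `T`;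
* `Ln.only0` : `S ∩ C(r_ij)` fixes only the label `0` outside `{i, j}`.
-/

set_option autoImplicit false
set_option linter.dupNamespace false

namespace Cfsg.Agent.Omega.F4Leaf.Syl

open Subgroup Pointwise Cfsg Cfsg.Agent Cfsg.Agent.Omega.MinPar
open Cfsg.Agent.ZN (o2 zc zl)
open Cfsg.Agent.Omega.FrameFF (cv Single Free)
open Cfsg.Agent.Omega.S5.Def Cfsg.Agent.Omega.S5.Syl Cfsg.Agent.Omega.F4Leaf.Def
open Cfsg.Agent.Omega.NSix.Base Cfsg.Agent.Omega.NSix.Basic Cfsg.Agent.Omega.F4Leaf.Pos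
open Cfsg.Agent.Omega.NSix.Zero (WP mem_WP WP_norm WP_conj zpow_cases)
open Cfsg.Agent.Omega.F4Leaf.Exit.Tr Cfsg.Agent.Omega.F4Leaf.Exit.Dua
open Cfsg.Agent.MinSimple.VModule (o2_isPGroup o2_le le_o2 le_normalizer_o2 le_normalizer_zl o2_le_of_sylow mem_zc)

universe u

variable {G : Type u} [Group G]

/-- the line `{1, r_ij, r_i0, r_j0}` -/
def VL {m : ℕ} (ε : (Fin (2 ^ m + 1) → ZMod 2) → G) (i j : Fin (2 ^ m + 1)) : Subgroup G :=
  closure {rr ε i j, rr ε i 0}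

/-- `⟨O₂(C(r_ij)), O₂(C(r_i0)), O₂(C(r_j0))⟩` -/
def XL {m : ℕ} (ε : (Fin (2 ^ m + 1) → ZMod 2) → G) (i j : Fin (2 ^ m + 1)) : Subgroup G :=
  o2 (NN ε i j) ⊔ o2 (NN ε i 0) ⊔ o2 (NN ε j 0)

section line

variable {m : ℕ} {ε : (Fin (2 ^ m + 1) → ZMod 2) → G} {i j : Fin (2 ^ m + 1)}

theorem rr_mem_VL : rr ε i j ∈ VL ε i j := subset_closure (Or.inl rfl)

theorem ri_mem_VL : rr ε i 0 ∈ VL ε i j := subset_closure (Or.inr rfl)

theorem rj_mem_VL {V L : Subgroup G} (hE : EvenSet (2 ^ m + 1) V L ε) : rr ε j 0 ∈ VL ε i j := by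
  have h1 : rr ε i j * rr ε i 0 = rr ε j 0 := by rw [rr_symm hE i j, rr_add hE]
  rw [← h1]
  exact mul_mem rr_mem_VL ri_mem_VL

theorem mem_VL {V L : Subgroup G} (hE : EvenSet (2 ^ m + 1) V L ε) {g : G} :
    g ∈ VL ε i j ↔ g = 1 ∨ g = rr ε i j ∨ g = rr ε i 0 ∨ g = rr ε j 0 := by
  constructor
  · intro hg
    have c1 : rr ε i j * rr ε i 0 = rr ε j 0 := by rw [rr_symm hE i j, rr_add hE]
    have c2 : rr ε i 0 * rr ε i j = rr ε j 0 := by rw [hE.comm_mem (rr_mem hE i 0) (rr_mem hE i j), c1]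
    have c3 : rr ε i j * rr ε j 0 = rr ε i 0 := rr_add hE i j 0
    have c4 : rr ε j 0 * rr ε i j = rr ε i 0 := by rw [hE.comm_mem (rr_mem hE j 0) (rr_mem hE i j), c3]
    have c5 : rr ε i 0 * rr ε j 0 = rr ε i j := by rw [rr_symm hE j 0, rr_add hE]
    have c6 : rr ε j 0 * rr ε i 0 = rr ε i j := by rw [hE.comm_mem (rr_mem hE j 0) (rr_mem hE i 0), c5]
    unfold VL at hg
    induction hg using closure_induction with
    | mem x hx =>
      rcases hx with rfl | rfl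
      · exact Or.inr (Or.inl rfl)
      · exact Or.inr (Or.inr (Or.inl rfl))
    | one => exact Or.inl rfl
    | mul x y _ _ hx hy =>
      rcases hx with rfl | rfl | rfl | rfl <;> rcases hy with rfl | rfl | rfl | rfl <;>
        simp [c1, c2, c3, c4, c5, c6, rr_sq hE]
    | inv x _ hx =>
      rcases hx with rfl | rfl | rfl | rfl <;> simp [rr_inv hE]
  · rintro (rfl | rfl | rfl | rfl)
    · exact one_mem _
    · exact rr_mem_VL
    · exact ri_mem_VL
    · exact rj_mem_VL hE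

theorem VL_le {V L : Subgroup G} (hE : EvenSet (2 ^ m + 1) V L ε) : VL ε i j ≤ V := by
  unfold VL
  rw [closure_le]
  rintro x (rfl | rfl)
  · exact rr_mem hE _ _
  · exact rr_mem hE _ _

end line

/-- The position: `ij` is a pair off `0` and `S ∩ C(r_ij)` is Sylow in `P ∩ C(r_ij)`. -/
structure Ln [Finite G] (S : Sylow 2 G) (P : Subgroup G) (m : ℕ) (A : Subgroup G)
    (ε : (Fin (2 ^ m + 1) → ZMod 2) → G) (i j : Fin (2 ^ m + 1)) : Prop where
  sit : Sit S P m A ε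
  wp : ∃ i j, i ≠ j ∧ ∃ g ∈ WP ε i j, ¬ g ∈ centralizer (A : Set G)
  ij : i ≠ j
  i0 : i ≠ 0
  j0 : j ≠ 0
  odd : ¬ 2 ∣ ((S : Subgroup G) ⊓ NN ε i j).relIndex (P ⊓ NN ε i j)

/-- `T₁ ≥ S ∩ C(r_ij)` is a Sylow 2-subgroup of `C_G(r_ij) ∩ N_G(V_l)`. -/
structure Tn [Finite G] (S : Sylow 2 G) (P : Subgroup G) (m : ℕ) (A : Subgroup G)
    (ε : (Fin (2 ^ m + 1) → ZMod 2) → G) (i j : Fin (2 ^ m + 1)) (T₁ : Subgroup G) : Prop where
  ln : Ln S P m A ε i j
  TT : (S : Subgroup G) ⊓ NN ε i j ≤ T₁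
  two : IsPGroup 2 T₁
  le : T₁ ≤ NN ε i j
  nrm : T₁ ≤ normalizer (VL ε i j : Set G)
  syl : ¬ 2 ∣ T₁.relIndex (NN ε i j ⊓ normalizer (VL ε i j : Set G))

/-- A 2-subgroup of `C` normalising the Sylow 2-subgroup `T` of `C` is in `T`. -/
theorem absorb [Finite G] {T X C : Subgroup G} (hT : IsPGroup 2 T) (hX : IsPGroup 2 X) (hi : ¬ 2 ∣ T.relIndex C)
    (hTC : T ≤ C) (hXC : X ≤ C) (hn : X ≤ normalizer (T : Set G)) : X ≤ T := by
  have hf : Fact (Nat.Prime 2) := ⟨Nat.prime_two⟩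
  have h1 : IsPGroup 2 (X ⊔ T : Subgroup G) := hX.to_sup_of_normal_right' hT hn
  have h2 : X ⊔ T ≤ C := sup_le hXC hTC
  have h3 : ¬ 2 ∣ T.relIndex (X ⊔ T) := by
    intro h4
    apply hi
    have h5 : T.relIndex (X ⊔ T) * (X ⊔ T).relIndex C = T.relIndex C := relIndex_mul_relIndex _ _ _ le_sup_right h2
    rw [← h5]
    exact dvd_mul_of_dvd_left h4 _
  obtain ⟨k, hk⟩ := IsPGroup.iff_card.1 h1
  have h4 : T.relIndex (X ⊔ T) ∣ 2 ^ k := by
    rw [← hk]
    exact relIndex_dvd_card T (X ⊔ T)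
  obtain ⟨l, -, hl⟩ := (Nat.dvd_prime_pow Nat.prime_two).1 h4
  have h5 : l = 0 := by
    by_contra h6
    apply h3
    rw [hl]
    exact dvd_pow_self 2 h6
  rw [h5, pow_zero, relIndex_eq_one] at hl
  exact le_sup_left.trans hl

namespace Ln

variable [Finite G] {S : Sylow 2 G} {P : Subgroup G} {m : ℕ} {A : Subgroup G}
  {ε : (Fin (2 ^ m + 1) → ZMod 2) → G} {i j : Fin (2 ^ m + 1)} (h : Ln S P m A ε i j)
include h

theorem mov : Mov ε := by
  intro k l hkl
  obtain ⟨w, hw, hs⟩ := h.sit.mov h.wp hkl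
  exact ⟨w, h.sit.fac.ww h.sit.c2 h.sit.three hkl hw, hs⟩

theorem five : 5 ≤ 2 ^ m + 1 := Sit.five h.sit

/-- `O₂(P) ≤ S ∩ C(r_ij)` -/
theorem o2_le_T : o2 P ≤ (S : Subgroup G) ⊓ NN ε i j := by
  refine le_inf h.sit.o2_le_S fun q hq => mem_NN.mpr ?_
  have h1 := h.sit.V_le_zc (h.sit.split.A_le (rr_mem h.sit.split.even i j))
  exact (mem_zc.mp h1).2.1 q hq

/-- `S ∩ C(r_ij)` fixes only the label `0` outside `{i, j}`. -/
theorem only0 {l : Fin (2 ^ m + 1)} (hi : l ≠ i) (hj : l ≠ j)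
    (hl : ∀ s ∈ (S : Subgroup G) ⊓ NN ε i j, ∀ σ : Equiv.Perm (Fin (2 ^ m + 1)), Acts ε s σ → σ l = l) : l = 0 := by
  by_contra hl0
  have hE := h.sit.split.even
  have hn := h.sit.three
  let T : Subgroup G := (S : Subgroup G) ⊓ NN ε i j
  let C : Subgroup G := P ⊓ NN ε i j
  let φ : ↥C →* Equiv.Perm (Fin (2 ^ m + 1)) := (hE.hom hn).comp (Subgroup.inclusion inf_le_left)
  have hφ : ∀ c : C, Acts ε (c : G) (φ c) := fun c => hE.acts_hom hn (Subgroup.inclusion inf_le_left c)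
  have hT : ∀ c ∈ T.subgroupOf C, φ c l = l ∧ φ c 0 = 0 := by
    intro c hc
    have hc' : (c : G) ∈ T := hc
    exact ⟨hl c hc' _ (hφ c), h.sit.split.fix0 c hc'.1 _ (hφ c)⟩
  let R := φ.range
  let ψ : ↥C →* ↥R := φ.rangeRestrict
  let T' : Subgroup ↥R := (T.subgroupOf C).map ψ
  have h1 : ¬ 2 ∣ T'.index := fun h2 => h.odd (h2.trans (index_map_dvd _ φ.rangeRestrict_surjective))
  -- the transposition
  obtain ⟨g, hg, hσ⟩ := hE.full (Equiv.swap l 0)
  have hgN : g ∈ NN ε i j := by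
    rw [mem_NN', rr_conj hσ, Equiv.swap_apply_of_ne_of_ne hi.symm h.i0, Equiv.swap_apply_of_ne_of_ne hj.symm h.j0]
  have hgφ : φ ⟨g, hg, hgN⟩ = Equiv.swap l 0 := hE.acts_unique hn (hφ ⟨g, hg, hgN⟩) hσ
  let τ : ↥R := ψ ⟨g, hg, hgN⟩
  have hτ : (τ : Equiv.Perm (Fin (2 ^ m + 1))) = Equiv.swap l 0 := hgφ
  have hτ2 : τ * τ = 1 := by
    apply Subtype.ext
    change (τ : Equiv.Perm (Fin (2 ^ m + 1))) * (τ : Equiv.Perm (Fin (2 ^ m + 1))) = 1
    rw [hτ, Equiv.swap_mul_self]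
  have hcomm : ∀ x ∈ T', τ * x * τ⁻¹ = x := by
    rintro _ ⟨c, hc, rfl⟩
    apply Subtype.ext
    change (τ : Equiv.Perm (Fin (2 ^ m + 1))) * φ c * (τ : Equiv.Perm (Fin (2 ^ m + 1)))⁻¹ = φ c
    rw [hτ, mul_inv_eq_iff_eq_mul]
    obtain ⟨h2, h3⟩ := hT c hc
    have h4 := Equiv.mul_swap_eq_swap_mul (φ c) l 0
    rw [h2, h3] at h4
    exact h4.symm
  have h2 : zpowers τ ≤ T' := by
    refine absorb (C := ⊤) ?_ ?_ ?_ le_top le_top ?_
    · have h3 : IsPGroup 2 T := S.isPGroup'.to_le inf_le_left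
      have h4 : IsPGroup 2 (T.subgroupOf C) := h3.comap_of_injective C.subtype Subtype.val_injective
      exact h4.map ψ
    · rw [IsPGroup.iff_card]
      have h3 : orderOf τ ∣ 2 ^ 1 := orderOf_dvd_of_pow_eq_one (by rw [pow_one, pow_two, hτ2])
      obtain ⟨k, -, hk⟩ := (Nat.dvd_prime_pow Nat.prime_two).1 h3
      exact ⟨k, by rw [Nat.card_zpowers, hk]⟩
    · rwa [relIndex_top_right]
    · rw [zpowers_le, mem_normalizer_iff]
      intro x
      constructor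
      · intro hx
        rw [hcomm x hx]
        exact hx
      · intro hx
        have h3 := hcomm _ hx
        have h4 : x = τ * x * τ⁻¹ := by
          have h5 : τ⁻¹ = τ := inv_eq_of_mul_eq_one_left hτ2
          rw [h5] at h3 ⊢
          calc x = τ * τ * x * (τ * τ) := by rw [hτ2, one_mul, mul_one]
            _ = τ * (τ * x * τ) * τ := by group
            _ = _ := h3
        rw [h4]
        exact hx
  obtain ⟨c, hc, hcτ⟩ := h2 (mem_zpowers τ)
  have h3 : φ c = Equiv.swap l 0 := by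
    have := congrArg Subtype.val hcτ
    exact this.trans hτ
  have h4 := (hT c hc).1
  rw [h3, Equiv.swap_apply_left] at h4
  exact hl0 h4.symm

end Ln

end Cfsg.Agent.Omega.F4Leaf.Syl

end

section


/-!
# LeafF4, `m ≥ 2`: LEMMA F of #21183 (helper758)

`lemF` : `t ∈ C(r_ij)`, `f = t r_i0 t⁻¹ ∈ V` and `[f, S ∩ C(r_ij)] ≤ ⟨r_ij⟩` imply `f ∈ {r_i0, r_j0}`.
-/

set_option autoImplicit false
set_option linter.dupNamespace false

namespace Cfsg.Agent.Omega.F4Leaf.Syl.LemF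

open Subgroup Pointwise Cfsg Cfsg.Agent Cfsg.Agent.Omega.MinPar
open Cfsg.Agent.ZN (o2 zc zl)
open Cfsg.Agent.Omega.FrameFF (cv Single Free)
open Cfsg.Agent.Omega.S5.Def Cfsg.Agent.Omega.S5.Syl Cfsg.Agent.Omega.F4Leaf.Def
open Cfsg.Agent.Omega.NSix.Base Cfsg.Agent.Omega.NSix.Basic Cfsg.Agent.Omega.F4Leaf.Pos
open Cfsg.Agent.Omega.NSix.Zero (WP mem_WP WP_norm WP_conj zpow_cases)
open Cfsg.Agent.Omega.F4Leaf.Exit.Tr Cfsg.Agent.Omega.F4Leaf.Exit.Dua
open Cfsg.Agent.MinSimple.VModule (o2_isPGroup o2_le le_o2 le_normalizer_o2 le_normalizer_zl o2_le_of_sylow mem_zc)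

universe u

variable {G : Type u} [Group G] [Finite G] {S : Sylow 2 G} {P : Subgroup G} {m : ℕ} {A : Subgroup G}
  {ε : (Fin (2 ^ m + 1) → ZMod 2) → G} {i j : Fin (2 ^ m + 1)}

/-- the elements of `V` moved by `y` at most by `f` -/
def D (h : Sit S P m A ε) {f : G} (hf : f ∈ zl (S : Subgroup G) P) (y : G) (_hy : y * f = f * y) : Subgroup G where
  carrier := {v | v ∈ zl (S : Subgroup G) P ∧ (y * v * y⁻¹ = v ∨ y * v * y⁻¹ = v * f)}
  one_mem' := ⟨one_mem _, Or.inl (by group)⟩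
  mul_mem' := by
    rintro a b ⟨ha, ha'⟩ ⟨hb, hb'⟩
    have hff : f * f = 1 := by rw [← pow_two]; exact h.V_sq hf
    have e : y * (a * b) * y⁻¹ = (y * a * y⁻¹) * (y * b * y⁻¹) := by group
    refine ⟨mul_mem ha hb, ?_⟩
    rw [e]
    rcases ha' with h1 | h1 <;> rcases hb' with h2 | h2 <;> rw [h1, h2]
    · exact Or.inl rfl
    · exact Or.inr (mul_assoc _ _ _).symm
    · right
      rw [mul_assoc, ← h.V_comm hb hf, ← mul_assoc]
    · left
      calc a * f * (b * f) = a * (f * b) * f := by group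
        _ = a * (b * f) * f := by rw [h.V_comm hf hb]
        _ = a * b * (f * f) := by group
        _ = a * b := by rw [hff, mul_one]
  inv_mem' := by
    rintro a ⟨ha, ha'⟩
    have haa : a * a = 1 := by rw [← pow_two]; exact h.V_sq ha
    have : a⁻¹ = a := inv_eq_of_mul_eq_one_left haa
    rw [Set.mem_ofPred_eq, this]
    exact ⟨ha, ha'⟩

/-- **LEMMA F**, general form -/
theorem lemF_of (hs : Sit S P m A ε) (hw : Mov ε) (hij : i ≠ j) (hi0 : i ≠ 0) (hj0 : j ≠ 0)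
    (honly : ∀ l, l ≠ i → l ≠ j → (∀ s ∈ (S : Subgroup G) ⊓ NN ε i j, ∀ σ : Equiv.Perm (Fin (2 ^ m + 1)),
      Acts ε s σ → σ l = l) → l = 0) {t : G} (ht : t ∈ NN ε i j) (hf : t * rr ε i 0 * t⁻¹ ∈ zl (S : Subgroup G) P)
    (hT : ∀ s ∈ (S : Subgroup G) ⊓ NN ε i j, s * (t * rr ε i 0 * t⁻¹) * s⁻¹ = t * rr ε i 0 * t⁻¹ ∨
      s * (t * rr ε i 0 * t⁻¹) * s⁻¹ = t * rr ε i 0 * t⁻¹ * rr ε i j) :
    t * rr ε i 0 * t⁻¹ = rr ε i 0 ∨ t * rr ε i 0 * t⁻¹ = rr ε j 0 := by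
  classical
  have hE := hs.split.even
  have hn := hs.three
  have five := Sit.five hs
  set f : G := t * rr ε i 0 * t⁻¹ with hfdef
  obtain ⟨v, hv, a, ha, hva⟩ := hs.mul_eq hf
  obtain ⟨x, rfl⟩ := hE.surj a ha
  have hff : f * f = 1 := by rw [← pow_two]; exact hs.V_sq hf
  -- (1) the group `O₂(C(f))` moves `n = r_ij` by `f`
  have hnt : t * rr ε i j * t⁻¹ = rr ε i j := mem_NN'.mp ht
  have hQn : ∀ y ∈ o2 (centralizer ({f} : Set G)), y * rr ε i j * y⁻¹ = rr ε i j ∨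
      y * rr ε i j * y⁻¹ = rr ε i j * f := by
    intro y hy
    have h1 : t⁻¹ * y * t ∈ o2 (NN ε i 0) := pull hy
    have e : y * rr ε i j * y⁻¹ = t * (t⁻¹ * y * t * rr ε i j * (t⁻¹ * y * t)⁻¹) * t⁻¹ := by
      calc y * rr ε i j * y⁻¹ = y * (t * rr ε i j * t⁻¹) * y⁻¹ := by rw [hnt]
        _ = _ := by group
    have hn' : rr ε i j ∈ zl (S : Subgroup G) P := hs.split.A_le (rr_mem hE i j)
    rcases hs.conj_V hi0 h1 hn' with h2 | h2
    · left
      rw [e, h2, hnt]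
    · right
      rw [e, h2]
      calc t * (rr ε i j * rr ε i 0) * t⁻¹ = (t * rr ε i j * t⁻¹) * (t * rr ε i 0 * t⁻¹) := by group
        _ = _ := by rw [hnt]
  have hQmov : ∃ y ∈ o2 (centralizer ({f} : Set G)), y * rr ε i j * y⁻¹ ≠ rr ε i j := by
    obtain ⟨w, hw1, hw2⟩ := hw i 0 hi0
    refine ⟨t * w * t⁻¹, push hw1, fun h1 => ?_⟩
    have h2 : w * rr ε i j * w⁻¹ = rr ε i j := by
      have e : t * w * t⁻¹ * rr ε i j * (t * w * t⁻¹)⁻¹ = t * (w * rr ε i j * w⁻¹) * t⁻¹ := by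
        calc t * w * t⁻¹ * rr ε i j * (t * w * t⁻¹)⁻¹
            = t * w * t⁻¹ * (t * rr ε i j * t⁻¹) * (t * w * t⁻¹)⁻¹ := by rw [hnt]
          _ = _ := by group
      rw [e] at h1
      have h3 : t * (w * rr ε i j * w⁻¹) * t⁻¹ = t * rr ε i j * t⁻¹ := by rw [h1, hnt]
      exact mul_left_cancel (mul_right_cancel h3)
    rw [rr_conj hw2, Equiv.swap_apply_left, Equiv.swap_apply_of_ne_of_ne hij.symm hj0] at h2
    rcases pair_eq hE five (i := i) (j := j) hij h2.symm with h3 | h3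
    · exact hi0 h3.1.symm
    · exact hj0 h3.1.symm
  -- (2) `x i ≠ x j`
  have hxij : x i ≠ x j := by
    intro h1
    have h2 := (Sit.move_iff hs hw hij hv x).mpr h1
    -- conjugate back
    have h3 : ∀ y ∈ o2 (NN ε i j), y * rr ε i 0 * y⁻¹ = rr ε i 0 := by
      intro y hy
      have hy' : t * y * t⁻¹ ∈ o2 (NN ε i j) := norm_conj (le_normalizer_o2 _ ht) hy
      have h4 := h2 _ hy'
      rw [← hva] at h4
      have e : t * y * t⁻¹ * f * (t * y * t⁻¹)⁻¹ = t * (y * rr ε i 0 * y⁻¹) * t⁻¹ := by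
        rw [hfdef]
        group
      rw [e] at h4
      exact mul_left_cancel (mul_right_cancel h4)
    obtain ⟨w, hw1, hw2⟩ := hw i j hij
    have h4 := h3 w hw1
    rw [rr_conj hw2, Equiv.swap_apply_left, Equiv.swap_apply_of_ne_of_ne hi0.symm hj0.symm] at h4
    rcases pair_eq hE five (i := i) (j := 0) hi0 h4.symm with h5 | h5
    · exact hij h5.1.symm
    · exact hi0 h5.2.symm
  -- (3) crossing pairs
  have hcen : ∀ y ∈ o2 (centralizer ({f} : Set G)), y * f = f * y := fun y hy =>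
    mem_centralizer_singleton_iff.mp (o2_le _ hy)
  have hcross : ∀ k l, x k ≠ x l → ∀ y ∈ o2 (centralizer ({f} : Set G)),
      y * rr ε k l * y⁻¹ = rr ε k l ∨ y * rr ε k l * y⁻¹ = rr ε k l * f := by
    -- with fixed orientation
    have key : ∀ k l, x i = x k → x j = x l → ∀ y ∈ o2 (centralizer ({f} : Set G)),
        y * rr ε k l * y⁻¹ = rr ε k l ∨ y * rr ε k l * y⁻¹ = rr ε k l * f := by
      intro k l hik hjl y hy
      have hil : i ≠ l := by
        rintro rfl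
        exact hxij hjl.symm
      have hjk : j ≠ k := by
        rintro rfl
        exact hxij hik
      have hkl : k ≠ l := by
        rintro rfl
        exact hxij (hik.trans hjl.symm)
      let σ : Equiv.Perm (Fin (2 ^ m + 1)) := Equiv.swap i k * Equiv.swap j l
      obtain ⟨c, hc, hcσ⟩ := hE.full σ
      have hσi : σ i = k := by
        change Equiv.swap i k (Equiv.swap j l i) = k
        rw [Equiv.swap_apply_of_ne_of_ne hij hil, Equiv.swap_apply_left]
      have hσj : σ j = l := by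
        change Equiv.swap i k (Equiv.swap j l j) = l
        rw [Equiv.swap_apply_left, Equiv.swap_apply_of_ne_of_ne hil.symm hkl.symm]
      have hxσ : x ∘ σ.symm = x := by
        have hsw : ∀ a b, x a = x b → ∀ c, x (Equiv.swap a b c) = x c := by
          intro a b hab c
          by_cases h1 : c = a
          · rw [h1, Equiv.swap_apply_left, hab]
          · by_cases h2 : c = b
            · rw [h2, Equiv.swap_apply_right, hab]
            · rw [Equiv.swap_apply_of_ne_of_ne h1 h2]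
        have h1 : ∀ c, x (σ c) = x c := by
          intro c
          change x (Equiv.swap i k (Equiv.swap j l c)) = x c
          rw [hsw i k hik, hsw j l hjl]
        funext c
        rw [Function.comp_apply, ← h1 (σ.symm c), Equiv.apply_symm_apply]
      have hcf : c * f * c⁻¹ = f := by
        rw [hva]
        calc c * (v * ε x) * c⁻¹ = c * v * ε x * c⁻¹ := by group
          _ = v * c * ε x * c⁻¹ := by rw [hs.V0_comm hv hc]
          _ = v * (c * ε x * c⁻¹) := by group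
          _ = _ := by rw [hcσ x, hxσ]
      have hcC : c ∈ centralizer ({f} : Set G) := by
        rw [mem_centralizer_singleton_iff, ← mul_inv_eq_iff_eq_mul]
        exact hcf
      have hy' : c⁻¹ * y * c ∈ o2 (centralizer ({f} : Set G)) := norm_conj' (le_normalizer_o2 _ hcC) hy
      have e : y * rr ε k l * y⁻¹ = c * (c⁻¹ * y * c * rr ε i j * (c⁻¹ * y * c)⁻¹) * c⁻¹ := by
        have e1 : rr ε k l = c * rr ε i j * c⁻¹ := by rw [rr_conj hcσ, hσi, hσj]
        rw [e1]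
        group
      rcases hQn _ hy' with h1 | h1
      · left
        rw [e, h1, rr_conj hcσ, hσi, hσj]
      · right
        rw [e, h1]
        calc c * (rr ε i j * f) * c⁻¹ = (c * rr ε i j * c⁻¹) * (c * f * c⁻¹) := by group
          _ = _ := by rw [rr_conj hcσ, hσi, hσj, hcf]
    intro k l hkl y hy
    have h01 : ∀ a b c : ZMod 2, a ≠ b → c = a ∨ c = b := by decide
    rcases h01 _ _ (x k) hxij with h1 | h1
    · rcases h01 _ _ (x l) hxij with h2 | h2
      · exact absurd (h1.trans h2.symm) hkl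
      · exact key k l h1.symm h2.symm y hy
    · rcases h01 _ _ (x l) hxij with h2 | h2
      · rw [rr_symm hE k l]
        exact key l k h2.symm h1.symm y hy
      · exact absurd (h1.trans h2.symm) hkl
  -- (4) all pairs, all of `A`
  have hAD : ∀ y, ∀ hy : y ∈ o2 (centralizer ({f} : Set G)), A ≤ D hs hf y (hcen y hy) := by
    intro y hy
    have h1 : ∀ k l, rr ε k l ∈ D hs hf y (hcen y hy) := by
      intro k l
      by_cases hkl : x k = x l
      · -- a third letter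
        obtain ⟨r, hr⟩ : ∃ r, x k ≠ x r := by
          by_cases h2 : x k = x i
          · exact ⟨j, by rw [h2]; exact hxij⟩
          · exact ⟨i, h2⟩
        have h2 : rr ε k l = rr ε k r * rr ε r l := (rr_add hE k r l).symm
        rw [h2]
        refine mul_mem ⟨hs.split.A_le (rr_mem hE _ _), hcross k r hr y hy⟩
          ⟨hs.split.A_le (rr_mem hE _ _), hcross r l (fun h3 => hr (hkl.trans h3.symm)) y hy⟩
      · exact ⟨hs.split.A_le (rr_mem hE _ _), hcross k l hkl y hy⟩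
    intro b hb
    obtain ⟨z, rfl⟩ := hE.surj b hb
    have hodd : (2 ^ m + 1) % 2 = 1 := by
      have hm := hs.m2
      have : 2 ^ m = 2 * 2 ^ (m - 1) := by
        rw [← pow_succ']
        congr 1
        omega
      omega
    have h2 : ∀ s : Finset (Fin (2 ^ m + 1)), ε (∑ i ∈ s, Pi.single i (z i)) ∈ D hs hf y (hcen y hy) := by
      intro s
      induction s using Finset.induction_on with
      | empty =>
        rw [Finset.sum_empty, hE.zero]
        exact one_mem _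
      | insert k s hk ih =>
        rw [Finset.sum_insert hk, hE.add]
        refine mul_mem ?_ ih
        rcases (show ∀ y : ZMod 2, y = 0 ∨ y = 1 by decide) (z k) with h3 | h3
        · rw [h3, Pi.single_zero, hE.zero]
          exact one_mem _
        · rw [h3]
          exact zz_mem_closure hE hodd hn k h1
    have h3 := h2 Finset.univ
    rwa [Finset.univ_sum_single] at h3
  -- (5) `V₁ = A ⟨f⟩`
  let V₁ : Subgroup G :=
    { carrier := {g | g ∈ zl (S : Subgroup G) P ∧ (g ∈ A ∨ g * f ∈ A)}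
      one_mem' := ⟨one_mem _, Or.inl (one_mem _)⟩
      mul_mem' := by
        rintro a b ⟨ha, ha'⟩ ⟨hb, hb'⟩
        refine ⟨mul_mem ha hb, ?_⟩
        rcases ha' with h1 | h1 <;> rcases hb' with h2 | h2
        · exact Or.inl (mul_mem h1 h2)
        · right
          rw [mul_assoc]
          exact mul_mem h1 h2
        · right
          rw [mul_assoc, hs.V_comm hb hf, ← mul_assoc]
          exact mul_mem h1 h2
        · left
          have h3 := mul_mem h1 h2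
          have e : a * f * (b * f) = a * b := by
            calc a * f * (b * f) = a * (f * b) * f := by group
              _ = a * (b * f) * f := by rw [hs.V_comm hf hb]
              _ = a * b * (f * f) := by group
              _ = a * b := by rw [hff, mul_one]
          rwa [e] at h3
      inv_mem' := by
        rintro a ⟨ha, ha'⟩
        have haa : a * a = 1 := by rw [← pow_two]; exact hs.V_sq ha
        have : a⁻¹ = a := inv_eq_of_mul_eq_one_left haa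
        rw [this]
        exact ⟨ha, ha'⟩ }
  have hAV : A ≤ V₁ := fun b hb => ⟨hs.split.A_le hb, Or.inl hb⟩
  have hVV : V₁ ≤ zl (S : Subgroup G) P := fun b hb => hb.1
  have hfV : f ∈ V₁ := ⟨hf, Or.inr (by rw [hff]; exact one_mem _)⟩
  have hVD : ∀ y, ∀ hy : y ∈ o2 (centralizer ({f} : Set G)), V₁ ≤ D hs hf y (hcen y hy) := by
    rintro y hy b ⟨hb, hb' | hb'⟩
    · exact hAD y hy hb'
    · have h1 : f ∈ D hs hf y (hcen y hy) := ⟨hf, Or.inl (by rw [hcen y hy, mul_inv_cancel_right])⟩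
      have h2 := mul_mem (hAD y hy hb') h1
      rwa [mul_assoc, hff, mul_one] at h2
  have hact : ∀ y ∈ o2 (centralizer ({f} : Set G)), ∀ b ∈ V₁, y * b * y⁻¹ = b ∨ y * b * y⁻¹ = b * f :=
    fun y hy b hb => (hVD y hy hb).2
  have hnorm : o2 (centralizer ({f} : Set G)) ≤ normalizer (V₁ : Set G) := by
    have key : ∀ y ∈ o2 (centralizer ({f} : Set G)), ∀ b ∈ V₁, y * b * y⁻¹ ∈ V₁ := by
      intro y hy b hb
      rcases hact y hy b hb with h1 | h1
      · rw [h1]; exact hb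
      · rw [h1]; exact mul_mem hb hfV
    intro y hy
    rw [mem_normalizer_iff]
    refine fun b => ⟨key y hy b, fun hb => ?_⟩
    have h1 := key y⁻¹ (inv_mem hy) _ hb
    have e : y⁻¹ * (y * b * y⁻¹) * y⁻¹⁻¹ = b := by group
    rwa [e] at h1
  -- (6) `f` is a centre on `V₁`
  have hSN : (S : Subgroup G) ≤ normalizer (V₁ : Set G) := TrV.S_le hs hAV hVV
  obtain ⟨g, hg, hgQ⟩ := exists_conj hnorm S.isPGroup' (o2_isPGroup _) (MinSimple.Basic.not_dvd_relIndex S hSN)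
  have hgf : ∀ y ∈ o2 (centralizer ({f} : Set G)), (∃ b ∈ V₁, y * b * y⁻¹ ≠ b) →
      ∃ k l, k ≠ l ∧ g * f * g⁻¹ = rr ε k l ∧ Acts ε (g * y * g⁻¹) (Equiv.swap k l) := by
    rintro y hy ⟨b, hb, hyb⟩
    refine TrV.of_S hs hAV hVV (hgQ y hy) (fun c hc => ?_) ⟨g * b * g⁻¹, norm_conj hg hb, fun h1 => hyb ?_⟩
    · have hc' := norm_conj' hg hc
      have e : g * y * g⁻¹ * c * (g * y * g⁻¹)⁻¹ = g * (y * (g⁻¹ * c * g) * y⁻¹) * g⁻¹ := by group
      rcases hact y hy _ hc' with h1 | h1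
      · left
        rw [e, h1]
        group
      · right
        rw [e, h1]
        group
    · have e : g * y * g⁻¹ * (g * b * g⁻¹) * (g * y * g⁻¹)⁻¹ = g * (y * b * y⁻¹) * g⁻¹ := by group
      rw [e] at h1
      exact mul_left_cancel (mul_right_cancel h1)
  have hTr : Tr V₁ f :=
    { mem := hfV
      norm := hnorm
      act := hact
      mov := by
        obtain ⟨y, hy, h1⟩ := hQmov
        exact ⟨y, hy, _, hAV (rr_mem hE i j), h1⟩
      uni := by
        intro y hy y' hy' h1 h2 b hb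
        obtain ⟨k, l, hkl, e1, a1⟩ := hgf y hy h1
        obtain ⟨k', l', hkl', e2, a2⟩ := hgf y' hy' h2
        have h3 : Equiv.swap k' l' = Equiv.swap k l := by
          rcases pair_eq hE five hkl (e1.symm.trans e2) with h4 | h4
          · rw [h4.1, h4.2]
          · rw [h4.1, h4.2, Equiv.swap_comm]
        rw [h3] at a2
        have key : ∀ y ∈ o2 (centralizer ({f} : Set G)), Acts ε (g * y * g⁻¹) (Equiv.swap k l) →
            ∀ u ∈ cv (S : Subgroup G) P, ∀ z, g * y * g⁻¹ * (u * ε z) * (g * y * g⁻¹)⁻¹ =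
              u * ε (z ∘ (Equiv.swap k l).symm) := by
          intro y hy a1 u hu z
          have h4 : g * y * g⁻¹ * u = u * (g * y * g⁻¹) := hs.V0_comm hu (hs.par.le (hgQ y hy))
          calc g * y * g⁻¹ * (u * ε z) * (g * y * g⁻¹)⁻¹ = g * y * g⁻¹ * u * ε z * (g * y * g⁻¹)⁻¹ := by group
            _ = u * (g * y * g⁻¹) * ε z * (g * y * g⁻¹)⁻¹ := by rw [h4]
            _ = u * (g * y * g⁻¹ * ε z * (g * y * g⁻¹)⁻¹) := by group
            _ = _ := by rw [a1 z]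
        obtain ⟨u, hu, c, hc, h4⟩ := hs.mul_eq (hVV (norm_conj hg hb))
        obtain ⟨z, rfl⟩ := hE.surj c hc
        have h5 : g * y * g⁻¹ * (g * b * g⁻¹) * (g * y * g⁻¹)⁻¹ =
            g * y' * g⁻¹ * (g * b * g⁻¹) * (g * y' * g⁻¹)⁻¹ := by
          rw [h4, key y hy a1 u hu z, key y' hy' a2 u hu z]
        have e : ∀ y : G, g * y * g⁻¹ * (g * b * g⁻¹) * (g * y * g⁻¹)⁻¹ = g * (y * b * y⁻¹) * g⁻¹ := fun y => by
          group
        rw [e, e] at h5
        exact mul_left_cancel (mul_right_cancel h5) }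
  -- (7) `f` is a pair
  obtain ⟨k, l, hkl, hfkl⟩ := TrV.pair_of_tr hs hAV hVV hw hTr
  -- (8) one letter in `{i, j}`
  have hx' : (Pi.single k 1 + Pi.single l 1 : Fin (2 ^ m + 1) → ZMod 2) i ≠
      (Pi.single k 1 + Pi.single l 1 : Fin (2 ^ m + 1) → ZMod 2) j := by
    intro h1
    apply hxij
    rw [← Sit.move_iff hs hw hij hv x, ← hva]
    have h2 := (Sit.move_iff hs hw hij (one_mem (cv (S : Subgroup G) P)) (Pi.single k 1 + Pi.single l 1)).mpr h1
    rw [one_mul, hE.add] at h2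
    rw [hfkl]
    exact h2
  have hfin : ∃ a l, (a = i ∨ a = j) ∧ l ≠ i ∧ l ≠ j ∧ f = rr ε a l := by
    rw [Pi.add_apply, Pi.add_apply] at hx'
    by_cases hki : k = i
    · subst hki
      refine ⟨k, l, Or.inl rfl, hkl.symm, ?_, hfkl⟩
      rintro rfl
      apply hx'
      rw [Pi.single_eq_same, Pi.single_eq_of_ne hkl, Pi.single_eq_of_ne hkl.symm, Pi.single_eq_same, add_zero,
        zero_add]
    · by_cases hkj : k = j
      · subst hkj
        refine ⟨k, l, Or.inr rfl, ?_, hkl.symm, hfkl⟩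
        rintro rfl
        apply hx'
        rw [Pi.single_eq_same, Pi.single_eq_of_ne hkl, Pi.single_eq_of_ne hkl.symm, Pi.single_eq_same, add_zero,
          zero_add]
      · rw [Pi.single_eq_of_ne (Ne.symm hki), Pi.single_eq_of_ne (Ne.symm hkj), zero_add, zero_add] at hx'
        by_cases hli : l = i
        · subst hli
          exact ⟨l, k, Or.inl rfl, hki, hkj, by rw [hfkl, rr_symm hE]⟩
        · by_cases hlj : l = j
          · subst hlj
            exact ⟨l, k, Or.inr rfl, hki, hkj, by rw [hfkl, rr_symm hE]⟩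
          · exfalso
            apply hx'
            rw [Pi.single_eq_of_ne (Ne.symm hli), Pi.single_eq_of_ne (Ne.symm hlj)]
  obtain ⟨a, l, ha', hli, hlj, hfa⟩ := hfin
  have hal : a ≠ l := by
    rintro rfl
    rcases ha' with h1 | h1
    · exact hli h1
    · exact hlj h1
  have hl0 : l = 0 := by
    refine honly l hli hlj fun s hs' σ hσ => ?_
    have hsN : rr ε (σ i) (σ j) = rr ε i j := by
      rw [← rr_conj hσ]
      exact mem_NN'.mp hs'.2
    have hσij : (σ i = i ∧ σ j = j) ∨ (σ i = j ∧ σ j = i) := pair_eq hE five hij hsN.symm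
    have hσl : σ l ≠ i ∧ σ l ≠ j := by
      rcases hσij with h1 | h1
      · exact ⟨fun h2 => hli (σ.injective (h2.trans h1.1.symm)), fun h2 => hlj (σ.injective (h2.trans h1.2.symm))⟩
      · exact ⟨fun h2 => hlj (σ.injective (h2.trans h1.2.symm)), fun h2 => hli (σ.injective (h2.trans h1.1.symm))⟩
    have hσla : σ l ≠ a := by
      rcases ha' with h1 | h1
      · rw [h1]; exact hσl.1
      · rw [h1]; exact hσl.2
    have h1 := hT s hs'
    rw [hfa, rr_conj hσ] at h1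
    rcases h1 with h1 | h1
    · rcases pair_eq hE five hal h1.symm with h2 | h2
      · exact h2.2
      · exact absurd h2.2 hσla
    · obtain ⟨a', ha'', hal', h3⟩ : ∃ a', (a' = i ∨ a' = j) ∧ a' ≠ l ∧ rr ε a l * rr ε i j = rr ε a' l := by
        rcases ha' with h2 | h2
        · refine ⟨j, Or.inr rfl, hlj.symm, ?_⟩
          rw [h2, hE.comm_mem (rr_mem hE i l) (rr_mem hE i j), rr_symm hE i j, rr_add hE]
        · refine ⟨i, Or.inl rfl, hli.symm, ?_⟩
          rw [h2, hE.comm_mem (rr_mem hE j l) (rr_mem hE i j), rr_add hE]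
      rw [h3] at h1
      rcases pair_eq hE five hal' h1.symm with h4 | h4
      · exact h4.2
      · exfalso
        rcases ha'' with h5 | h5
        · exact hσl.1 (h4.2.trans h5)
        · exact hσl.2 (h4.2.trans h5)
  rw [hl0] at hfa
  rcases ha' with h1 | h1
  · left
    rw [hfa, h1]
  · right
    rw [hfa, h1]

/-- **LEMMA F** -/
theorem lemF (h : Ln S P m A ε i j) {t : G} (ht : t ∈ NN ε i j) (hf : t * rr ε i 0 * t⁻¹ ∈ zl (S : Subgroup G) P)
    (hT : ∀ s ∈ (S : Subgroup G) ⊓ NN ε i j, s * (t * rr ε i 0 * t⁻¹) * s⁻¹ = t * rr ε i 0 * t⁻¹ ∨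
      s * (t * rr ε i 0 * t⁻¹) * s⁻¹ = t * rr ε i 0 * t⁻¹ * rr ε i j) :
    t * rr ε i 0 * t⁻¹ = rr ε i 0 ∨ t * rr ε i 0 * t⁻¹ = rr ε j 0 :=
  lemF_of h.sit h.mov h.ij h.i0 h.j0 (fun _ hi hj hl => h.only0 hi hj hl) ht hf hT

/-- a transposition `(i j)` in `S` -/
theorem only0_of (hs : Sit S P m A ε) (hij : i ≠ j) (hi0 : i ≠ 0) (hj0 : j ≠ 0)
    (hd : ∃ s ∈ (S : Subgroup G), Acts ε s (Equiv.swap i j)) (l : Fin (2 ^ m + 1)) (hli : l ≠ i) (hlj : l ≠ j)
    (hl : ∀ s ∈ (S : Subgroup G) ⊓ NN ε i j, ∀ σ : Equiv.Perm (Fin (2 ^ m + 1)), Acts ε s σ → σ l = l) : l = 0 := by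
  by_contra hl0
  have hE := hs.split.even
  obtain ⟨u, hu, hu'⟩ := hd
  obtain ⟨s, hs', σ, hσ, hσi⟩ := S5.Syl.trans (by have := hs.m2; omega) hE hs.par.le hs.hS2 hs.split.fix0 hi0 hl0
  have h1 : s * u * s⁻¹ ∈ (S : Subgroup G) := mul_mem (mul_mem hs' hu) (inv_mem hs')
  have h2 : Acts ε (s * u * s⁻¹) (Equiv.swap l (σ j)) := by
    have h3 := hσ.conj hu'
    have e : σ * Equiv.swap i j * σ⁻¹ = Equiv.swap l (σ j) := by
      rw [← hσi, Equiv.swap_apply_apply]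
    rwa [e] at h3
  have hlσ : l ≠ σ j := by
    rw [← hσi]
    exact fun h3 => hij (σ.injective h3)
  -- no 3-cycle in `S`
  have no3 : ∀ a b c : Fin (2 ^ m + 1), a ≠ b → a ≠ c → b ≠ c → ∀ x ∈ (S : Subgroup G), ∀ y ∈ (S : Subgroup G),
      Acts ε x (Equiv.swap a b) → Acts ε y (Equiv.swap a c) → False := by
    intro a b c hab hac hbc x hx y hy hx' hy'
    have h3 := hx'.mul hy'
    obtain ⟨k, hk⟩ := S.isPGroup' ⟨x * y, mul_mem hx hy⟩
    have h4 : (x * y) ^ 2 ^ k = 1 := congrArg Subtype.val hk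
    have hpow : ∀ n : ℕ, Acts ε ((x * y) ^ n) ((Equiv.swap a b * Equiv.swap a c) ^ n) := by
      intro n
      induction n with
      | zero => rw [pow_zero, pow_zero]; exact Acts.one
      | succ n ih => rw [pow_succ, pow_succ]; exact ih.mul h3
    have h5 := hpow (2 ^ k)
    rw [h4] at h5
    have h6 : (Equiv.swap a b * Equiv.swap a c) ^ 2 ^ k = 1 := (hE.acts_unique hs.three h5 Acts.one)
    have h10 := (Equiv.Perm.isThreeCycle_swap_mul_swap_same hab hac hbc).orderOf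
    have h8 : Nat.Coprime 3 (2 ^ k) := Nat.Coprime.pow_right k (by norm_num)
    have h9 := orderOf_dvd_of_pow_eq_one h6
    rw [h10] at h9
    have h11 := Nat.Coprime.eq_one_of_dvd h8 h9
    omega
  have hji : σ j ≠ i := by
    intro h3
    rw [h3] at h2
    rw [Equiv.swap_comm] at h2
    exact no3 i l j hli.symm hij hlj _ h1 _ hu h2 hu'
  have hjj : σ j ≠ j := by
    intro h3
    rw [h3, Equiv.swap_comm] at h2
    rw [Equiv.swap_comm] at hu'
    exact no3 j l i hlj.symm hij.symm hli _ h1 _ hu h2 hu'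
  have hN : s * u * s⁻¹ ∈ NN ε i j := by
    rw [mem_NN', rr_conj h2, Equiv.swap_apply_of_ne_of_ne hli.symm hji.symm,
      Equiv.swap_apply_of_ne_of_ne hlj.symm hjj.symm]
  have h3 := hl _ ⟨h1, hN⟩ _ h2
  rw [Equiv.swap_apply_left] at h3
  exact hlσ h3.symm

/-- **LEMMA F**, from a transposition `(i j)` of `S` (literal `Inst.LemF` of helper628) -/
theorem lemF_duad (hs : Sit S P m A ε) (hwp : ∃ i j, i ≠ j ∧ ∃ g ∈ WP ε i j, ¬ g ∈ centralizer (A : Set G))
    (hij : i ≠ j) (hi0 : i ≠ 0) (hj0 : j ≠ 0) (hd : ∃ s ∈ (S : Subgroup G), Acts ε s (Equiv.swap i j)) :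
    ∀ t ∈ NN ε i j, t * rr ε i 0 * t⁻¹ ∈ zl (S : Subgroup G) P →
      (∀ s ∈ (S : Subgroup G) ⊓ NN ε i j, s * (t * rr ε i 0 * t⁻¹) * s⁻¹ = t * rr ε i 0 * t⁻¹ ∨
        s * (t * rr ε i 0 * t⁻¹) * s⁻¹ = t * rr ε i 0 * t⁻¹ * rr ε i j) →
      t * rr ε i 0 * t⁻¹ = rr ε i 0 ∨ t * rr ε i 0 * t⁻¹ = rr ε j 0 := by
  intro t ht hf hT
  have hw : Mov ε := by
    intro k l hkl
    obtain ⟨w, hw, hs'⟩ := hs.mov hwp hkl
    exact ⟨w, hs.fac.ww hs.c2 hs.three hkl hw, hs'⟩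
  exact lemF_of hs hw hij hi0 hj0 (only0_of hs hij hi0 hj0 hd) ht hf hT

end Cfsg.Agent.Omega.F4Leaf.Syl.LemF

end

end

-- merged: Cfsg.Agent.Mrg.Omega.F4Leaf.Syl.Plug
section

section


/-!
# LeafF4: `HasFr` (helper628's `exists_fr` and helper758's LEMMA F), and the T-T pairs

* `hasFr : Main.HasFr`; `tt_big`, `tt_known` : the T-T pairs from `PosExit`; `leaf_of`, `leaf_of_end`.
-/

set_option autoImplicit false

namespace Cfsg.Agent.Omega.F4Leaf.Syl.Plug

open Subgroup Cfsg Cfsg.Agent.ZN Cfsg.Agent.Omega.MinPar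
open Cfsg.Agent.Omega.Frame Cfsg.Agent.Omega.FFThm
open Cfsg.Agent.Omega.FrameLE (AllIn)
open Cfsg.Agent.Omega.FrameFF (cv Single Free)
open Cfsg.Agent.Omega.FrameMulti (IsSym IsNat Typed AllTyped NoWr LeafF4)
open Cfsg.Agent.Omega.S5.Def
open Cfsg.Agent.Omega.NSix.Base Cfsg.Agent.Omega.NSix.Basic
open Cfsg.Agent.Omega.F4Leaf.Cen.Main (PosExit)

universe u

/-- **`HasFr`** -/
theorem hasFr : Main.HasFr.{u} := by
  intro G _ _ S P m A ε hs hm hcv i j hij hi hj hd hw hM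
  have hE := hs.split.even
  have hmov : ∃ i j, i ≠ j ∧ ∃ g ∈ NSix.Zero.WP ε i j, ¬ g ∈ centralizer (A : Set G) := by
    obtain ⟨w, hw, ha⟩ := hw
    exact ⟨i, j, hij, w, hw, fun h0 =>
      hij (Equiv.swap_eq_one_iff.mp (hE.acts_unique hs.three (hE.acts_one_iff.mpr h0) ha).symm)⟩
  have hP : TSyl.Part A ε i j := by
    obtain ⟨h, hh, hne⟩ := hM
    exact ⟨h, hh, _, rr_mem hE i 0, _, rr_mem hE i 0, hne⟩
  exact Inst.exists_fr hs hm hij hi hj hd hmov hP (LemF.lemF_duad hs hmov hij hi hj hd) hcv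

/-- **Two members of type `S_{2^m+1}`, `S_{2^m'+1}` of a mutual pair, not free.** -/
theorem tt_known (hX : PosExit.{u}) (G : Type u) [Group G] [Finite G] (hG : Ctx G) (S : Sylow 2 G)
    (hF : Full (S : Subgroup G)) (hI : AllIn (S : Subgroup G))
    (hT : AllTyped (S : Subgroup G)) (P₁ P₂ : Subgroup G) (x : G) (hm : Mutual (S : Subgroup G) P₁ P₂ x)
    (hnf : ¬ (Free (S : Subgroup G) P₁ ∧ Free (S : Subgroup G) P₂)) (m m' : ℕ) (hm2 : 2 ≤ m) (hm2' : 2 ≤ m')
    (hS : IsSym (S : Subgroup G) P₁ 1 m) (hS' : IsSym (S : Subgroup G) P₂ 1 m') : IsKnownSimple' G :=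
  Main.tt_known hX hasFr G hG S hF hI hT P₁ P₂ x hm hnf m m' hm2 hm2' hS hS'

theorem leaf_of {K : Cls.{u}} (hX : PosExit.{u}) (h2 : Main.NonAbNat.{u}) : LeafF4 K := Main.leaf hX hasFr h2

theorem leaf_of_end {K : Cls.{u}} (hX : PosExit.{u}) (h2 : Main.EndNat.{u}) : LeafF4 K :=
  Main.leaf_of_end hX hasFr h2

end Cfsg.Agent.Omega.F4Leaf.Syl.Plug

end

section


/-!
# LeafF4, `n = r_ij` 2-central: the natural member `R` over `S` (helper778, bb OMEGA #21087, #21183, #21366)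

* `TOne S ε i j T₁` : `T₁` is a Sylow 2-subgroup of `N = C_G(r_ij)`, it contains `C_S(r_ij)` and permutes
  `{r_i0, r_j0}` (helper758: (I));
* `ExG S P n c R k` : `Cen.Ex` for any `n`, `c`;
* `exists_exG` : `Sit`, type `T`, `V₀ ≠ 1`, `TOne`, `|G : N|` odd imply `ExG S P r_ij r_i0 R k` for some `R`, `k`;
* `ExG.nonFree_nat`, `ExG.nonFree_tt` : the mutual pairs; `known_nat`, `known_tt`, `known_self` : `G` is known.
-/

set_option autoImplicit false
set_option linter.dupNamespace false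
set_option linter.unusedSectionVars false

namespace Cfsg.Agent.Omega.F4Leaf.Syl.EndC

open Subgroup Pointwise Cfsg Cfsg.Agent Cfsg.Agent.Omega.MinPar
open Cfsg.Agent.ZN (o2 zc zl)
open Cfsg.Agent.ZN.ChoiceBase (cj mem_cj)
open Cfsg.Agent.Omega.Frame Cfsg.Agent.Omega.FFThm
open Cfsg.Agent.Omega.FrameLE (AllIn)
open Cfsg.Agent.Omega.FrameFF (cv Single Free)
open Cfsg.Agent.Omega.FrameMulti (IsSym IsNat Typed AllTyped)
open Cfsg.Agent.Omega.HOne.Main (NonFree)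
open Cfsg.Agent.Omega.S5.Def Cfsg.Agent.Omega.S5.Syl Cfsg.Agent.Omega.F4Leaf.Def
open Cfsg.Agent.Omega.F4Leaf.Pos Cfsg.Agent.Omega.F4Leaf.Facts
open Cfsg.Agent.Omega.NSix.Base Cfsg.Agent.Omega.NSix.Basic
open Cfsg.Agent.Omega.NSix.Zero (WP mem_WP WP_norm WP_conj)
open Cfsg.Agent.Omega.F4Leaf.Cen (dbl mem_dbl le_dbl u_mem_dbl dbl_eq_of_lt card_dbl le_normalizer_of)
open Cfsg.Agent.Omega.F4Leaf.Cen.Main (PosExit)
open Cfsg.Agent.Omega.NTwo (cm cc ci comm_iff mem_cent o2_cent_conj o2_cent_conj' mem_csmul csmul_mem)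
open Cfsg.Agent.MinSimple.VModule (o2_isPGroup o2_le le_o2 le_normalizer_o2 o2_le_of_sylow mem_zc zc_le
  le_normalizer_zl zl_comm zl_sq zc_le_zl zl_le normalizer_le_normalizer_zc)

universe u

variable {G : Type u} [Group G]

/-- `T₁` is a Sylow 2-subgroup of `C_G(r_ij)` containing `C_S(r_ij)`, it permutes `{r_i0, r_j0}`. -/
structure TOne [Finite G] (S : Subgroup G) {n : ℕ} [NeZero n] (ε : (Fin n → ZMod 2) → G) (i j : Fin n)
    (T : Subgroup G) : Prop where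
  le : T ≤ NN ε i j
  pg : IsPGroup 2 T
  odd : ¬ 2 ∣ T.relIndex (NN ε i j)
  ge : S ⊓ NN ε i j ≤ T
  line : ∀ t ∈ T, t * rr ε i 0 * t⁻¹ = rr ε i 0 ∨ t * rr ε i 0 * t⁻¹ = rr ε j 0

/-- The natural member `R` found over `S`, in the position of `O₂(C(n))`. -/
structure ExG [Finite G] (S : Sylow 2 G) (P : Subgroup G) (n c : G) (R : Subgroup G) (k : G) : Prop where
  star : IsParS (S : Subgroup G) R
  card : Nat.card (zl (S : Subgroup G) R) = 2 * Nat.card (zc (S : Subgroup G))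
  ne : cv (S : Subgroup G) R ≠ ⊥
  VQ : ∀ x ∈ zl (S : Subgroup G) R, k * x * k⁻¹ ∈ o2 (centralizer {n})
  QS : ∀ q ∈ o2 (centralizer {n}), k⁻¹ * q * k ∈ (S : Subgroup G)
  c_mem : k⁻¹ * c * k ∈ zl (S : Subgroup G) R
  cen : ∀ x ∈ zl (S : Subgroup G) P, (∀ q ∈ o2 (centralizer {n}), q * x = x * q) ∨
    ∀ q ∈ o2 (centralizer {n}), q * (x * c) = x * c * q
  V_Q : zl (S : Subgroup G) P ≤ o2 (centralizer {n})
  c_V : c ∈ zl (S : Subgroup G) P

/-! ### The elements of `V` -/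

section coord

variable [Finite G] {S : Sylow 2 G} {P : Subgroup G} {m : ℕ} {A : Subgroup G}
  {ε : (Fin (2 ^ m + 1) → ZMod 2) → G} (h : Sit S P m A ε) {i j : Fin (2 ^ m + 1)}
include h

theorem comm_of_eq (hij : i ≠ j) {x : Fin (2 ^ m + 1) → ZMod 2} (hx : x i = x j) {q : G}
    (hq : q ∈ o2 (NN ε i j)) : q * ε x = ε x * q := by
  rw [← mul_inv_eq_iff_eq_mul]
  rcases h.acts hij hq with h1 | h1
  · rw [h1 x]; rfl
  · rw [h1 x]
    congr 1
    funext k
    rw [Function.comp, Equiv.symm_swap]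
    by_cases hi : k = i
    · rw [hi, Equiv.swap_apply_left, hx]
    by_cases hj : k = j
    · rw [hj, Equiv.swap_apply_right, hx]
    rw [Equiv.swap_apply_of_ne_of_ne hi hj]

theorem eq_of_comm {w : G} (hw : Acts ε w (Equiv.swap i j)) {x : Fin (2 ^ m + 1) → ZMod 2}
    (hx : w * ε x = ε x * w) : x i = x j := by
  rw [← mul_inv_eq_iff_eq_mul, hw x, h.split.even.eq_iff] at hx
  rcases hx with h1 | h1
  · have h2 := congrFun h1 j
    rw [Function.comp, Equiv.symm_swap, Equiv.swap_apply_right] at h2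
    exact h2
  · exfalso
    have hcard : ({i, j} : Finset (Fin (2 ^ m + 1))).card < (Finset.univ : Finset (Fin (2 ^ m + 1))).card := by
      rw [Finset.card_univ, Fintype.card_fin]
      have := h.three
      exact lt_of_le_of_lt Finset.card_le_two (by omega)
    obtain ⟨k, -, hk⟩ := Finset.exists_mem_notMem_of_card_lt_card hcard
    simp only [Finset.mem_insert, Finset.mem_singleton, not_or] at hk
    have h2 := congrFun h1 k
    rw [Function.comp, Equiv.symm_swap, Equiv.swap_apply_of_ne_of_ne hk.1 hk.2, Pi.add_apply, Pi.one_apply] at h2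
    have h3 : (0 : ZMod 2) = 1 := add_left_cancel (a := x k) (by rw [add_zero]; exact h2)
    exact zero_ne_one h3

theorem rr_V (a b : Fin (2 ^ m + 1)) : rr ε a b ∈ zl (S : Subgroup G) P := h.split.A_le (rr_mem h.split.even a b)

/-- `C_V(O₂(C(r_ij)))` has index 2 in `V` -/
theorem cen_or (hij : i ≠ j) (hi : i ≠ 0) (hj : j ≠ 0) {x : G} (hx : x ∈ zl (S : Subgroup G) P) :
    (∀ q ∈ o2 (NN ε i j), q * x = x * q) ∨ ∀ q ∈ o2 (NN ε i j), q * (x * rr ε i 0) = x * rr ε i 0 * q := by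
  obtain ⟨v, hv, a, ha, rfl⟩ := h.mul_eq hx
  obtain ⟨y, rfl⟩ := h.split.even.surj a ha
  have key : ∀ y' : Fin (2 ^ m + 1) → ZMod 2, y' i = y' j → ∀ q ∈ o2 (NN ε i j), q * (v * ε y') = v * ε y' * q := by
    intro y' hy q hq
    have h1 := h.comm_V0 hij hq hv
    have h2 := comm_of_eq h hij hy hq
    calc q * (v * ε y') = q * v * ε y' := by group
      _ = v * (q * ε y') := by rw [h1]; group
      _ = v * ε y' * q := by rw [h2]; group
  by_cases hy : y i = y j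
  · exact Or.inl (key y hy)
  · right
    have h1 : (y + (Pi.single i 1 + Pi.single 0 1) : Fin (2 ^ m + 1) → ZMod 2) i =
        (y + (Pi.single i 1 + Pi.single 0 1) : Fin (2 ^ m + 1) → ZMod 2) j := by
      rw [Pi.add_apply, Pi.add_apply, Pi.add_apply, Pi.add_apply, Pi.single_eq_same, Pi.single_eq_of_ne hi,
        Pi.single_eq_of_ne hij.symm, Pi.single_eq_of_ne hj, add_zero, add_zero, add_zero]
      revert hy
      generalize y i = a
      generalize y j = b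
      revert a b
      decide
    intro q hq
    have h2 := key _ h1 q hq
    have h3 : v * ε (y + (Pi.single i 1 + Pi.single 0 1)) = v * ε y * rr ε i 0 := by
      rw [h.split.even.add, h.split.even.add, rr, zz, zz, mul_assoc]
    rwa [h3] at h2

end coord

/-! ### The member -/

section main

variable [Finite G] {S : Sylow 2 G} {P : Subgroup G} {m : ℕ} {A : Subgroup G}
  {ε : (Fin (2 ^ m + 1) → ZMod 2) → G} (h : Sit S P m A ε)
  (hN : ∃ i j, i ≠ j ∧ ∃ g ∈ WP ε i j, ¬ g ∈ centralizer (A : Set G)) {i j : Fin (2 ^ m + 1)} {T : Subgroup G}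
include h

theorem o2_le_T (hT : TOne (S : Subgroup G) ε i j T) : o2 P ≤ T := by
  intro q hq
  refine hT.ge ⟨h.o2_le_S hq, mem_NN.2 ?_⟩
  exact ((mem_zc.1 (h.V_le_zc (rr_V h i j))).2.1 q hq)

theorem V_le_T (hT : TOne (S : Subgroup G) ε i j T) : zl (S : Subgroup G) P ≤ T :=
  h.V_le_zc.trans ((zc_le _).trans (o2_le_T h hT))

theorem Q_le_T (hT : TOne (S : Subgroup G) ε i j T) : o2 (NN ε i j) ≤ T := o2_le_of_sylow hT.pg hT.odd

theorem rr_zc (hT : TOne (S : Subgroup G) ε i j T) : rr ε i j ∈ zc T :=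
  mem_zc.2 ⟨V_le_T h hT (rr_V h i j), fun t ht => mem_NN.1 (hT.le ht), by
    rw [pow_two]; exact rr_sq h.split.even i j⟩

/-- the elements of `Ω₁Z(T)` centralised by `O₂(C(r_i0))` -/
def Z0 (T : Subgroup G) (ε : (Fin (2 ^ m + 1) → ZMod 2) → G) (i : Fin (2 ^ m + 1)) : Subgroup G :=
  zc T ⊓ centralizer (o2 (NN ε i 0) : Set G)

theorem rr_mul (i j k : Fin (2 ^ m + 1)) : rr ε i j * rr ε i k = rr ε j k := by
  rw [rr, rr, rr, zz, zz, zz]
  calc ε (Pi.single i 1) * ε (Pi.single j 1) * (ε (Pi.single i 1) * ε (Pi.single k 1))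
      = ε (Pi.single j 1) * (ε (Pi.single i 1) * ε (Pi.single i 1)) * ε (Pi.single k 1) := by
        rw [h.split.even.comm (Pi.single i 1) (Pi.single j 1)]; group
    _ = ε (Pi.single j 1) * ε (Pi.single k 1) := by rw [h.split.even.sq, mul_one]

/-- an element moving `i` to `0` does not fix `r_ij` -/
theorem rr_ne (hi : i ≠ 0) : rr ε i j ≠ rr ε 0 j := by
  intro h0
  have h1 : zz ε i = zz ε 0 := mul_right_cancel h0
  exact hi (h.split.even.single_inj h.three h1)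

include hN

theorem zc_mul (hij : i ≠ j) (hi : i ≠ 0) (hj : j ≠ 0) (hT : TOne (S : Subgroup G) ε i j T) {z : G}
    (hz : z ∈ zc T) : z ∈ Z0 T ε i ∨ z * rr ε i j ∈ Z0 T ε i := by
  have hV := h.zc_le_V hN (o2_le_T h hT) hz
  obtain ⟨w, hw, hws⟩ := h.mov hN hij
  have hwT : w ∈ T := Q_le_T h hT (h.fac.ww h.c2 h.three hij hw)
  have hzw := (mem_zc.1 hz).2.1 w hwT
  obtain ⟨v, hv, a, ha, rfl⟩ := h.mul_eq hV
  obtain ⟨y, rfl⟩ := h.split.even.surj a ha
  have h1 := h.comm_V0 hij (h.fac.ww h.c2 h.three hij hw) hv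
  have h2 : w * ε y = ε y * w := by
    have h3 : v * (w * ε y) = v * (ε y * w) := by
      calc v * (w * ε y) = v * w * ε y := by group
        _ = w * (v * ε y) := by rw [← h1]; group
        _ = v * (ε y * w) := by rw [hzw]; group
    exact mul_left_cancel h3
  have hyij := eq_of_comm h hws h2
  have key : ∀ y' : Fin (2 ^ m + 1) → ZMod 2, y' i = y' 0 → v * ε y' ∈ centralizer (o2 (NN ε i 0) : Set G) := by
    intro y' hy
    refine mem_centralizer_iff.2 fun q hq => ?_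
    have h1 := h.comm_V0 hi hq hv
    have h2 := comm_of_eq h hi hy hq
    calc q * (v * ε y') = q * v * ε y' := by group
      _ = v * (q * ε y') := by rw [h1]; group
      _ = v * ε y' * q := by rw [h2]; group
  by_cases hy : y i = y 0
  · exact Or.inl ⟨hz, key y hy⟩
  · right
    refine ⟨mul_mem hz (rr_zc h hT), ?_⟩
    have h1 : (y + (Pi.single i 1 + Pi.single j 1) : Fin (2 ^ m + 1) → ZMod 2) i =
        (y + (Pi.single i 1 + Pi.single j 1) : Fin (2 ^ m + 1) → ZMod 2) 0 := by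
      rw [Pi.add_apply, Pi.add_apply, Pi.add_apply, Pi.add_apply, Pi.single_eq_same, Pi.single_eq_of_ne hij,
        Pi.single_eq_of_ne hi.symm, Pi.single_eq_of_ne hj.symm, add_zero, add_zero, add_zero]
      revert hy
      generalize y i = a
      generalize y 0 = b
      revert a b
      decide
    have h2 := key _ h1
    have h3 : v * ε (y + (Pi.single i 1 + Pi.single j 1)) = v * ε y * rr ε i j := by
      rw [h.split.even.add, h.split.even.add, rr, zz, zz, mul_assoc]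
    rwa [h3] at h2

/-- **the member over `T`** -/
theorem exists_R (hcv : cv (S : Subgroup G) P ≠ ⊥) (hij : i ≠ j) (hi : i ≠ 0) (hj : j ≠ 0)
    (hT : TOne (S : Subgroup G) ε i j T) (S₁ : Sylow 2 G) (hS₁ : (S₁ : Subgroup G) = T) :
    ∃ R : Subgroup G, IsParS T R ∧ Nat.card (zl T R) = 2 * Nat.card (zc T) ∧ cv T R ≠ ⊥ ∧
      zl T R ≤ zl (S : Subgroup G) P ∧ rr ε i 0 ∈ zl T R := by
  classical
  have hE := h.split.even
  have h3 := h.three
  have hV := h.zc_le_V hN (o2_le_T h hT)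
  obtain ⟨w, hw, hws⟩ := h.mov hN hij
  have hwT : w ∈ T := Q_le_T h hT (h.fac.ww h.c2 h.three hij hw)
  obtain ⟨w0, hw0, hw0s⟩ := h.mov hN hi
  have hw0Q : w0 ∈ o2 (NN ε i 0) := h.fac.ww h.c2 h.three hi hw0
  have hrz := rr_zc h hT
  -- `r_i0`
  have hu : rr ε i 0 * rr ε i 0 = 1 := rr_sq hE i 0
  have hzT : ∀ z ∈ zc T, ∀ t ∈ T, t * z = z * t := fun z hz => (mem_zc.1 hz).2.1
  have hc : ∀ z ∈ zc T, z * rr ε i 0 = rr ε i 0 * z := fun z hz =>
    (hzT z hz _ (V_le_T h hT (rr_V h i 0))).symm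
  have hwr : w * rr ε i 0 * w⁻¹ = rr ε j 0 := by
    rw [rr_conj hws, Equiv.swap_apply_left, Equiv.swap_apply_of_ne_of_ne hi.symm hj.symm]
  have hr0 : rr ε i 0 ∉ zc T := fun h0 => by
    have h1 := comm_iff.2 (hzT _ h0 w hwT)
    rw [hwr] at h1
    exact hij (hE.single_inj h3 (mul_right_cancel h1)).symm
  have hri : rr ε i 0 * rr ε i j = rr ε j 0 := by rw [rr_mul h, rr_symm hE]
  have hrj : rr ε i 0 * rr ε j 0 = rr ε i j := by
    rw [← hri, ← mul_assoc, hu, one_mul]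
  -- `V_s`
  obtain ⟨Vs, hVs⟩ : ∃ Vs : Subgroup G, Vs = dbl (zc T) (rr ε i 0) hu hc := ⟨_, rfl⟩
  have hmem : ∀ {x : G}, x ∈ Vs ↔ x ∈ zc T ∨ x * rr ε i 0 ∈ zc T := fun {x} => by rw [hVs]; exact mem_dbl
  have hzVs : zc T ≤ Vs := fun z hz => hmem.2 (Or.inl hz)
  have huVs : rr ε i 0 ∈ Vs := hmem.2 (Or.inr (by rw [hu]; exact one_mem _))
  have hjVs : rr ε j 0 ∈ Vs := by rw [← hri]; exact mul_mem huVs (hzVs hrz)
  -- the group `X`
  obtain ⟨X, hX⟩ : ∃ X : Subgroup G, X = T ⊔ o2 (NN ε i 0) := ⟨_, rfl⟩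
  have hTX : T ≤ X := hX ▸ le_sup_left
  have key : ∀ {K : Subgroup G}, (∀ x ∈ K, ∀ z ∈ zc T, x * z * x⁻¹ ∈ Vs) → (∀ x ∈ K, x * rr ε i 0 * x⁻¹ ∈ Vs) →
      K ≤ normalizer (Vs : Set G) := by
    intro K h1 h2
    refine le_normalizer_of fun x hx y hy => ?_
    rcases hmem.1 hy with hy | hy
    · exact h1 x hx y hy
    · have e : y = y * rr ε i 0 * rr ε i 0 := by rw [mul_assoc, hu, mul_one]
      rw [e, cm]
      exact mul_mem (h1 x hx _ hy) (h2 x hx)
  have hXn : X ≤ normalizer (Vs : Set G) := by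
    rw [hX]
    refine sup_le (key (fun x hx z hz => ?_) fun x hx => ?_) (key (fun q hq z hz => ?_) fun q hq => ?_)
    · rw [comm_iff.2 (hzT z hz x hx)]
      exact hzVs hz
    · rcases hT.line x hx with h1 | h1
      · rw [h1]; exact huVs
      · rw [h1]; exact hjVs
    · have hqr : q * rr ε i 0 * q⁻¹ = rr ε i 0 := comm_iff.2 (mem_NN.1 (o2_le _ hq))
      rcases zc_mul h hN hij hi hj hT hz with h1 | h1
      · have h2 : q * z = z * q := mem_centralizer_iff.1 h1.2 q hq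
        rw [comm_iff.2 h2]
        exact hzVs hz
      · have h2 : q * (z * rr ε i j) = z * rr ε i j * q := mem_centralizer_iff.1 h1.2 q hq
        have h3 : q * rr ε i j * q⁻¹ = rr ε i j ∨ q * rr ε i j * q⁻¹ = rr ε i j * rr ε i 0 :=
          h.conj_V hi hq (rr_V h i j)
        have hrr : rr ε i j * rr ε i j = 1 := rr_sq hE i j
        have e : z = z * rr ε i j * rr ε i j := by rw [mul_assoc, hrr, mul_one]
        rw [e, cm, comm_iff.2 h2]
        rcases h3 with h3 | h3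
        · rw [h3, ← e]; exact hzVs hz
        · rw [h3, ← mul_assoc, ← e]; exact mul_mem (hzVs hz) huVs
    · rw [comm_iff.2 (mem_NN.1 (o2_le _ hq))]
      exact huVs
  -- `Z_0`
  have hrr0 : rr ε i j ∉ Z0 T ε i := fun h0 => by
    have h1 : w0 * rr ε i j = rr ε i j * w0 := mem_centralizer_iff.1 h0.2 w0 hw0Q
    have h2 := comm_iff.2 h1
    rw [rr_conj hw0s, Equiv.swap_apply_left, Equiv.swap_apply_of_ne_of_ne hij.symm hj] at h2
    exact rr_ne h hi h2.symm
  have hcard : Nat.card (zc T) = Nat.card (zc (S : Subgroup G)) := by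
    obtain ⟨g, hg⟩ := MulAction.exists_smul_eq G S S₁
    have h1 : T = cj g (S : Subgroup G) := by
      rw [← hS₁, ← hg]
      rfl
    rw [h1]
    have h2 : zc (cj g (S : Subgroup G)) = cj g (zc (S : Subgroup G)) := zc_map_equiv (MulAut.conj g) _
    rw [h2]
    exact (Nat.card_congr ((zc (S : Subgroup G)).equivMapOfInjective _ (MulAut.conj g).injective).toEquiv).symm
  obtain ⟨e, he, he1⟩ : ∃ e ∈ Z0 T ε i, e ≠ 1 := by
    by_contra h0
    push Not at h0
    have h1 : ∀ z ∈ zc T, z = 1 ∨ z = rr ε i j := by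
      intro z hz
      rcases zc_mul h hN hij hi hj hT hz with h1 | h1
      · exact Or.inl (h0 z h1)
      · right
        have h2 := h0 _ h1
        rw [mul_eq_one_iff_eq_inv] at h2
        rw [h2]
        exact inv_eq_of_mul_eq_one_left (rr_sq hE i j)
    have h2 : Nat.card (zc T) ≤ 2 := by
      have h3 : (zc T : Set G) ⊆ {1, rr ε i j} := fun z hz => h1 z hz
      have h4 : Nat.card (zc T) = (zc T : Set G).ncard := rfl
      rw [h4]
      exact (Set.ncard_le_ncard h3 (Set.toFinite _)).trans (Set.ncard_insert_le _ _ |>.trans (by simp))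
    have h3 := h.split.card_zc h.c2 h.par (by have := h.m2; omega)
    have h4 : 1 < Nat.card (cv (S : Subgroup G) P) := Subgroup.one_lt_card_iff_ne_bot _ |>.2 hcv
    omega
  have heX : X ≤ centralizer {e} := by
    rw [hX]
    refine sup_le (fun x hx => mem_cent.2 (comm_iff.2 (hzT e he.1 x hx))) fun q hq => mem_cent.2 (comm_iff.2 ?_)
    exact mem_centralizer_iff.1 he.2 q hq
  have hZX : X ≤ centralizer (Z0 T ε i : Set G) := by
    rw [hX]
    refine sup_le (fun x hx => mem_centralizer_iff.2 fun z hz => (hzT z hz.1 x hx).symm)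
      fun q hq => mem_centralizer_iff.2 fun z hz => (mem_centralizer_iff.1 hz.2 q hq).symm
  have hXz : ¬ X ≤ normalizer (zc T : Set G) := by
    intro h0
    have h1 : w0 ∈ X := hX ▸ (le_sup_right : o2 (NN ε i 0) ≤ T ⊔ o2 (NN ε i 0)) hw0Q
    have h2 := (mem_normalizer_iff.1 (h0 h1) _).1 hrz
    rw [rr_conj hw0s, Equiv.swap_apply_left, Equiv.swap_apply_of_ne_of_ne hij.symm hj] at h2
    have h3 : w * rr ε 0 j * w⁻¹ = rr ε 0 i := by
      rw [rr_conj hws, Equiv.swap_apply_right, Equiv.swap_apply_of_ne_of_ne hi.symm hj.symm]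
    have h4 := comm_iff.2 (hzT _ h2 w hwT)
    rw [h3] at h4
    exact hij (hE.single_inj h.three (mul_left_cancel h4))
  -- `R`
  have he2 : e ^ 2 = 1 := (mem_zc.1 he.1).2.2
  have hTe : T ≤ centralizer {e} := hTX.trans heX
  have hloc : IsLoc T X := by
    have h1 := MinPar.isLoc_centralizer S₁ he2 he1 (by rw [hS₁]; exact hTe)
    rw [hS₁] at h1
    have h2 := h1
    rw [← hS₁] at h2
    have h3 := h2.of_le S₁ (by rw [hS₁]; exact hTX) heX
    rwa [hS₁] at h3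
  obtain ⟨R, hR, hRX, hRn⟩ : ∃ R, IsPar T R ∧ R ≤ X ∧ ¬ R ≤ normalizer (zc T : Set G) := by
    have h1 := hloc
    rw [← hS₁] at h1 hXz ⊢
    exact h1.exists_not_le (M := normalizer (zc (S₁ : Subgroup G) : Set G)) S₁
      (inf_le_right.trans (normalizer_le_normalizer_zc _)) hXz
  have hRS : IsParS T R := ⟨hR, hRn⟩
  have hzl : zl T R = Vs := by
    rw [hVs]
    refine dbl_eq_of_lt (zc_le_zl _ _) (by rw [← hVs]; exact zl_le hzVs (hRX.trans hXn)) fun h2 => hRn ?_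
    rw [← h2]
    exact le_normalizer_zl _ _
  refine ⟨R, hRS, ?_, fun h2 => he1 ?_, ?_, ?_⟩
  · rw [hzl, hVs]
    exact card_dbl hr0
  · have h3 : e ∈ cv T R := by
      refine mem_inf.2 ⟨zc_le_zl _ _ he.1, ?_⟩
      have h4 : MinSimple.VModule.oddGen R ≤ centralizer {e} := (MinSimple.VModule.oddGen_le R).trans (hRX.trans heX)
      exact mem_centralizer_iff.2 fun x hx => comm_iff.1 (mem_cent.1 (h4 hx))
    rw [h2] at h3
    exact mem_bot.1 h3
  · rw [hzl]
    intro x hx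
    rcases hmem.1 hx with hx | hx
    · exact hV hx
    · have e1 : x = x * rr ε i 0 * rr ε i 0 := by rw [mul_assoc, hu, mul_one]
      rw [e1]
      exact mul_mem (hV hx) (rr_V h i 0)
  · rw [hzl]
    exact huVs

/-- **(END-C)** the member over `S` -/
theorem exists_exG (hcv : cv (S : Subgroup G) P ≠ ⊥) (hij : i ≠ j) (hi : i ≠ 0) (hj : j ≠ 0)
    (hT : TOne (S : Subgroup G) ε i j T) (hc : ∃ T₀ : Sylow 2 G, (T₀ : Subgroup G) ≤ centralizer {rr ε i j}) :
    ∃ R k, ExG S P (rr ε i j) (rr ε i 0) R k := by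
  have hTi : ¬ 2 ∣ T.index := by
    obtain ⟨T₀, hT₀⟩ := hc
    have h1 : T.relIndex (NN ε i j) * (NN ε i j).index = T.index := relIndex_mul_index hT.le
    rw [← h1]
    intro h2
    rcases (Nat.prime_two.dvd_mul).1 h2 with h3 | h3
    · exact hT.odd h3
    · have h4 : (NN ε i j).index ∣ (T₀ : Subgroup G).index := index_dvd_of_le hT₀
      exact not_dvd T₀ (h3.trans h4)
  have hf : Fact (Nat.Prime 2) := ⟨Nat.prime_two⟩
  obtain ⟨S₁, hS₁⟩ : ∃ S₁ : Sylow 2 G, (S₁ : Subgroup G) = T := ⟨hT.pg.toSylow hTi, rfl⟩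
  obtain ⟨R, hR, hcard, hne, hV, hmem⟩ := exists_R h hN hcv hij hi hj hT S₁ hS₁
  obtain ⟨g, hg⟩ := MulAction.exists_smul_eq G S S₁
  have hTg : T = cj g (S : Subgroup G) := by
    rw [← hS₁, ← hg]
    rfl
  have hS : (S : Subgroup G) = cj g⁻¹ T := by
    ext x
    rw [mem_cj, hTg, mem_cj]
    have e : g⁻¹ * (g⁻¹⁻¹ * x * g⁻¹) * g = x := by group
    rw [e]
  have hzl : zl (S : Subgroup G) (cj g⁻¹ R) = cj g⁻¹ (zl T R) := by
    rw [hS]; exact HOne.NSMain.zl_cj _ _ _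
  have hzc : zc (S : Subgroup G) = cj g⁻¹ (zc T) := by
    rw [hS]; exact zc_map_equiv (MulAut.conj g⁻¹) _
  have hcard' : ∀ K : Subgroup G, Nat.card (cj g⁻¹ K) = Nat.card K := fun K =>
    (Nat.card_congr (K.equivMapOfInjective _ (MulAut.conj g⁻¹).injective).toEquiv).symm
  refine ⟨cj g⁻¹ R, g, ?_, ?_, ?_, ?_, ?_, ?_, ?_, h.V_le hij, rr_V h i 0⟩
  · rw [hS]; exact HOne.NSMain.isParS_cj hR _
  · rw [hzl, hzc, hcard', hcard', hcard]
  · have h1 : cv (S : Subgroup G) (cj g⁻¹ R) = cj g⁻¹ (cv T R) := by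
      rw [hS]; exact HOne.NSMain.cv_cj _ _ _
    rw [h1]
    intro h2
    exact hne ((map_eq_bot_iff_of_injective _ (MulAut.conj g⁻¹).injective).1 h2)
  · intro x hx
    rw [hzl, mem_cj] at hx
    have e : g⁻¹⁻¹ * x * g⁻¹ = g * x * g⁻¹ := by group
    rw [e] at hx
    exact h.V_le hij (hV hx)
  · intro q hq
    have h1 := Q_le_T h hT hq
    rw [hTg, mem_cj] at h1
    exact h1
  · rw [hzl, mem_cj]
    have e : g⁻¹⁻¹ * (g⁻¹ * rr ε i 0 * g) * g⁻¹ = rr ε i 0 := by group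
    rw [e]
    exact hmem
  · exact fun x hx => cen_or h hij hi hj hx

end main

/-! ### Mutual pairs -/

/-- `Cen.Ex` is `ExG` -/
theorem ExG.of_ex [Finite G] {S : Sylow 2 G} {P R : Subgroup G} {p : Fin 5 → G} {k : G} (E : Cen.Ex S P p R k) :
    ExG S P (NTwo.nn p) (p 0 * p 4) R k :=
  ⟨E.star, E.card, E.ne, E.VQ, E.QS, E.c_mem, E.cen, E.V_Q, E.c_V⟩

namespace ExG

variable [Finite G] {S : Sylow 2 G} {P R : Subgroup G} {n c k : G} (E : ExG S P n c R k)
include E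

/-- `V_R^k` and a subgroup `W ≤ O₂(C(n))` normalised by `O₂(C(n))` -/
theorem conj_norm {W : Subgroup G} {x : G}
    (hW : MulAut.conj x • W ≤ o2 (centralizer {n})) (hn : ∀ q ∈ o2 (centralizer {n}), x⁻¹ * q * x ∈ normalizer (W : Set G)) :
    zl (S : Subgroup G) R ≤ normalizer ((MulAut.conj (k⁻¹ * x) • W : Subgroup G) : Set G) ∧
      MulAut.conj (k⁻¹ * x) • W ≤ normalizer (zl (S : Subgroup G) R : Set G) := by
  have hkR : ∀ q ∈ o2 (centralizer {n}), k⁻¹ * q * k ∈ normalizer (zl (S : Subgroup G) R : Set G) := fun q hq =>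
    le_normalizer_zl _ _ (E.star.le (E.QS q hq))
  refine ⟨le_normalizer_of fun y hy z hz => ?_, fun z hz => ?_⟩
  · rw [mem_csmul] at hz ⊢
    have h1 := hn _ (E.VQ y hy)
    have h2 := (mem_normalizer_iff.1 h1 _).1 hz
    have h3 : (k⁻¹ * x)⁻¹ * (y * z * y⁻¹) * (k⁻¹ * x) =
        x⁻¹ * (k * y * k⁻¹) * x * ((k⁻¹ * x)⁻¹ * z * (k⁻¹ * x)) * (x⁻¹ * (k * y * k⁻¹) * x)⁻¹ := by group
    rwa [h3]
  · rw [mem_csmul] at hz
    have h1 : k * z * k⁻¹ ∈ o2 (centralizer {n}) := by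
      apply hW
      rw [mem_csmul]
      have h2 : x⁻¹ * (k * z * k⁻¹) * x = (k⁻¹ * x)⁻¹ * z * (k⁻¹ * x) := by group
      rwa [h2]
    have h2 := hkR _ h1
    have h3 : k⁻¹ * (k * z * k⁻¹) * k = z := by group
    rwa [h3] at h2

/-- natural partner -/
theorem nat {P₂ : Subgroup G} {y : G} (hP₂ : IsParS (S : Subgroup G) P₂)
    (hV : MulAut.conj y • zl (S : Subgroup G) P₂ ≤ o2 (centralizer {n}))
    (hn : y⁻¹ * n * y ∈ zc (S : Subgroup G))
    (hne : ⁅zl (S : Subgroup G) P, MulAut.conj y • zl (S : Subgroup G) P₂⁆ ≠ ⊥) :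
    Mutual (S : Subgroup G) R P₂ (k⁻¹ * y) := by
  obtain ⟨-, hn2, -⟩ := mem_zc.1 hn
  have hSn : (S : Subgroup G) ≤ centralizer {y⁻¹ * n * y} := fun x hx => mem_cent.2 (comm_iff.2 (hn2 x hx))
  have hyn : y * (y⁻¹ * n * y) * y⁻¹ = n := by group
  have h1 : ∀ q ∈ o2 (centralizer {n}), y⁻¹ * q * y ∈ (S : Subgroup G) := fun q hq =>
    o2_le_of_sylow S.isPGroup' (MinSimple.Basic.not_dvd_relIndex S hSn) (o2_cent_conj' hyn hq)
  obtain ⟨h2, h3⟩ := E.conj_norm hV fun q hq => le_normalizer_zl _ _ (hP₂.le (h1 q hq))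
  refine ⟨E.star, hP₂, h2, h3, fun h4 => hne ?_⟩
  rw [commutator_eq_bot_iff_le_centralizer] at h4 ⊢
  -- `c` commutes with `V'`
  have hc : ∀ z ∈ MulAut.conj y • zl (S : Subgroup G) P₂, z * c = c * z := by
    intro z hz
    have h5 : k⁻¹ * z * k ∈ MulAut.conj (k⁻¹ * y) • zl (S : Subgroup G) P₂ := by
      rw [mem_csmul] at hz ⊢
      have h6 : (k⁻¹ * y)⁻¹ * (k⁻¹ * z * k) * (k⁻¹ * y) = y⁻¹ * z * y := by group
      rwa [h6]
    have h6 := mem_centralizer_iff.1 (h4 E.c_mem) _ h5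
    calc z * c = k * (k⁻¹ * z * k * (k⁻¹ * c * k)) * k⁻¹ := by group
      _ = k * (k⁻¹ * c * k * (k⁻¹ * z * k)) * k⁻¹ := by rw [h6]
      _ = c * z := by group
  intro x hx
  refine mem_centralizer_iff.2 fun z hz => ?_
  rcases E.cen x hx with h5 | h5
  · exact h5 z (hV hz)
  · have h6 := h5 z (hV hz)
    have h7 := hc z hz
    have h8 : z * x * c = x * z * c := by
      calc z * x * c = z * (x * c) := by group
        _ = x * (c * z) := by rw [h6]; group
        _ = x * z * c := by rw [← h7]; group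
    exact mul_right_cancel h8

theorem nonFree_nat {P₂ : Subgroup G} {y : G} (hP₂ : IsParS (S : Subgroup G) P₂)
    (hV : MulAut.conj y • zl (S : Subgroup G) P₂ ≤ o2 (centralizer {n}))
    (hn : y⁻¹ * n * y ∈ zc (S : Subgroup G))
    (hne : ⁅zl (S : Subgroup G) P, MulAut.conj y • zl (S : Subgroup G) P₂⁆ ≠ ⊥)
    (hcv : cv (S : Subgroup G) P₂ ≠ ⊥) :
    NonFree (S : Subgroup G) R P₂ (k⁻¹ * y) := ⟨E.nat hP₂ hV hn hne, E.ne, hcv⟩

/-- T-partner -/
theorem tt {P₂ R₂ : Subgroup G} {n₂ c₂ k₂ y : G} (E₂ : ExG S P₂ n₂ c₂ R₂ k₂)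
    (hy : y * n₂ * y⁻¹ = n)
    (hne : ⁅zl (S : Subgroup G) P, MulAut.conj y • zl (S : Subgroup G) P₂⁆ ≠ ⊥) :
    Mutual (S : Subgroup G) R R₂ (k⁻¹ * y * k₂) := by
  have hQ : ∀ q ∈ o2 (centralizer {n₂}), y * q * y⁻¹ ∈ o2 (centralizer {n}) := fun q hq => o2_cent_conj hy hq
  have hQ' : ∀ q ∈ o2 (centralizer {n}), y⁻¹ * q * y ∈ o2 (centralizer {n₂}) := fun q hq => o2_cent_conj' hy hq
  have h0 : MulAut.conj (y * k₂) • zl (S : Subgroup G) R₂ ≤ o2 (centralizer {n}) := by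
    intro z hz
    rw [mem_csmul] at hz
    have h1 := hQ _ (E₂.VQ _ hz)
    have h2 : y * (k₂ * ((y * k₂)⁻¹ * z * (y * k₂)) * k₂⁻¹) * y⁻¹ = z := by group
    rwa [h2] at h1
  obtain ⟨h2, h3⟩ := E.conj_norm (x := y * k₂) h0 fun q hq => by
    have h4 := le_normalizer_zl (S : Subgroup G) R₂ (E₂.star.le (E₂.QS _ (hQ' q hq)))
    have h5 : k₂⁻¹ * (y⁻¹ * q * y) * k₂ = (y * k₂)⁻¹ * q * (y * k₂) := by group
    rwa [h5] at h4
  rw [← mul_assoc] at h2 h3
  refine ⟨E.star, E₂.star, h2, h3, fun h4 => hne ?_⟩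
  rw [commutator_eq_bot_iff_le_centralizer] at h4 ⊢
  -- `c` and `c'` commute
  have hcc : y * c₂ * y⁻¹ * c = c * (y * c₂ * y⁻¹) := by
    have h5 : k⁻¹ * (y * c₂ * y⁻¹) * k ∈ MulAut.conj (k⁻¹ * y * k₂) • zl (S : Subgroup G) R₂ := by
      rw [mem_csmul]
      have h6 : (k⁻¹ * y * k₂)⁻¹ * (k⁻¹ * (y * c₂ * y⁻¹) * k) * (k⁻¹ * y * k₂) =
        k₂⁻¹ * c₂ * k₂ := by group
      rw [h6]
      exact E₂.c_mem
    have h6 := mem_centralizer_iff.1 (h4 E.c_mem) _ h5
    generalize y * c₂ * y⁻¹ = c' at h6 ⊢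
    calc c' * c = k * (k⁻¹ * c' * k * (k⁻¹ * c * k)) * k⁻¹ := by group
      _ = k * (k⁻¹ * c * k * (k⁻¹ * c' * k)) * k⁻¹ := by rw [h6]
      _ = c * c' := by group
  intro x hx
  refine mem_centralizer_iff.2 fun z hz => ?_
  replace hz : z ∈ MulAut.conj y • zl (S : Subgroup G) P₂ := hz
  rw [mem_csmul] at hz
  obtain ⟨x', hx', hzx⟩ : ∃ x' ∈ zl (S : Subgroup G) P₂, z = y * x' * y⁻¹ := ⟨_, hz, by group⟩
  have hzQ : z ∈ o2 (centralizer {n}) := by rw [hzx]; exact hQ _ (E₂.V_Q hx')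
  have hxQ : x ∈ o2 (centralizer {n}) := E.V_Q hx
  have hcQ : c ∈ o2 (centralizer {n}) := E.V_Q E.c_V
  have hcQ' : y * c₂ * y⁻¹ ∈ o2 (centralizer {n}) := hQ _ (E₂.V_Q E₂.c_V)
  -- the centraliser statement for `V'`
  have hcen : (∀ q ∈ o2 (centralizer {n}), q * z = z * q) ∨
      ∀ q ∈ o2 (centralizer {n}), q * (z * (y * c₂ * y⁻¹)) = z * (y * c₂ * y⁻¹) * q := by
    have key : ∀ x' q : G, (y⁻¹ * q * y) * x' = x' * (y⁻¹ * q * y) → q * (y * x' * y⁻¹) = y * x' * y⁻¹ * q := by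
      intro x' q h5
      calc q * (y * x' * y⁻¹) = y * ((y⁻¹ * q * y) * x') * y⁻¹ := by group
        _ = y * (x' * (y⁻¹ * q * y)) * y⁻¹ := by rw [h5]
        _ = y * x' * y⁻¹ * q := by group
    rcases E₂.cen x' hx' with h5 | h5
    · left
      intro q hq
      rw [hzx]
      exact key _ _ (h5 _ (hQ' q hq))
    · right
      intro q hq
      rw [hzx, ← cm]
      exact key _ _ (h5 _ (hQ' q hq))
  revert hcc hcQ' hcen
  generalize y * c₂ * y⁻¹ = c'
  have hcx := E.cen x hx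
  revert hcQ hcx
  intro hcQ hcx hcc hcQ' hcen
  rcases hcx with h5 | h5
  · exact h5 z hzQ
  rcases hcen with h6 | h6
  · exact (h6 x hxQ).symm
  -- `z` commutes with `c`
  have h7 : c * z = z * c := by
    have h8 := h6 c hcQ
    have h9 : c * z * c' = z * c * c' := by
      calc c * z * c' = c * (z * c') := by group
        _ = z * (c' * c) := by rw [h8]; group
        _ = z * c * c' := by rw [hcc]; group
    exact mul_right_cancel h9
  have h8 := h5 z hzQ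
  have h9 : z * x * c = x * z * c := by
    calc z * x * c = z * (x * c) := by group
      _ = x * (c * z) := by rw [h8]; group
      _ = x * z * c := by rw [h7]; group
  exact mul_right_cancel h9

theorem nonFree_tt {P₂ R₂ : Subgroup G} {n₂ c₂ k₂ y : G} (E₂ : ExG S P₂ n₂ c₂ R₂ k₂)
    (hy : y * n₂ * y⁻¹ = n)
    (hne : ⁅zl (S : Subgroup G) P, MulAut.conj y • zl (S : Subgroup G) P₂⁆ ≠ ⊥) :
    NonFree (S : Subgroup G) R R₂ (k⁻¹ * y * k₂) := ⟨E.tt E₂ hy hne, E.ne, E₂.ne⟩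

end ExG

end Cfsg.Agent.Omega.F4Leaf.Syl.EndC

end

section


/-!
# LeafF4, piece E: `n = r_ij` is 2-central (helper778)

* `HasT` : piece A (helper758, helper628): a Sylow 2-subgroup `T₁ ≥ C_S(r_ij)` of `C_G(r_ij)` normalising the line;
* `exists_two` : `ExG` for `m = 2` (from `Cen.Out`), `exists_big` : `ExG` for `m ≥ 3` from `HasT`;
* `endTT : HasT → Main.EndTT`, `endNat : HasT → Main.EndNat`.
-/

set_option autoImplicit false
set_option linter.dupNamespace false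
set_option linter.unusedSectionVars false

namespace Cfsg.Agent.Omega.F4Leaf.Syl.EndCMain

open Subgroup Pointwise Cfsg Cfsg.Agent Cfsg.Agent.Omega.MinPar
open Cfsg.Agent.ZN (o2 zc zl)
open Cfsg.Agent.ZN.ChoiceBase (cj mem_cj)
open Cfsg.Agent.Omega.Frame Cfsg.Agent.Omega.FFThm
open Cfsg.Agent.Omega.FrameLE (AllIn)
open Cfsg.Agent.Omega.FrameFF (cv Single Free)
open Cfsg.Agent.Omega.FrameMulti (IsSym IsNat Typed AllTyped)
open Cfsg.Agent.Omega.HOne.Main (NonFree)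
open Cfsg.Agent.Omega.S5.Def Cfsg.Agent.Omega.S5.Syl Cfsg.Agent.Omega.S5.Pair Cfsg.Agent.Omega.S5.Main
open Cfsg.Agent.Omega.S5.SymBig (H2 pos_symm rr_cj NN_cj)
open Cfsg.Agent.Omega.F4Leaf.Def Cfsg.Agent.Omega.F4Leaf.Main Cfsg.Agent.Omega.F4Leaf.Two
open Cfsg.Agent.Omega.F4Leaf.Pos Cfsg.Agent.Omega.F4Leaf.Facts
open Cfsg.Agent.Omega.NSix.Base Cfsg.Agent.Omega.NSix.Basic
open Cfsg.Agent.Omega.NSix.Zero (WP mem_WP WP_norm WP_conj zpow_cases)
open Cfsg.Agent.Omega.F4Leaf.Cen.Main (PosExit)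
open Cfsg.Agent.Omega.NTwo (nn cm cc ci comm_iff mem_cent mem_smul o2_cent_conj o2_cent_conj' mem_csmul csmul_mem)
open Cfsg.Agent.Omega.F4Leaf.Syl.Main (TwoCen EndTT EndNat)
open Cfsg.Agent.Omega.F4Leaf.Syl.EndC
open Cfsg.Agent.MinSimple.VModule (o2_isPGroup o2_le le_o2 le_normalizer_o2 o2_le_of_sylow mem_zc zc_le
  le_normalizer_zl zl_comm zl_sq zc_le_zl zl_le normalizer_le_normalizer_zc)

universe u

/-- **Piece A** (`m ≥ 3`). -/
def HasT : Prop :=
  ∀ (G : Type u) [Group G] [Finite G] (S : Sylow 2 G) (P : Subgroup G) (m : ℕ) (A : Subgroup G)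
    (ε : (Fin (2 ^ m + 1) → ZMod 2) → G), Pos.Sit S P m A ε → 3 ≤ m → cv (S : Subgroup G) P ≠ ⊥ →
    ∀ i j : Fin (2 ^ m + 1), i ≠ j → (∃ s ∈ (S : Subgroup G), Acts ε s (Equiv.swap i j)) →
      (∃ w ∈ WP ε i j, Acts ε w (Equiv.swap i j)) → ∃ T, TOne (S : Subgroup G) ε i j T

section one

variable {G : Type u} [Group G] [Finite G] {S : Sylow 2 G} {P : Subgroup G}

/-- `m = 2` -/
theorem exists_two {A : Subgroup G} {ε : (Fin (2 ^ 2 + 1) → ZMod 2) → G} (h : Sit S P 2 A ε)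
    {i j : Fin (2 ^ 2 + 1)} (hij : i ≠ j) (hs : ∃ s ∈ (S : Subgroup G), Acts ε s (Equiv.swap i j))
    (hw : ∃ w ∈ WP ε i j, Acts ε w (Equiv.swap i j)) (hc : TwoCen (rr ε i j)) :
    ∃ c R k, ExG S P (rr ε i j) c R k := by
  obtain ⟨b, hb, hbs⟩ := hs
  obtain ⟨w, hw, hws⟩ := hw
  obtain ⟨ρ, hρ0, hρ1, sv⟩ := Cen.Std.exists_sv h.c2 S h.split h.par hij hb hbs
  obtain ⟨p, hp⟩ : ∃ p : Fin 5 → G, p = fun k => ε (Pi.single (M := fun _ : Fin (2 ^ 2 + 1) => ZMod 2) (ρ k) 1) :=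
    ⟨_, rfl⟩
  rw [← hp] at sv
  have hp0 : p 0 = ε (Pi.single i 1) := by rw [hp, ← hρ0]
  have hp1 : p 1 = ε (Pi.single j 1) := by rw [hp, ← hρ1]
  have hn : nn p = rr ε i j := by rw [nn, hp0, hp1]; rfl
  have e0 := hws.single i
  have e1 := hws.single j
  rw [Equiv.swap_apply_left, ← hp0, ← hp1] at e0
  rw [Equiv.swap_apply_right, ← hp0, ← hp1] at e1
  have hN : Cen.NCen p := by
    rw [← hn] at hc
    exact hc
  have hrr : rr ε i j * rr ε i j = 1 := rr_sq h.split.even i j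
  have E : Cen.V.El p w := by
    refine Cen.Entry.el_of h.c2 sv e0 e1 fun q hq => ?_
    rw [hn] at hq ⊢
    have h1 := (mem_WP.1 hw).2 q hq
    have h3 : q * rr ε i j = rr ε i j * q := mem_NN.1 (o2_le _ hq)
    rcases zpow_cases hrr h1 with h2 | h2
    · left
      have h4 : w * q = q * w := by
        calc w * q = w * q * w⁻¹ * q⁻¹ * (q * w) := by group
          _ = q * w := by rw [h2, one_mul]
      rw [← h4, mul_inv_cancel_right]
    · right
      have h4 : w * q = rr ε i j * (q * w) := by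
        calc w * q = w * q * w⁻¹ * q⁻¹ * (q * w) := by group
          _ = rr ε i j * (q * w) := by rw [h2]
      have h5 : q * w = rr ε i j * (w * q) := by rw [h4, ← mul_assoc, hrr, one_mul]
      rw [h5, ← mul_assoc, mul_inv_cancel_right]
  obtain ⟨r, v, w', o⟩ := Cen.V.exists_out h.c2 S sv hN E
  obtain ⟨R, k, E'⟩ := o.exists_ex
  have := ExG.of_ex E'
  rw [hn] at this
  exact ⟨_, R, k, this⟩

/-- any `m ≥ 2` -/
theorem exists_ex (hA : HasT.{u}) {m : ℕ} {A : Subgroup G} {ε : (Fin (2 ^ m + 1) → ZMod 2) → G}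
    (h : Sit S P m A ε) (hcv : cv (S : Subgroup G) P ≠ ⊥)
    {i j : Fin (2 ^ m + 1)} (hij : i ≠ j) (hs : ∃ s ∈ (S : Subgroup G), Acts ε s (Equiv.swap i j))
    (hw : ∃ w ∈ WP ε i j, Acts ε w (Equiv.swap i j)) (hc : TwoCen (rr ε i j)) :
    ∃ c R k, ExG S P (rr ε i j) c R k := by
  by_cases h3 : 3 ≤ m
  · obtain ⟨T, hT⟩ := hA G S P m A ε h h3 hcv i j hij hs hw
    have h0 : ∀ k, Equiv.swap i j k ≠ k → k ≠ 0 := by
      rintro k hk rfl
      obtain ⟨s, hs1, hs2⟩ := hs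
      exact hk (h.split.fix0 s hs1 _ hs2)
    have hi : i ≠ 0 := h0 i (by rw [Equiv.swap_apply_left]; exact hij.symm)
    have hj : j ≠ 0 := h0 j (by rw [Equiv.swap_apply_right]; exact hij)
    have hN : ∃ i j, i ≠ j ∧ ∃ g ∈ WP ε i j, ¬ g ∈ centralizer (A : Set G) := by
      obtain ⟨w, hw1, hw2⟩ := hw
      refine ⟨i, j, hij, w, hw1, fun h1 => hij ?_⟩
      have h2 := h.split.even.acts_one_iff.2 h1
      have h3 := hw2.single i
      have h4 := h2.single i
      rw [Equiv.swap_apply_left] at h3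
      rw [h3] at h4
      exact (h.split.even.single_inj h.three h4).symm
    obtain ⟨R, k, E⟩ := exists_exG h hN hcv hij hi hj hT hc
    exact ⟨_, R, k, E⟩
  · obtain rfl : m = 2 := by have := h.m2; omega
    exact exists_two h hij hs hw hc

end one

/-- **Piece E, T-T** -/
theorem endTT (hA : HasT.{u}) : EndTT.{u} := by
  intro G _ _ hG S hT P₁ P₂ y m m' A ε A₂ ε₂ hm hm' hbig hl hc₁ hc₂ hall
  have hc := hG.char2
  obtain ⟨i, j, k, l, hij, hkl, hr, ⟨b, hb, hb1⟩, -, ⟨a, ha, ha1⟩, -⟩ := exists_common hc hl hm hm'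
  have s₁ : Pos.Sit S P₁ m A ε := ⟨hc, hl.pair.star₁, hm, hl.split⟩
  have s₂ : Pos.Sit S P₂ m' A₂ ε₂ := ⟨hc, hl.pair.star₂, hm', hl.split₂⟩
  have hw := wp_eq hr
  have hbS : b ∈ (S : Subgroup G) := hl.le (map_mono hl.split₂.A_le hb)
  have hbW : b ∈ WP ε i j := by
    rw [hw]
    exact (s₂.fac.conj y).mem_wp hkl hb
  have haS : y⁻¹ * a * y ∈ (S : Subgroup G) := mem_cj.mp (hl.ge (hl.split.A_le ha))
  have haW : y⁻¹ * a * y ∈ WP ε₂ k l := by
    refine Main.wp_cj ?_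
    rw [← hw]
    exact s₁.fac.mem_wp hij ha
  have ha2 : Acts ε₂ (y⁻¹ * a * y) (Equiv.swap k l) := by
    rw [← acts_conj_label_iff y]
    have e : y * (y⁻¹ * a * y) * y⁻¹ = a := by group
    rwa [e]
  have hn₂ : y * rr ε₂ k l * y⁻¹ = rr ε i j := by rw [hr, rr_cj]
  have hc2 : TwoCen (rr ε₂ k l) := by
    have h1 := (hall i j).conj y⁻¹
    have e : y⁻¹ * rr ε i j * y⁻¹⁻¹ = rr ε₂ k l := by rw [← hn₂]; group
    rwa [e] at h1
  obtain ⟨c, R, g, E⟩ := exists_ex hA s₁ hc₁ hij ⟨b, hbS, hb1⟩ ⟨b, hbW, hb1⟩ (hall i j)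
  obtain ⟨c₂, R₂, g₂, E₂⟩ := exists_ex hA s₂ hc₂ hkl ⟨_, haS, ha2⟩ ⟨_, haW, ha2⟩ hc2
  have hne : ⁅zl (S : Subgroup G) P₁, MulAut.conj y • zl (S : Subgroup G) P₂⁆ ≠ ⊥ := by
    have h1 := hl.pair.ne
    exact h1
  exact NoWrFree.exists_pos hG S hT (E.nonFree_tt E₂ hn₂ hne) E.card E₂.card

/-- **Piece E, natural partner** -/
theorem endNat (hA : HasT.{u}) : EndNat.{u} := by
  intro G _ _ hG S hT P₁ P₂ y m A ε hm hl hN hc₁ hc₂
  have hc := hG.char2
  have hm2 : 2 ≤ m := by omega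
  obtain ⟨cz1, cz2⟩ := NatStep.natStep G hc S P₁ P₂ y m A ε hm2 hl hN
  obtain ⟨F, i1, i2, i3, ⟨M⟩⟩ := hN
  have hF := F4Leaf.NatStep.card_F hc hm2 hl M
  have hev := hl.split.even
  have hP₁ := hl.pair.star₁
  have hP₂ := hl.pair.star₂
  have s₁ : Pos.Sit S P₁ m A ε := ⟨hc, hP₁, hm2, hl.split⟩
  obtain ⟨r, hr, hrw⟩ := Cen.Entry.nat_two hc hP₂ M hF
  obtain ⟨b, hb, i, j, hij, hbs⟩ := S5.Nat.exists_swap hev hl.side (Cen.Entry.not_le_cent hc hl)
  have e0 := hbs.single i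
  rw [Equiv.swap_apply_left] at e0
  have hne1 : rr ε i j ≠ 1 := rr_ne_one hev s₁.three hij
  have hrr : rr ε i j * rr ε i j = 1 := rr_sq hev i j
  -- `S^y` acts on `V'`
  have hact : ∀ q ∈ cj y (S : Subgroup G), ∀ w ∈ cj y (zl (S : Subgroup G) P₂),
      q * w * q⁻¹ = w ∨ q * w * q⁻¹ = (y * r * y⁻¹) * w := by
    intro q hq w hw
    rcases hrw _ (mem_cj.1 hq) _ (mem_cj.1 hw) with h1 | h1
    · left
      calc q * w * q⁻¹ = y * (y⁻¹ * q * y * (y⁻¹ * w * y) * (y⁻¹ * q * y)⁻¹) * y⁻¹ := by group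
        _ = w := by rw [h1]; group
    · right
      calc q * w * q⁻¹ = y * (y⁻¹ * q * y * (y⁻¹ * w * y) * (y⁻¹ * q * y)⁻¹) * y⁻¹ := by group
        _ = (y * r * y⁻¹) * w := by rw [h1]; group
  -- `n = r^y`
  have hnr : rr ε i j = y * r * y⁻¹ := by
    have h0 : zz ε i ∈ zl (S : Subgroup G) P₁ := hl.split.A_le (zz_mem hev i)
    have h2 : zz ε i * b * (zz ε i)⁻¹ * b⁻¹ = rr ε i j := by
      rw [show (zz ε i)⁻¹ = zz ε i from hev.inv _, rr]
      calc zz ε i * b * zz ε i * b⁻¹ = zz ε i * (b * zz ε i * b⁻¹) := by group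
        _ = zz ε i * zz ε j := by rw [show b * zz ε i * b⁻¹ = zz ε j from e0]
    rcases hact _ (hl.ge h0) b hb with h1 | h1
    · rw [h1, mul_inv_cancel] at h2
      exact absurd h2.symm hne1
    · rw [h1, mul_inv_cancel_right] at h2
      exact h2.symm
  have hSn : ∀ q ∈ cj y (S : Subgroup G), q * rr ε i j * q⁻¹ = rr ε i j := by
    intro q hq
    have h1 : (y⁻¹ * q * y) * r * (y⁻¹ * q * y)⁻¹ = r := comm_iff.2 ((mem_zc.1 hr).2.1 _ (mem_cj.1 hq))
    rw [hnr]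
    calc q * (y * r * y⁻¹) * q⁻¹ = y * ((y⁻¹ * q * y) * r * (y⁻¹ * q * y)⁻¹) * y⁻¹ := by group
      _ = y * r * y⁻¹ := by rw [h1]
  have hSn' : ((y • S : Sylow 2 G) : Subgroup G) ≤ centralizer {rr ε i j} := by
    intro x hx
    rw [mem_smul] at hx
    exact mem_cent.2 (hSn x (mem_cj.2 hx))
  have hcen : TwoCen (rr ε i j) := ⟨y • S, hSn'⟩
  have hQS : ∀ q ∈ o2 (centralizer ({rr ε i j} : Set G)), q ∈ cj y (S : Subgroup G) := by
    intro q hq
    have h2 := o2_le_of_sylow (y • S : Sylow 2 G).isPGroup'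
      (MinSimple.Basic.not_dvd_relIndex (y • S : Sylow 2 G) hSn') hq
    rw [mem_cj]
    exact mem_smul.1 h2
  have hQW : ∀ q ∈ o2 (centralizer ({rr ε i j} : Set G)), ∀ w ∈ cj y (zl (S : Subgroup G) P₂),
      q * w * q⁻¹ = w ∨ q * w * q⁻¹ = rr ε i j * w := by
    intro q hq w hw
    rw [hnr]
    exact hact q (hQS q hq) w hw
  have hWQ : cj y (zl (S : Subgroup G) P₂) ≤ o2 (centralizer ({rr ε i j} : Set G)) := by
    intro w hw
    have hwS : w ∈ cj y (S : Subgroup G) := by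
      rw [mem_cj] at hw ⊢
      exact ((hP₂.isLoc.zl_le S hc).trans (zc_le _)).trans (hP₂.isLoc.o2_le S) hw
    refine S5.Mod.le_o2_of_comm hc (by rw [sq]; exact hrr) hne1 (comm_iff.1 (hSn w hwS)) fun q hq => ?_
    rcases hQW q hq w hw with h1 | h1
    · left
      rw [comm_iff] at h1
      calc w * q * w⁻¹ * q⁻¹ = (q * w) * w⁻¹ * q⁻¹ := by rw [h1]
        _ = 1 := by group
    · right
      have h2 : q * w = rr ε i j * w * q := by rw [← h1]; group
      calc w * q * w⁻¹ * q⁻¹ = rr ε i j * rr ε i j * w * q * w⁻¹ * q⁻¹ := by rw [hrr, one_mul]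
        _ = rr ε i j * (rr ε i j * w * q) * w⁻¹ * q⁻¹ := by group
        _ = rr ε i j * (q * w) * w⁻¹ * q⁻¹ := by rw [h2]
        _ = rr ε i j := by group
  have hbQ := hWQ hb
  have hbW : b ∈ WP ε i j := by
    refine mem_WP.2 ⟨o2_le _ hbQ, fun q hq => ?_⟩
    rcases hQW q hq b hb with h1 | h1
    · have h2 : b * q * b⁻¹ * q⁻¹ = 1 := by
        rw [comm_iff] at h1
        calc b * q * b⁻¹ * q⁻¹ = (q * b) * b⁻¹ * q⁻¹ := by rw [h1]
          _ = 1 := by group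
      rw [h2]
      exact one_mem _
    · have h2 : q * b = rr ε i j * b * q := by rw [← h1]; group
      have h3 : b * q * b⁻¹ * q⁻¹ = rr ε i j := by
        calc b * q * b⁻¹ * q⁻¹ = rr ε i j * rr ε i j * b * q * b⁻¹ * q⁻¹ := by rw [hrr, one_mul]
          _ = rr ε i j * (rr ε i j * b * q) * b⁻¹ * q⁻¹ := by group
          _ = rr ε i j * (q * b) * b⁻¹ * q⁻¹ := by rw [h2]
          _ = rr ε i j := by group
      rw [h3]
      exact mem_zpowers _
  obtain ⟨c, R, k, E⟩ := exists_ex hA s₁ hc₁ hij ⟨b, hl.le hb, hbs⟩ ⟨b, hbW, hbs⟩ hcen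
  have hne : ⁅zl (S : Subgroup G) P₁, MulAut.conj y • zl (S : Subgroup G) P₂⁆ ≠ ⊥ := hl.pair.ne
  have hnz : y⁻¹ * rr ε i j * y ∈ zc (S : Subgroup G) := by
    have e : y⁻¹ * rr ε i j * y = r := by rw [hnr]; group
    rw [e]
    exact hr
  exact NoWrFree.exists_pos hG S hT (E.nonFree_nat hP₂ hWQ hnz hne hc₂) E.card (by omega)

end Cfsg.Agent.Omega.F4Leaf.Syl.EndCMain

end

section


/-!
# LeafF4, piece E, complete (helper778): `EndTT`, `EndNat` of `Syl/Main.lean`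

* `exists_tone` : a moved line and `m ≥ 3` give `TOne` (pieces A: helper758, helper628);
* `pos_of_moved` : a moved line, `n` 2-central: the position `HTwo.Entry.Pos` (pair `(R, R^h)`), any `m ≥ 2`;
* `endTT : Main.EndTT`, `endNat : Main.EndNat` (from `Mix.nonab`, `MixS.mix_sym`, helper300, helper994).
-/

set_option autoImplicit false
set_option linter.dupNamespace false
set_option linter.unusedSectionVars false

namespace Cfsg.Agent.Omega.F4Leaf.Syl.EndCPure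

open Subgroup Pointwise Cfsg Cfsg.Agent Cfsg.Agent.Omega.MinPar
open Cfsg.Agent.ZN (o2 zc zl)
open Cfsg.Agent.ZN.ChoiceBase (cj mem_cj)
open Cfsg.Agent.Omega.Frame Cfsg.Agent.Omega.FFThm
open Cfsg.Agent.Omega.FrameLE (AllIn)
open Cfsg.Agent.Omega.FrameFF (cv Single Free)
open Cfsg.Agent.Omega.FrameMulti (IsSym IsNat Typed AllTyped)
open Cfsg.Agent.Omega.HOne.Main (NonFree)
open Cfsg.Agent.Omega.S5.Def Cfsg.Agent.Omega.S5.Syl Cfsg.Agent.Omega.S5.Pair Cfsg.Agent.Omega.S5.Main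
open Cfsg.Agent.Omega.S5.SymBig (H2 pos_symm rr_cj NN_cj)
open Cfsg.Agent.Omega.F4Leaf.Def Cfsg.Agent.Omega.F4Leaf.Main Cfsg.Agent.Omega.F4Leaf.Two
open Cfsg.Agent.Omega.F4Leaf.Pos Cfsg.Agent.Omega.F4Leaf.Facts
open Cfsg.Agent.Omega.NSix.Base Cfsg.Agent.Omega.NSix.Basic
open Cfsg.Agent.Omega.NSix.Zero (WP mem_WP WP_norm WP_conj zpow_cases)
open Cfsg.Agent.Omega.NTwo (nn cm cc ci comm_iff mem_cent mem_smul o2_cent_conj o2_cent_conj' mem_csmul csmul_mem)
open Cfsg.Agent.Omega.F4Leaf.Syl.Main (TwoCen EndTT EndNat nonAb_cj)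
open Cfsg.Agent.Omega.F4Leaf.Syl.Mix (NonAb nonab)
open Cfsg.Agent.Omega.F4Leaf.Syl.EndC
open Cfsg.Agent.Omega.HT.LineOf (ln dd)
open Cfsg.Agent.MinSimple.VModule (o2_isPGroup o2_le le_o2 le_normalizer_o2 o2_le_of_sylow mem_zc zc_le
  le_normalizer_zl zl_comm zl_sq zc_le_zl zl_le normalizer_le_normalizer_zc)

universe u

section one

variable {G : Type u} [Group G] [Finite G] {S : Sylow 2 G} {P : Subgroup G} {m : ℕ} {A : Subgroup G}
  {ε : (Fin (2 ^ m + 1) → ZMod 2) → G} (h : Sit S P m A ε) {i j : Fin (2 ^ m + 1)}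
include h

theorem ne_zero_of (hij : i ≠ j) (hs : ∃ s ∈ (S : Subgroup G), Acts ε s (Equiv.swap i j)) : i ≠ 0 ∧ j ≠ 0 := by
  have h0 : ∀ k, Equiv.swap i j k ≠ k → k ≠ 0 := by
    rintro k hk rfl
    obtain ⟨s, hs1, hs2⟩ := hs
    exact hk (h.split.fix0 s hs1 _ hs2)
  exact ⟨h0 i (by rw [Equiv.swap_apply_left]; exact hij.symm), h0 j (by rw [Equiv.swap_apply_right]; exact hij)⟩

theorem mov_of (hij : i ≠ j) (hw : ∃ w ∈ WP ε i j, Acts ε w (Equiv.swap i j)) :
    ∃ i j, i ≠ j ∧ ∃ g ∈ WP ε i j, ¬ g ∈ centralizer (A : Set G) := by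
  obtain ⟨w, hw1, hw2⟩ := hw
  refine ⟨i, j, hij, w, hw1, fun h1 => hij ?_⟩
  have h2 := h.split.even.acts_one_iff.2 h1
  have h3 := hw2.single i
  have h4 := h2.single i
  rw [Equiv.swap_apply_left] at h3
  rw [h3] at h4
  exact (h.split.even.single_inj h.three h4).symm

/-- **pieces A**, a moved line -/
theorem exists_tone (hm : 3 ≤ m) (hcv : cv (S : Subgroup G) P ≠ ⊥) (hij : i ≠ j)
    (hs : ∃ s ∈ (S : Subgroup G), Acts ε s (Equiv.swap i j)) (hw : ∃ w ∈ WP ε i j, Acts ε w (Equiv.swap i j))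
    (hM : NonAb ε i j 0) : ∃ T, TOne (S : Subgroup G) ε i j T := by
  obtain ⟨hi, hj⟩ := ne_zero_of h hij hs
  have hmov := mov_of h hij hw
  have hP : TSyl.Part A ε i j := by
    obtain ⟨k, hk, h1⟩ := hM
    exact ⟨k, hk, _, rr_mem h.split.even i 0, _, rr_mem h.split.even i 0, h1⟩
  obtain ⟨T, hT⟩ := Inst.exists_fr h hm hij hi hj hs hmov hP (LemF.lemF_duad h hmov hij hi hj hs) hcv
  refine ⟨T, hT.leN, hT.p, hT.odd, hT.le, fun t ht => ?_⟩
  have hu : rr ε i 0 ∈ ln (TSyl.line h hij hi hj) := (TSyl.line h hij hi hj).dd_mem 1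
  have h1 : t * rr ε i 0 * t⁻¹ ∈ ln (TSyl.line h hij hi hj) := (mem_normalizer_iff.1 (hT.nrm ht) _).1 hu
  have hr : t * rr ε i j * t⁻¹ = rr ε i j := mem_NN'.1 (hT.leN ht)
  rcases (TSyl.line h hij hi hj).mem_ln.1 h1 with h2 | ⟨s, h2⟩
  · exfalso
    have h3 : rr ε i 0 = 1 := by
      have e : rr ε i 0 = t⁻¹ * (t * rr ε i 0 * t⁻¹) * t := by group
      rw [e, h2]
      group
    exact rr_ne_one h.split.even h.three hi h3
  · fin_cases s
    · exfalso
      have h3 : t * rr ε i 0 * t⁻¹ = t * rr ε i j * t⁻¹ := h2.trans hr.symm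
      have h4 : rr ε i 0 = rr ε i j := mul_left_cancel (mul_right_cancel h3)
      exact hj (h.split.even.single_inj h.three (mul_left_cancel h4)).symm
    · exact Or.inl h2
    · right
      rw [h2]
      exact TSyl.dd_two h i j

/-- the member `R` -/
theorem exists_exM (hcv : cv (S : Subgroup G) P ≠ ⊥) (hij : i ≠ j)
    (hs : ∃ s ∈ (S : Subgroup G), Acts ε s (Equiv.swap i j)) (hw : ∃ w ∈ WP ε i j, Acts ε w (Equiv.swap i j))
    (hM : NonAb ε i j 0) (hc : TwoCen (rr ε i j)) : ∃ c R k, ExG S P (rr ε i j) c R k := by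
  by_cases h3 : 3 ≤ m
  · obtain ⟨T, hT⟩ := exists_tone h h3 hcv hij hs hw hM
    obtain ⟨hi, hj⟩ := ne_zero_of h hij hs
    obtain ⟨R, k, E⟩ := exists_exG h (mov_of h hij hw) hcv hij hi hj hT hc
    exact ⟨_, R, k, E⟩
  · obtain rfl : m = 2 := by have := h.m2; omega
    exact EndCMain.exists_two h hij hs hw hc

/-- **a moved line, `n` 2-central** -/
theorem pos_of_moved (hG : Ctx G) (hT : AllTyped (S : Subgroup G)) (hcv : cv (S : Subgroup G) P ≠ ⊥) (hij : i ≠ j)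
    (hs : ∃ s ∈ (S : Subgroup G), Acts ε s (Equiv.swap i j)) (hw : ∃ w ∈ WP ε i j, Acts ε w (Equiv.swap i j))
    (hM : NonAb ε i j 0) (hc : TwoCen (rr ε i j)) :
    ∃ (P V : Subgroup G) (ι : Type u) (R : ι → Subgroup G) (o : ι) (r z : G), HTwo.Entry.Pos S P V R o r z := by
  obtain ⟨c, R, k, E⟩ := exists_exM h hcv hij hs hw hM hc
  obtain ⟨g, hg, hne⟩ := hM
  have hgr : g * rr ε i j * g⁻¹ = rr ε i j := mem_NN'.1 hg
  refine NoWrFree.exists_pos hG S hT (E.nonFree_tt E hgr fun h0 => hne ?_) E.card E.card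
  rw [commutator_eq_bot_iff_le_centralizer] at h0
  have h1 := rr_V h i 0
  have h2 : g * rr ε i 0 * g⁻¹ ∈ (MulAut.conj g • zl (S : Subgroup G) P : Subgroup G) := csmul_mem h1
  exact (mem_centralizer_iff.mp (h0 h1) _ h2).symm

end one

/-- **Piece E, T-T** -/
theorem endTT : EndTT.{u} := by
  intro G _ _ hG S hT P₁ P₂ y m m' A ε A₂ ε₂ hm hm' hbig hl hc₁ hc₂ hall
  have hc := hG.char2
  obtain ⟨i, j, k, l, hij, hkl, hr, ⟨b, hb, hb1⟩, -, ⟨a, ha, ha1⟩, -⟩ := exists_common hc hl hm hm'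
  have s₁ : Pos.Sit S P₁ m A ε := ⟨hc, hl.pair.star₁, hm, hl.split⟩
  have s₂ : Pos.Sit S P₂ m' A₂ ε₂ := ⟨hc, hl.pair.star₂, hm', hl.split₂⟩
  have hw := wp_eq hr
  have hbS' : b ∈ (S : Subgroup G) := hl.le (map_mono hl.split₂.A_le hb)
  have haS' : y⁻¹ * a * y ∈ (S : Subgroup G) := mem_cj.mp (hl.ge (hl.split.A_le ha))
  have ha2' : Acts ε₂ (y⁻¹ * a * y) (Equiv.swap k l) := by
    rw [← acts_conj_label_iff y]
    have e : y * (y⁻¹ * a * y) * y⁻¹ = a := by group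
    rwa [e]
  obtain ⟨hi, hj⟩ := ne_zero_of s₁ hij ⟨b, hbS', hb1⟩
  obtain ⟨hk, hl0⟩ := ne_zero_of s₂ hkl ⟨_, haS', ha2'⟩
  rcases nonab hc hl hm hm' (Or.inl hc₁) hij hkl hr ⟨b, hb, hb1⟩ with hM | hM
  · replace hM := hM 0 hi.symm hj.symm
    have hbS : b ∈ (S : Subgroup G) := hl.le (map_mono hl.split₂.A_le hb)
    have hbW : b ∈ WP ε i j := by
      rw [hw]
      exact (s₂.fac.conj y).mem_wp hkl hb
    exact pos_of_moved s₁ hG hT hc₁ hij ⟨b, hbS, hb1⟩ ⟨b, hbW, hb1⟩ hM (hall i j)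
  · replace hM := hM 0 hk.symm hl0.symm
    have haS : y⁻¹ * a * y ∈ (S : Subgroup G) := mem_cj.mp (hl.ge (hl.split.A_le ha))
    have haW : y⁻¹ * a * y ∈ WP ε₂ k l := by
      refine Main.wp_cj ?_
      rw [← hw]
      exact s₁.fac.mem_wp hij ha
    have ha2 : Acts ε₂ (y⁻¹ * a * y) (Equiv.swap k l) := by
      rw [← acts_conj_label_iff y]
      have e : y * (y⁻¹ * a * y) * y⁻¹ = a := by group
      rwa [e]
    have hn₂ : y * rr ε₂ k l * y⁻¹ = rr ε i j := by rw [hr, rr_cj]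
    have hc2 : TwoCen (rr ε₂ k l) := by
      have h1 := (hall i j).conj y⁻¹
      have e : y⁻¹ * rr ε i j * y⁻¹⁻¹ = rr ε₂ k l := by rw [← hn₂]; group
      rwa [e] at h1
    exact pos_of_moved s₂ hG hT hc₂ hkl ⟨_, haS, ha2⟩ ⟨_, haW, ha2⟩ (nonAb_cj hM) hc2

/-- the dichotomy for a natural partner (helper300, `Syl/NatBoth.lean`) -/
def NatBoth : Prop :=
  ∀ (G : Type u) [Group G] [Finite G], IsCharacteristicTwoType G → ∀ (S : Sylow 2 G) (P₁ P₂ : Subgroup G) (y : G)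
    (m : ℕ) (A : Subgroup G) (ε : (Fin (2 ^ m + 1) → ZMod 2) → G), 2 ≤ m → LabZ S P₁ P₂ y m A ε →
    IsNat (S : Subgroup G) P₂ 1 → cv (S : Subgroup G) P₁ ≠ ⊥ → ∀ i j : Fin (2 ^ m + 1), i ≠ j →
      (∃ b ∈ cj y (zl (S : Subgroup G) P₂), Acts ε b (Equiv.swap i j)) →
        (∀ o, o ≠ i → o ≠ j → NonAb ε i j o) ∨ ∃ g, Mutual (S : Subgroup G) P₂ P₂ g

/-- **Piece E, natural partner** -/
theorem endNat_of (hB : NatBoth.{u}) : EndNat.{u} := by
  intro G _ _ hG S hT P₁ P₂ y m A ε hm hl hN hc₁ hc₂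
  have hc := hG.char2
  have hm2 : 2 ≤ m := by omega
  obtain ⟨cz1, cz2⟩ := NatStep.natStep G hc S P₁ P₂ y m A ε hm2 hl hN
  have hN' := hN
  obtain ⟨F, i1, i2, i3, ⟨M⟩⟩ := hN
  have hF := F4Leaf.NatStep.card_F hc hm2 hl M
  have hev := hl.split.even
  have hP₁ := hl.pair.star₁
  have hP₂ := hl.pair.star₂
  have s₁ : Pos.Sit S P₁ m A ε := ⟨hc, hP₁, hm2, hl.split⟩
  obtain ⟨r, hr, hrw⟩ := Cen.Entry.nat_two hc hP₂ M hF
  obtain ⟨b, hb, i, j, hij, hbs⟩ := S5.Nat.exists_swap hev hl.side (Cen.Entry.not_le_cent hc hl)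
  have e0 := hbs.single i
  rw [Equiv.swap_apply_left] at e0
  have hne1 : rr ε i j ≠ 1 := rr_ne_one hev s₁.three hij
  have hrr : rr ε i j * rr ε i j = 1 := rr_sq hev i j
  -- `S^y` acts on `V'`
  have hact : ∀ q ∈ cj y (S : Subgroup G), ∀ w ∈ cj y (zl (S : Subgroup G) P₂),
      q * w * q⁻¹ = w ∨ q * w * q⁻¹ = (y * r * y⁻¹) * w := by
    intro q hq w hw
    rcases hrw _ (mem_cj.1 hq) _ (mem_cj.1 hw) with h1 | h1
    · left
      calc q * w * q⁻¹ = y * (y⁻¹ * q * y * (y⁻¹ * w * y) * (y⁻¹ * q * y)⁻¹) * y⁻¹ := by group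
        _ = w := by rw [h1]; group
    · right
      calc q * w * q⁻¹ = y * (y⁻¹ * q * y * (y⁻¹ * w * y) * (y⁻¹ * q * y)⁻¹) * y⁻¹ := by group
        _ = (y * r * y⁻¹) * w := by rw [h1]; group
  -- `n = r^y`
  have hnr : rr ε i j = y * r * y⁻¹ := by
    have h0 : zz ε i ∈ zl (S : Subgroup G) P₁ := hl.split.A_le (zz_mem hev i)
    have h2 : zz ε i * b * (zz ε i)⁻¹ * b⁻¹ = rr ε i j := by
      rw [show (zz ε i)⁻¹ = zz ε i from hev.inv _, rr]
      calc zz ε i * b * zz ε i * b⁻¹ = zz ε i * (b * zz ε i * b⁻¹) := by group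
        _ = zz ε i * zz ε j := by rw [show b * zz ε i * b⁻¹ = zz ε j from e0]
    rcases hact _ (hl.ge h0) b hb with h1 | h1
    · rw [h1, mul_inv_cancel] at h2
      exact absurd h2.symm hne1
    · rw [h1, mul_inv_cancel_right] at h2
      exact h2.symm
  have hSn : ∀ q ∈ cj y (S : Subgroup G), q * rr ε i j * q⁻¹ = rr ε i j := by
    intro q hq
    have h1 : (y⁻¹ * q * y) * r * (y⁻¹ * q * y)⁻¹ = r := comm_iff.2 ((mem_zc.1 hr).2.1 _ (mem_cj.1 hq))
    rw [hnr]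
    calc q * (y * r * y⁻¹) * q⁻¹ = y * ((y⁻¹ * q * y) * r * (y⁻¹ * q * y)⁻¹) * y⁻¹ := by group
      _ = y * r * y⁻¹ := by rw [h1]
  have hSn' : ((y • S : Sylow 2 G) : Subgroup G) ≤ centralizer {rr ε i j} := by
    intro x hx
    rw [mem_smul] at hx
    exact mem_cent.2 (hSn x (mem_cj.2 hx))
  have hcen : TwoCen (rr ε i j) := ⟨y • S, hSn'⟩
  have hQS : ∀ q ∈ o2 (centralizer ({rr ε i j} : Set G)), q ∈ cj y (S : Subgroup G) := by
    intro q hq
    have h2 := o2_le_of_sylow (y • S : Sylow 2 G).isPGroup'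
      (MinSimple.Basic.not_dvd_relIndex (y • S : Sylow 2 G) hSn') hq
    rw [mem_cj]
    exact mem_smul.1 h2
  have hQW : ∀ q ∈ o2 (centralizer ({rr ε i j} : Set G)), ∀ w ∈ cj y (zl (S : Subgroup G) P₂),
      q * w * q⁻¹ = w ∨ q * w * q⁻¹ = rr ε i j * w := by
    intro q hq w hw
    rw [hnr]
    exact hact q (hQS q hq) w hw
  have hWQ : cj y (zl (S : Subgroup G) P₂) ≤ o2 (centralizer ({rr ε i j} : Set G)) := by
    intro w hw
    have hwS : w ∈ cj y (S : Subgroup G) := by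
      rw [mem_cj] at hw ⊢
      exact ((hP₂.isLoc.zl_le S hc).trans (zc_le _)).trans (hP₂.isLoc.o2_le S) hw
    refine S5.Mod.le_o2_of_comm hc (by rw [sq]; exact hrr) hne1 (comm_iff.1 (hSn w hwS)) fun q hq => ?_
    rcases hQW q hq w hw with h1 | h1
    · left
      rw [comm_iff] at h1
      calc w * q * w⁻¹ * q⁻¹ = (q * w) * w⁻¹ * q⁻¹ := by rw [h1]
        _ = 1 := by group
    · right
      have h2 : q * w = rr ε i j * w * q := by rw [← h1]; group
      calc w * q * w⁻¹ * q⁻¹ = rr ε i j * rr ε i j * w * q * w⁻¹ * q⁻¹ := by rw [hrr, one_mul]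
        _ = rr ε i j * (rr ε i j * w * q) * w⁻¹ * q⁻¹ := by group
        _ = rr ε i j * (q * w) * w⁻¹ * q⁻¹ := by rw [h2]
        _ = rr ε i j := by group
  have hbQ := hWQ hb
  have hbW : b ∈ WP ε i j := by
    refine mem_WP.2 ⟨o2_le _ hbQ, fun q hq => ?_⟩
    rcases hQW q hq b hb with h1 | h1
    · have h2 : b * q * b⁻¹ * q⁻¹ = 1 := by
        rw [comm_iff] at h1
        calc b * q * b⁻¹ * q⁻¹ = (q * b) * b⁻¹ * q⁻¹ := by rw [h1]
          _ = 1 := by group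
      rw [h2]
      exact one_mem _
    · have h2 : q * b = rr ε i j * b * q := by rw [← h1]; group
      have h3 : b * q * b⁻¹ * q⁻¹ = rr ε i j := by
        calc b * q * b⁻¹ * q⁻¹ = rr ε i j * rr ε i j * b * q * b⁻¹ * q⁻¹ := by rw [hrr, one_mul]
          _ = rr ε i j * (rr ε i j * b * q) * b⁻¹ * q⁻¹ := by group
          _ = rr ε i j * (q * b) * b⁻¹ * q⁻¹ := by rw [h2]
          _ = rr ε i j := by group
      rw [h3]
      exact mem_zpowers _
  obtain ⟨hi, hj⟩ := ne_zero_of s₁ hij ⟨b, hl.le hb, hbs⟩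
  rcases hB G hc S P₁ P₂ y m A ε hm2 hl hN' hc₁ i j hij ⟨b, hb, hbs⟩ with hM | ⟨g, hg⟩
  · exact pos_of_moved s₁ hG hT hc₁ hij ⟨b, hl.le hb, hbs⟩ ⟨b, hbW, hbs⟩ (hM 0 hi.symm hj.symm) hcen
  · exact NoWrFree.exists_pos hG S hT ⟨hg, hc₂, hc₂⟩ (by omega) (by omega)

end Cfsg.Agent.Omega.F4Leaf.Syl.EndCPure

end

end
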